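import Mathlib

/-!
A simplicity criterion for transitive groups given by suborbits: if no proper union of suborbits with the
base point has size dividing the degree, and some prime p divides the degree but p² does not divide the order,
then a group generated by t, s with t² = s³ = 1 and (ts)^p = 1 is simple.
-/

set_option autoImplicit false

namespace Cfsg.Agent.Lib.RuPerm.Criterion

variable {G Ω : Type*} [Group G] [MulAction G Ω]

/-- A normal subgroup fixes every point or has order divisible by the degree. -/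
theorem fix_or_dvd [Finite Ω] [MulAction.IsPretransitive G Ω] (N : Subgroup G) [N.Normal] (x : Ω) {k : ℕ}
    (n : Fin k → ℕ) (O : Fin k → Set Ω) (hn : ∀ i, (O i).ncard ≤ n i)
    (hconn : ∀ i, ∀ a ∈ O i, ∀ b ∈ O i, ∃ h : G, h • x = x ∧ h • a = b)
    (hcover : ∀ a, a ≠ x → ∃ i, a ∈ O i) (hcard : Nat.card Ω = 1 + ∑ i, n i)
    (harith : ∀ I : Finset (Fin k), I.Nonempty → (1 + ∑ i ∈ I, n i) ∣ Nat.card Ω → I = Finset.univ) :
    (∀ g ∈ N, ∀ a : Ω, g • a = a) ∨ Nat.card Ω ∣ Nat.card N := by
  classical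
  have := Fintype.ofFinite Ω
  set D : Set Ω := MulAction.orbit N x with hD
  have hdN : D.ncard ∣ Nat.card N := by
    rw [hD, ← MulAction.index_stabilizer]
    exact Subgroup.index_dvd_card _
  have hdΩ : D.ncard ∣ Nat.card Ω :=
    (MulAction.IsBlock.orbit_of_normal (N := N) x).ncard_dvd_card ⟨x, MulAction.mem_orbit_self _⟩
  by_cases h1 : D = {x}
  · left
    intro g hg a
    obtain ⟨u, rfl⟩ := MulAction.exists_smul_eq G x a
    have hm : u⁻¹ * g * u ∈ N := by
      have := Subgroup.Normal.conj_mem (inferInstance : N.Normal) g hg u⁻¹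
      rwa [inv_inv] at this
    have h2 : (⟨u⁻¹ * g * u, hm⟩ : N) • x ∈ D := MulAction.mem_orbit _ _
    rw [h1, Set.mem_singleton_iff] at h2
    have h3 : (u⁻¹ * g * u) • x = x := h2
    calc g • u • x = u • ((u⁻¹ * g * u) • x) := by rw [← mul_smul, ← mul_smul]; congr 1; group
      _ = u • x := by rw [h3]
  right
  choose κ hκ using hcover
  let T : Fin k → Set Ω := fun i => {a | ∃ h : a ≠ x, κ a h = i}
  have hTO : ∀ i, T i ⊆ O i := by
    rintro i a ⟨h, rfl⟩
    exact hκ a h
  have hTdisj : ∀ i j, i ≠ j → Disjoint (T i) (T j) := by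
    intro i j hij
    rw [Set.disjoint_left]
    rintro a ⟨h, rfl⟩ ⟨h', h''⟩
    exact hij h''
  have hsum : ∀ I : Finset (Fin k), (⋃ i ∈ I, T i).ncard = ∑ i ∈ I, (T i).ncard := by
    intro I
    induction I using Finset.induction_on with
    | empty => simp
    | insert i I hi ih =>
      rw [Finset.set_biUnion_insert, Finset.sum_insert hi, Set.ncard_union_eq, ih]
      rw [Set.disjoint_iUnion₂_right]
      exact fun j hj => hTdisj i j fun e => hi (e ▸ hj)
  have hxT : ∀ I : Finset (Fin k), x ∉ ⋃ i ∈ I, T i := by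
    intro I h
    simp only [Set.mem_iUnion] at h
    obtain ⟨i, -, hne, -⟩ := h
    exact hne rfl
  have hTn : ∀ i, (T i).ncard = n i := by
    have hall : (insert x (⋃ i ∈ (Finset.univ : Finset (Fin k)), T i)) = Set.univ := by
      refine Set.eq_univ_of_forall fun a => ?_
      by_cases h : a = x
      · exact Or.inl h
      · exact Or.inr (Set.mem_iUnion₂.2 ⟨κ a h, Finset.mem_univ _, h, rfl⟩)
    have hc := congrArg Set.ncard hall
    rw [Set.ncard_insert_of_notMem (hxT _), hsum, Set.ncard_univ, hcard] at hc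
    have hle : ∀ i ∈ (Finset.univ : Finset (Fin k)), (T i).ncard ≤ n i := fun i _ =>
      (Set.ncard_le_ncard (hTO i)).trans (hn i)
    intro i
    exact (Finset.sum_eq_sum_iff_of_le hle).1 (by omega) i (Finset.mem_univ i)
  set I : Finset (Fin k) := Finset.univ.filter fun i => ∃ a ∈ D, a ∈ T i with hI
  have hDeq : D = insert x (⋃ i ∈ I, T i) := by
    ext a
    constructor
    · intro ha
      by_cases h : a = x
      · exact Or.inl h
      · refine Or.inr (Set.mem_iUnion₂.2 ⟨κ a h, ?_, h, rfl⟩)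
        simp only [hI, Finset.mem_filter, Finset.mem_univ, true_and]
        exact ⟨a, ha, h, rfl⟩
    · intro ha
      rcases ha with rfl | ha
      · exact MulAction.mem_orbit_self _
      obtain ⟨i, hi, hai⟩ := Set.mem_iUnion₂.1 ha
      simp only [hI, Finset.mem_filter, Finset.mem_univ, true_and] at hi
      obtain ⟨b, hbD, hb⟩ := hi
      obtain ⟨h, hhx, hhb⟩ := hconn i b (hTO i hb) a (hTO i hai)
      obtain ⟨m, rfl⟩ := hbD
      refine ⟨⟨h * m * h⁻¹, Subgroup.Normal.conj_mem (inferInstance : N.Normal) m m.2 h⟩, ?_⟩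
      show (h * (m : G) * h⁻¹) • x = a
      rw [← hhb, mul_smul, mul_smul, show h⁻¹ • x = x from inv_smul_eq_iff.2 hhx.symm]
      rfl
  have hDc : D.ncard = 1 + ∑ i ∈ I, n i := by
    rw [hDeq, Set.ncard_insert_of_notMem (hxT _), hsum, Finset.sum_congr rfl fun i _ => hTn i]
    exact Nat.add_comm _ _
  have hIne : I.Nonempty := by
    by_contra hI0
    rw [Finset.not_nonempty_iff_eq_empty] at hI0
    apply h1
    rw [hDeq, hI0]
    simp
  rw [hcard, ← harith I hIne (hDc ▸ hdΩ), ← hDc]
  exact hdN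

/-- The simplicity criterion. -/
theorem isSimpleGroup_of [Finite G] [Finite Ω] [MulAction.IsPretransitive G Ω] [Nontrivial G]
    (hfaith : ∀ g : G, (∀ a : Ω, g • a = a) → g = 1) (x : Ω) {k : ℕ}
    (n : Fin k → ℕ) (O : Fin k → Set Ω) (hn : ∀ i, (O i).ncard ≤ n i)
    (hconn : ∀ i, ∀ a ∈ O i, ∀ b ∈ O i, ∃ h : G, h • x = x ∧ h • a = b)
    (hcover : ∀ a, a ≠ x → ∃ i, a ∈ O i) (hcard : Nat.card Ω = 1 + ∑ i, n i)
    (harith : ∀ I : Finset (Fin k), I.Nonempty → (1 + ∑ i ∈ I, n i) ∣ Nat.card Ω → I = Finset.univ)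
    {p : ℕ} (hp : p.Prime) (hpn : p ∣ Nat.card Ω) (hp2 : ¬ p ^ 2 ∣ Nat.card G)
    {t s : G} (hgen : Subgroup.closure ({t, s} : Set G) = ⊤) (ht : t ^ 2 = 1) (hs : s ^ 3 = 1)
    (hts : (t * s) ^ p = 1) : IsSimpleGroup G := by
  refine ⟨fun N hN => ?_⟩
  rcases fix_or_dvd N x n O hn hconn hcover hcard harith with h | h
  · left
    rw [eq_bot_iff]
    intro g hg
    exact Subgroup.mem_bot.2 (hfaith g (h g hg))
  right
  have hidx : ¬ p ∣ N.index := by
    intro hd
    refine hp2 ?_
    rw [← N.card_mul_index, pow_two]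
    exact mul_dvd_mul (hpn.trans h) hd
  set π := QuotientGroup.mk' N
  have hq : π t * π s = 1 := by
    have h1 : orderOf (π t * π s) ∣ p := orderOf_dvd_of_pow_eq_one (by rw [← map_mul, ← map_pow, hts, map_one])
    have h2 : orderOf (π t * π s) ∣ N.index := by
      rw [Subgroup.index_eq_card]
      exact orderOf_dvd_natCard _
    rcases (Nat.dvd_prime hp).1 h1 with h3 | h3
    · exact orderOf_eq_one_iff.1 h3
    · rw [h3] at h2; exact absurd h2 hidx
  have hts' : π t = (π s)⁻¹ := eq_inv_of_mul_eq_one_left hq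
  have hs1 : π s = 1 := by
    have h2 : π s ^ 2 = 1 := by rw [← inv_inj, ← inv_pow, ← hts', ← map_pow, ht, map_one, inv_one]
    have h3 : π s ^ 3 = 1 := by rw [← map_pow, hs, map_one]
    rw [pow_succ, h2, one_mul] at h3
    exact h3
  rw [eq_top_iff, ← hgen, Subgroup.closure_le]
  rintro g (rfl | rfl)
  · exact (QuotientGroup.eq_one_iff _).1 (show π g = 1 by rw [hts', hs1, inv_one])
  · exact (QuotientGroup.eq_one_iff _).1 hs1

end Cfsg.Agent.Lib.RuPerm.Criterion
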