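import Cfsg.Agent.Lib.RuPerm.Code28

/-!
Generated certificate data for the Rudvalis group: suborbits and membership.
-/

set_option autoImplicit false
set_option maxRecDepth 200000

namespace Cfsg.Agent.Lib.RuPerm.OrbitData

open Cfsg.Agent.Lib.SporMatrix

/-- A point of a suborbit with its depth, generator and parent. -/
structure Pt where
  pt : ℕ
  depth : ℕ
  sg : ℕ
  par : ℕ

def bigOrbit0 : Chain.Tree Pt :=
  .node (.node (.node (.node (.node (.node (.node (.node (.node (.node (.node (.node (.leaf ⟨107280639, 0, 0, 0⟩) (.leaf ⟨224882379, 12, 0, 1541⟩)) (.leaf ⟨148569067, 10, 1, 587⟩)) (.node (.leaf ⟨86221551, 9, 0, 274⟩) (.leaf ⟨261973970, 11, 1, 970⟩))) (.node (.node (.leaf ⟨199258963, 8, 1, 134⟩) (.leaf ⟨91061521, 11, 1, 767⟩)) (.node (.leaf ⟨77865043, 10, 1, 425⟩) (.leaf ⟨62755555, 12, 0, 1225⟩)))) (.node (.node (.node (.node (.leaf ⟨266239741,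 7, 0, 66⟩) (.leaf ⟨231957743, 13, 1, 1784⟩)) (.leaf ⟨192775591, 10, 0, 674⟩)) (.node (.leaf ⟨143988714, 9, 0, 348⟩) (.leaf ⟨163329689, 11, 1, 1079⟩))) (.node (.node (.leaf ⟨154526119, 8, 0, 202⟩) (.leaf ⟨264174795, 11, 1, 864⟩)) (.node (.leaf ⟨196264521, 10, 0, 506⟩) (.leaf ⟨241644847, 12, 1, 1366⟩))))) (.node (.node (.node (.node (.node (.leaf ⟨68467455, 6, 1, 32⟩) (.leaf ⟨68629262, 12, 0, 1649⟩)) (.leaf ⟨118824936, 10, 1, 630⟩)) (.node (.leaf ⟨47787852, 9, 0, 311⟩) (.leaf ⟨159201063, 11, 1, 1019⟩))) (.node (.node (.leaf ⟨217654139, 8, 0, 169⟩) (.leaf ⟨198043359, 11, 1, 813⟩)) (.node (.leaf ⟨213625160, 10, 1, 463⟩) (.leaf ⟨237447821, 12, 1, 1295⟩)))) (.node (.node (.node (.node (.leaf ⟨33255725, 7, 1, 99⟩) (.leaf ⟨123710955, 13, 1, 1932⟩)) (.leaf ⟨190392455, 11, 0, 722⟩)) (.node (.leaf ⟨223515324, 9, 1, 384⟩) (.leaf ⟨127859481, 11, 0, 1150⟩)))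 (.node (.node (.leaf ⟨214135857, 9, 0, 238⟩) (.leaf ⟨200064969, 11, 0, 915⟩)) (.node (.leaf ⟨255348039, 10, 1, 547⟩) (.leaf ⟨33289258, 12, 1, 1444⟩)))))) (.node (.node (.node (.node (.node (.node (.leaf ⟨64317350, 5, 0, 16⟩) (.leaf ⟨62912378, 12, 0, 1588⟩)) (.leaf ⟨150173861, 10, 0, 611⟩)) (.node (.leaf ⟨139156686, 9, 0, 292⟩) (.leaf ⟨262528289, 11, 1, 993⟩))) (.node (.node (.leaf ⟨117713875, 8, 1, 152⟩) (.leaf ⟨181863859, 11, 1, 789⟩)) (.node (.leaf ⟨117131545, 10, 1, 444⟩) (.leaf ⟨65969151, 12, 1, 1260⟩)))) (.node (.node (.node (.node (.leaf ⟨211808575, 7, 1, 82⟩) (.leaf ⟨196277911, 13, 1, 1857⟩)) (.leaf ⟨186643540, 10, 0, 697⟩)) (.node (.leaf ⟨99950574, 9, 0, 366⟩) (.leaf ⟨124241791, 11, 0, 1115⟩))) (.node (.node (.leaf ⟨259946505, 9, 1, 220⟩) (.leaf ⟨59606775, 11, 1, 890⟩)) (.node (.leaf ⟨259728042, 10, 1, 525⟩) (.leaf ⟨229324959, 12, 1, 1400⟩)))))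 (.node (.node (.node (.node (.node (.leaf ⟨191924123, 6, 0, 50⟩) (.leaf ⟨79675349, 12, 0, 1705⟩)) (.leaf ⟨124665720, 10, 0, 652⟩)) (.node (.leaf ⟨166559127, 9, 1, 328⟩) (.leaf ⟨264363603, 11, 1, 1047⟩))) (.node (.node (.leaf ⟨127997912, 8, 0, 185⟩) (.leaf ⟨255749428, 11, 1, 836⟩)) (.node (.leaf ⟨206560248, 10, 0, 487⟩) (.leaf ⟨178793366, 12, 1, 1328⟩)))) (.node (.node (.node (.node (.leaf ⟨186477210, 8, 1, 117⟩) (.leaf ⟨200670911, 13, 1, 2032⟩)) (.leaf ⟨3578017, 11, 0, 746⟩)) (.node (.leaf ⟨168343962, 10, 0, 405⟩) (.leaf ⟨257512422, 11, 1, 1184⟩))) (.node (.node (.leaf ⟨219954379, 9, 1, 254⟩) (.leaf ⟨100055547, 11, 0, 943⟩)) (.node (.leaf ⟨127265570, 10, 1, 568⟩) (.leaf ⟨132660947, 12, 1, 1483⟩))))))) (.node (.node (.node (.node (.node (.node (.node (.leaf ⟨228179367, 4, 0, 8⟩) (.leaf ⟨208087531, 12, 1, 1569⟩)) (.leaf ⟨216308085, 10, 1, 599⟩)) (.node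 (.leaf ⟨131329609, 9, 0, 283⟩) (.leaf ⟨70112160, 11, 0, 983⟩))) (.node (.node (.leaf ⟨44164791, 8, 0, 144⟩) (.leaf ⟨46222952, 11, 1, 778⟩)) (.node (.leaf ⟨15779847, 10, 1, 435⟩) (.leaf ⟨164056059, 12, 0, 1242⟩)))) (.node (.node (.node (.node (.leaf ⟨65713837, 7, 0, 74⟩) (.leaf ⟨95400022, 13, 1, 1810⟩)) (.leaf ⟨114216810, 10, 0, 686⟩)) (.node (.leaf ⟨25778984, 9, 0, 357⟩) (.leaf ⟨13416181, 11, 1, 1101⟩))) (.node (.node (.leaf ⟨150388399, 9, 1, 211⟩) (.leaf ⟨49948991, 11, 0, 875⟩)) (.node (.leaf ⟨44791688, 10, 0, 517⟩) (.leaf ⟨192799450, 12, 0, 1385⟩))))) (.node (.node (.node (.node (.node (.leaf ⟨231113818, 6, 0, 41⟩) (.leaf ⟨142289964, 12, 1, 1678⟩)) (.leaf ⟨243745765, 10, 0, 641⟩)) (.node (.leaf ⟨266951220, 9, 0, 320⟩) (.leaf ⟨145456715, 11, 1, 1033⟩))) (.node (.node (.leaf ⟨253612855, 8, 0, 177⟩) (.leaf ⟨200987576, 11, 0, 825⟩)) (.node (.leaf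 ⟨43171193, 10, 0, 473⟩) (.leaf ⟨103187700, 12, 1, 1312⟩)))) (.node (.node (.node (.node (.leaf ⟨221342567, 8, 1, 108⟩) (.leaf ⟨234576581, 13, 1, 1971⟩)) (.leaf ⟨196104023, 11, 0, 735⟩)) (.node (.leaf ⟨234613978, 10, 1, 395⟩) (.leaf ⟨125337529, 11, 0, 1169⟩))) (.node (.node (.leaf ⟨157699185, 9, 1, 246⟩) (.leaf ⟨120165999, 11, 0, 930⟩)) (.node (.leaf ⟨214147294, 10, 0, 558⟩) (.leaf ⟨149879419, 12, 0, 1468⟩)))))) (.node (.node (.node (.node (.node (.node (.leaf ⟨174022376, 5, 1, 24⟩) (.leaf ⟨219620825, 12, 1, 1616⟩)) (.leaf ⟨96888214, 10, 1, 621⟩)) (.node (.leaf ⟨23330653, 9, 0, 302⟩) (.leaf ⟨107870956, 11, 0, 1009⟩))) (.node (.node (.leaf ⟨62522298, 8, 1, 160⟩) (.leaf ⟨233242979, 11, 1, 800⟩)) (.node (.leaf ⟨252834543, 10, 1, 453⟩) (.leaf ⟨261960575, 12, 0, 1278⟩)))) (.node (.node (.node (.node (.leaf ⟨104938450, 7, 0, 91⟩) (.leaf ⟨65605419, 13,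 1, 1893⟩)) (.leaf ⟨177288026, 11, 1, 710⟩)) (.node (.leaf ⟨239487815, 9, 1, 375⟩) (.leaf ⟨171431018, 11, 1, 1131⟩))) (.node (.node (.leaf ⟨102633441, 9, 0, 229⟩) (.leaf ⟨75244629, 11, 0, 904⟩)) (.node (.leaf ⟨24634748, 10, 0, 537⟩) (.leaf ⟨130884853, 12, 0, 1416⟩))))) (.node (.node (.node (.node (.node (.leaf ⟨196025524, 7, 0, 58⟩) (.leaf ⟨237566366, 12, 1, 1743⟩)) (.leaf ⟨174298747, 10, 0, 663⟩)) (.node (.leaf ⟨267577582, 9, 1, 338⟩) (.leaf ⟨125109165, 11, 1, 1059⟩))) (.node (.node (.leaf ⟨66451386, 8, 1, 193⟩) (.leaf ⟨162393585, 11, 0, 852⟩)) (.node (.leaf ⟨109826008, 10, 0, 497⟩) (.leaf ⟨108716908, 12, 0, 1346⟩)))) (.node (.node (.node (.node (.leaf ⟨10206572, 8, 0, 126⟩) (.leaf ⟨126000651, 13, 1, 2091⟩)) (.leaf ⟨213785918, 11, 0, 756⟩)) (.node (.leaf ⟨250919033, 10, 0, 415⟩) (.leaf ⟨39452247, 12, 0, 1204⟩))) (.node (.node (.leaf ⟨248434468,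 9, 1, 264⟩) (.leaf ⟨89534001, 11, 1, 955⟩)) (.node (.leaf ⟨132806419, 10, 0, 578⟩) (.leaf ⟨28748203, 12, 1, 1510⟩)))))))) (.node (.node (.node (.node (.node (.node (.node (.node (.leaf ⟨60071627, 3, 1, 3⟩) (.leaf ⟨265142241, 12, 0, 1559⟩)) (.leaf ⟨246927693, 10, 1, 593⟩)) (.node (.leaf ⟨218627859, 9, 0, 278⟩) (.leaf ⟨111932447, 11, 0, 978⟩))) (.node (.node (.leaf ⟨116977348, 8, 0, 139⟩) (.leaf ⟨124225594, 11, 1, 772⟩)) (.node (.leaf ⟨53999103, 10, 1, 430⟩) (.leaf ⟨147647162, 12, 1, 1230⟩)))) (.node (.node (.node (.node (.leaf ⟨129393704, 7, 0, 70⟩) (.leaf ⟨198901368, 13, 0, 1800⟩)) (.leaf ⟨6029565, 10, 0, 679⟩)) (.node (.leaf ⟨266725740, 9, 0, 353⟩) (.leaf ⟨155428734, 11, 1, 1092⟩))) (.node (.node (.leaf ⟨91524027, 9, 1, 206⟩) (.leaf ⟨23765843, 11, 0, 869⟩)) (.node (.leaf ⟨142932925, 10, 1, 511⟩) (.leaf ⟨236460893, 12, 0, 1378⟩))))) (.node (.node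 (.node (.node (.node (.leaf ⟨147844070, 6, 0, 37⟩) (.leaf ⟨131837905, 12, 0, 1660⟩)) (.leaf ⟨165070313, 10, 1, 636⟩)) (.node (.leaf ⟨216275933, 9, 1, 315⟩) (.leaf ⟨217923037, 11, 1, 1026⟩))) (.node (.node (.leaf ⟨34007978, 8, 0, 173⟩) (.leaf ⟨50733935, 11, 0, 819⟩)) (.node (.leaf ⟨149268173, 10, 0, 469⟩) (.leaf ⟨211262222, 12, 1, 1302⟩)))) (.node (.node (.node (.node (.leaf ⟨107820850, 7, 0, 104⟩) (.leaf ⟨264228437, 13, 1, 1949⟩)) (.leaf ⟨199735319, 11, 1, 728⟩)) (.node (.leaf ⟨192101093, 10, 0, 391⟩) (.leaf ⟨257864290, 11, 1, 1159⟩))) (.node (.node (.leaf ⟨191950238, 9, 0, 242⟩) (.leaf ⟨246863750, 11, 0, 921⟩)) (.node (.leaf ⟨90456774, 10, 1, 553⟩) (.leaf ⟨19501695, 12, 1, 1454⟩)))))) (.node (.node (.node (.node (.node (.node (.leaf ⟨153914858, 5, 1, 20⟩) (.leaf ⟨81404823, 12, 0, 1598⟩)) (.leaf ⟨169551968, 10, 0, 617⟩)) (.node (.leaf ⟨228777678,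 9, 0, 297⟩) (.leaf ⟨30285159, 11, 1, 999⟩))) (.node (.node (.leaf ⟨182659407, 8, 1, 156⟩) (.leaf ⟨43972470, 11, 0, 795⟩)) (.node (.leaf ⟨68123638, 10, 1, 449⟩) (.leaf ⟨124698234, 12, 0, 1268⟩)))) (.node (.node (.node (.node (.leaf ⟨60432115, 7, 0, 87⟩) (.leaf ⟨148816364, 13, 1, 1875⟩)) (.leaf ⟨250787238, 10, 0, 704⟩)) (.node (.leaf ⟨160896149, 9, 0, 371⟩) (.leaf ⟨129854423, 11, 0, 1126⟩))) (.node (.node (.leaf ⟨167369787, 9, 0, 225⟩) (.leaf ⟨30635720, 11, 1, 898⟩)) (.node (.leaf ⟨205375206, 10, 0, 532⟩) (.leaf ⟨7985357, 12, 1, 1409⟩))))) (.node (.node (.node (.node (.node (.leaf ⟨247447269, 6, 0, 54⟩) (.leaf ⟨215546911, 12, 0, 1726⟩)) (.leaf ⟨20354610, 10, 0, 658⟩)) (.node (.leaf ⟨240336787, 9, 0, 333⟩) (.leaf ⟨154342984, 11, 1, 1052⟩))) (.node (.node (.leaf ⟨217655522, 8, 0, 189⟩) (.leaf ⟨114782495, 11, 0, 844⟩)) (.node (.leaf ⟨252405046, 10, 0,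 492⟩) (.leaf ⟨250514558, 12, 1, 1334⟩)))) (.node (.node (.node (.node (.leaf ⟨158830838, 8, 1, 121⟩) (.leaf ⟨164932460, 13, 1, 2058⟩)) (.leaf ⟨178949420, 11, 1, 750⟩)) (.node (.leaf ⟨171753516, 10, 0, 410⟩) (.leaf ⟨142669942, 12, 0, 1196⟩))) (.node (.node (.leaf ⟨33430998, 9, 0, 260⟩) (.leaf ⟨210843466, 11, 0, 949⟩)) (.node (.leaf ⟨265740495, 10, 0, 573⟩) (.leaf ⟨149493613, 12, 1, 1496⟩))))))) (.node (.node (.node (.node (.node (.node (.node (.leaf ⟨103570735, 4, 0, 12⟩) (.leaf ⟨233054027, 12, 0, 1579⟩)) (.leaf ⟨48103039, 10, 0, 605⟩)) (.node (.leaf ⟨253115399, 9, 0, 288⟩) (.leaf ⟨92216992, 11, 0, 989⟩))) (.node (.node (.leaf ⟨80481801, 8, 0, 148⟩) (.leaf ⟨126071087, 11, 0, 783⟩)) (.node (.leaf ⟨49265995, 10, 1, 439⟩) (.leaf ⟨100630426, 12, 1, 1252⟩)))) (.node (.node (.node (.node (.leaf ⟨80510278, 7, 1, 78⟩) (.leaf ⟨246385593, 13, 1, 1836⟩)) (.leaf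 ⟨263172782, 10, 1, 691⟩)) (.node (.leaf ⟨166989877, 9, 1, 361⟩) (.leaf ⟨198531487, 11, 1, 1107⟩))) (.node (.node (.leaf ⟨228603535, 9, 0, 216⟩) (.leaf ⟨131854897, 11, 0, 883⟩)) (.node (.leaf ⟨176552648, 10, 1, 521⟩) (.leaf ⟨4467654, 12, 1, 1393⟩))))) (.node (.node (.node (.node (.node (.leaf ⟨114699630, 6, 1, 45⟩) (.leaf ⟨97971447, 12, 0, 1693⟩)) (.leaf ⟨116734865, 10, 0, 647⟩)) (.node (.leaf ⟨187782895, 9, 0, 324⟩) (.leaf ⟨250438833, 11, 1, 1039⟩))) (.node (.node (.leaf ⟨256838588, 8, 0, 181⟩) (.leaf ⟨212018442, 11, 1, 829⟩)) (.node (.leaf ⟨150075205, 10, 0, 482⟩) (.leaf ⟨263777103, 12, 1, 1320⟩)))) (.node (.node (.node (.node (.leaf ⟨96813106, 8, 1, 112⟩) (.leaf ⟨266054122, 13, 1, 2001⟩)) (.leaf ⟨260394594, 11, 0, 741⟩)) (.node (.leaf ⟨108063434, 10, 0, 401⟩) (.leaf ⟨68713409, 11, 0, 1176⟩))) (.node (.node (.leaf ⟨76993278, 9, 1, 250⟩) (.leaf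 ⟨261970161, 11, 1, 936⟩)) (.node (.leaf ⟨266239018, 10, 1, 563⟩) (.leaf ⟨86369194, 12, 0, 1476⟩)))))) (.node (.node (.node (.node (.node (.node (.leaf ⟨223582181, 6, 1, 28⟩) (.leaf ⟨15123197, 12, 0, 1630⟩)) (.leaf ⟨206098957, 10, 1, 626⟩)) (.node (.leaf ⟨142521951, 9, 1, 306⟩) (.leaf ⟨257359518, 11, 0, 1014⟩))) (.node (.node (.leaf ⟨267173808, 8, 1, 164⟩) (.leaf ⟨208937339, 11, 0, 807⟩)) (.node (.leaf ⟨33291725, 10, 0, 459⟩) (.leaf ⟨110321209, 12, 1, 1287⟩)))) (.node (.node (.node (.node (.leaf ⟨49127215, 7, 0, 95⟩) (.leaf ⟨20407080, 13, 1, 1913⟩)) (.leaf ⟨206591085, 11, 1, 716⟩)) (.node (.leaf ⟨20121646, 9, 1, 379⟩) (.leaf ⟨255787081, 11, 1, 1140⟩))) (.node (.node (.leaf ⟨168289971, 9, 1, 233⟩) (.leaf ⟨167031592, 11, 0, 909⟩)) (.node (.leaf ⟨236380342, 10, 0, 542⟩) (.leaf ⟨133604765, 12, 1, 1426⟩))))) (.node (.node (.node (.node (.node (.leaf ⟨189541156,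 7, 0, 62⟩) (.leaf ⟨113506194, 13, 0, 1769⟩)) (.leaf ⟨249156881, 10, 0, 669⟩)) (.node (.leaf ⟨138138606, 9, 1, 343⟩) (.leaf ⟨208119399, 11, 1, 1072⟩))) (.node (.node (.leaf ⟨220173497, 8, 1, 197⟩) (.leaf ⟨232001199, 11, 0, 859⟩)) (.node (.leaf ⟨262459301, 10, 1, 501⟩) (.leaf ⟨238627738, 12, 0, 1359⟩)))) (.node (.node (.node (.node (.leaf ⟨43939210, 8, 1, 130⟩) (.leaf ⟨221183892, 13, 0, 2152⟩)) (.leaf ⟨250588764, 11, 1, 761⟩)) (.node (.leaf ⟨143867085, 10, 1, 419⟩) (.leaf ⟨134995351, 12, 0, 1215⟩))) (.node (.node (.leaf ⟨212302746, 9, 0, 270⟩) (.leaf ⟨258215600, 11, 0, 963⟩)) (.node (.leaf ⟨261207548, 10, 0, 582⟩) (.leaf ⟨98107355, 12, 0, 1523⟩))))))))) (.node (.node (.node (.node (.node (.node (.node (.node (.node (.leaf ⟨64708298, 2, 1, 1⟩) (.leaf ⟨159352743, 12, 1, 1547⟩)) (.leaf ⟨238071741, 10, 0, 590⟩)) (.node (.leaf ⟨246204179, 9, 0, 276⟩) (.leaf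 ⟨82775546, 11, 1, 974⟩))) (.node (.node (.leaf ⟨70776859, 8, 1, 136⟩) (.leaf ⟨258356694, 11, 0, 770⟩)) (.node (.leaf ⟨64804324, 10, 1, 427⟩) (.leaf ⟨194895662, 12, 0, 1228⟩)))) (.node (.node (.node (.node (.leaf ⟨97306364, 7, 0, 68⟩) (.leaf ⟨220036945, 13, 0, 1792⟩)) (.leaf ⟨139298557, 10, 0, 676⟩)) (.node (.leaf ⟨62011834, 9, 1, 350⟩) (.leaf ⟨180336415, 11, 1, 1084⟩))) (.node (.node (.leaf ⟨180567245, 9, 1, 204⟩) (.leaf ⟨95148755, 11, 1, 866⟩)) (.node (.leaf ⟨6224721, 10, 1, 509⟩) (.leaf ⟨184077438, 12, 0, 1370⟩))))) (.node (.node (.node (.node (.node (.leaf ⟨208893480, 6, 0, 35⟩) (.leaf ⟨133617364, 12, 0, 1656⟩)) (.leaf ⟨111237112, 10, 1, 633⟩)) (.node (.leaf ⟨191958462, 9, 0, 313⟩) (.leaf ⟨36142938, 11, 0, 1023⟩))) (.node (.node (.leaf ⟨201226487, 8, 0, 171⟩) (.leaf ⟨62704056, 11, 0, 816⟩)) (.node (.leaf ⟨214710167, 10, 1, 466⟩) (.leaf ⟨268285421,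 12, 1, 1298⟩)))) (.node (.node (.node (.node (.leaf ⟨234847713, 7, 1, 101⟩) (.leaf ⟨40727786, 13, 0, 1939⟩)) (.leaf ⟨210875976, 11, 1, 725⟩)) (.node (.leaf ⟨189791839, 10, 1, 388⟩) (.leaf ⟨199576351, 11, 0, 1155⟩))) (.node (.node (.leaf ⟨238681910, 9, 0, 240⟩) (.leaf ⟨121096096, 11, 0, 918⟩)) (.node (.leaf ⟨221958886, 10, 1, 550⟩) (.leaf ⟨250514468, 12, 0, 1448⟩)))))) (.node (.node (.node (.node (.node (.node (.leaf ⟨259587946, 5, 0, 18⟩) (.leaf ⟨82388223, 12, 1, 1592⟩)) (.leaf ⟨116313659, 10, 1, 614⟩)) (.node (.leaf ⟨246772115, 9, 1, 294⟩) (.leaf ⟨213957003, 11, 0, 997⟩))) (.node (.node (.leaf ⟨247281775, 8, 1, 154⟩) (.leaf ⟨128292634, 11, 0, 792⟩)) (.node (.leaf ⟨209709295, 10, 1, 447⟩) (.leaf ⟨175138879, 12, 1, 1262⟩)))) (.node (.node (.node (.node (.leaf ⟨203746801, 7, 1, 84⟩) (.leaf ⟨207275254, 13, 0, 1865⟩)) (.leaf ⟨175504854, 10, 0, 702⟩))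 (.node (.leaf ⟨6832064, 9, 0, 368⟩) (.leaf ⟨234001519, 11, 1, 1117⟩))) (.node (.node (.leaf ⟨227736293, 9, 1, 222⟩) (.leaf ⟨186048849, 11, 0, 894⟩)) (.node (.leaf ⟨49331976, 10, 0, 529⟩) (.leaf ⟨216809857, 12, 1, 1404⟩))))) (.node (.node (.node (.node (.node (.leaf ⟨10436218, 6, 0, 52⟩) (.leaf ⟨88054419, 12, 1, 1712⟩)) (.leaf ⟨257481836, 10, 1, 654⟩)) (.node (.leaf ⟨264099745, 9, 0, 331⟩) (.leaf ⟨242177568, 11, 0, 1050⟩))) (.node (.node (.leaf ⟨31043681, 8, 0, 187⟩) (.leaf ⟨102020791, 11, 0, 841⟩)) (.node (.leaf ⟨251099745, 10, 1, 489⟩) (.leaf ⟨126755508, 12, 0, 1332⟩)))) (.node (.node (.node (.node (.leaf ⟨248986574, 8, 1, 119⟩) (.leaf ⟨9556873, 13, 1, 2036⟩)) (.leaf ⟨157168609, 11, 0, 748⟩)) (.node (.leaf ⟨197452264, 10, 1, 407⟩) (.leaf ⟨238868186, 11, 1, 1192⟩))) (.node (.node (.leaf ⟨251388340, 9, 1, 257⟩) (.leaf ⟨78641132, 11, 1, 946⟩)) (.node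 (.leaf ⟨156341727, 10, 0, 571⟩) (.leaf ⟨130585971, 12, 1, 1490⟩))))))) (.node (.node (.node (.node (.node (.node (.node (.leaf ⟨207384306, 4, 0, 10⟩) (.leaf ⟨250142596, 12, 1, 1574⟩)) (.leaf ⟨253177375, 10, 1, 602⟩)) (.node (.leaf ⟨225739142, 9, 1, 285⟩) (.leaf ⟨128482939, 11, 1, 986⟩))) (.node (.node (.leaf ⟨118224815, 8, 0, 146⟩) (.leaf ⟨36909547, 11, 1, 780⟩)) (.node (.leaf ⟨191872927, 10, 1, 437⟩) (.leaf ⟨203399130, 12, 0, 1245⟩)))) (.node (.node (.node (.node (.leaf ⟨49433600, 7, 0, 76⟩) (.leaf ⟨127756229, 13, 0, 1817⟩)) (.leaf ⟨71268623, 10, 0, 688⟩)) (.node (.leaf ⟨195472530, 9, 1, 359⟩) (.leaf ⟨14646131, 11, 0, 1104⟩))) (.node (.node (.leaf ⟨28925309, 9, 1, 213⟩) (.leaf ⟨12786650, 11, 1, 880⟩)) (.node (.leaf ⟨191963177, 10, 1, 519⟩) (.leaf ⟨251222607, 12, 1, 1390⟩))))) (.node (.node (.node (.node (.node (.leaf ⟨139876166, 6, 1, 43⟩) (.leaf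 ⟨30399615, 12, 1, 1690⟩)) (.leaf ⟨61552365, 10, 1, 643⟩)) (.node (.leaf ⟨21790393, 9, 0, 322⟩) (.leaf ⟨102621961, 11, 1, 1036⟩))) (.node (.node (.leaf ⟨219993960, 8, 0, 179⟩) (.leaf ⟨262461686, 11, 1, 827⟩)) (.node (.leaf ⟨214867101, 10, 1, 476⟩) (.leaf ⟨240222565, 12, 0, 1317⟩)))) (.node (.node (.node (.node (.leaf ⟨114158734, 8, 1, 110⟩) (.leaf ⟨251324788, 13, 0, 1993⟩)) (.leaf ⟨29072085, 11, 1, 738⟩)) (.node (.leaf ⟨199116625, 10, 1, 397⟩) (.leaf ⟨187943414, 11, 0, 1173⟩))) (.node (.node (.leaf ⟨132822909, 9, 1, 248⟩) (.leaf ⟨204922347, 11, 1, 932⟩)) (.node (.leaf ⟨113016565, 10, 0, 560⟩) (.leaf ⟨252898609, 12, 1, 1472⟩)))))) (.node (.node (.node (.node (.node (.node (.leaf ⟨72757117, 5, 1, 26⟩) (.leaf ⟨6113105, 12, 1, 1624⟩)) (.leaf ⟨68946327, 10, 1, 623⟩)) (.node (.leaf ⟨243191960, 9, 1, 304⟩) (.leaf ⟨261125540, 11, 0, 1011⟩))) (.node (.node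 (.leaf ⟨209511030, 8, 1, 162⟩) (.leaf ⟨6014739, 11, 1, 802⟩)) (.node (.leaf ⟨222687358, 10, 1, 455⟩) (.leaf ⟨128872275, 12, 1, 1282⟩)))) (.node (.node (.node (.node (.leaf ⟨172611020, 7, 0, 93⟩) (.leaf ⟨94040058, 13, 1, 1904⟩)) (.leaf ⟨107059155, 11, 0, 713⟩)) (.node (.leaf ⟨267639411, 9, 1, 377⟩) (.leaf ⟨15967439, 11, 0, 1137⟩))) (.node (.node (.leaf ⟨193519591, 9, 0, 231⟩) (.leaf ⟨198666103, 11, 1, 906⟩)) (.node (.leaf ⟨37182429, 10, 0, 539⟩) (.leaf ⟨108519393, 12, 1, 1419⟩))))) (.node (.node (.node (.node (.node (.leaf ⟨175585091, 7, 0, 60⟩) (.leaf ⟨7568367, 12, 0, 1759⟩)) (.leaf ⟨232960229, 10, 0, 666⟩)) (.node (.leaf ⟨254400571, 9, 1, 340⟩) (.leaf ⟨165468580, 11, 0, 1064⟩))) (.node (.node (.leaf ⟨208649122, 8, 1, 195⟩) (.leaf ⟨123165535, 11, 1, 856⟩)) (.node (.leaf ⟨183900579, 10, 0, 499⟩) (.leaf ⟨136763084, 12, 0, 1354⟩)))) (.node (.node (.node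 (.node (.leaf ⟨245391101, 8, 0, 128⟩) (.leaf ⟨234873080, 13, 1, 2116⟩)) (.leaf ⟨152319939, 11, 0, 759⟩)) (.node (.leaf ⟨181034623, 10, 1, 417⟩) (.leaf ⟨49151627, 12, 0, 1208⟩))) (.node (.node (.leaf ⟨131055076, 9, 1, 267⟩) (.leaf ⟨233229454, 11, 0, 959⟩)) (.node (.leaf ⟨47702735, 10, 0, 580⟩) (.leaf ⟨100199519, 12, 1, 1514⟩)))))))) (.node (.node (.node (.node (.node (.node (.node (.node (.leaf ⟨45252477, 3, 0, 6⟩) (.leaf ⟨100825558, 12, 0, 1564⟩)) (.leaf ⟨234458090, 10, 0, 597⟩)) (.node (.leaf ⟨223407455, 9, 1, 280⟩) (.leaf ⟨93579228, 11, 1, 980⟩))) (.node (.node (.leaf ⟨63059002, 8, 0, 141⟩) (.leaf ⟨246166310, 11, 0, 776⟩)) (.node (.leaf ⟨253083318, 10, 1, 432⟩) (.leaf ⟨25016678, 12, 0, 1237⟩)))) (.node (.node (.node (.node (.leaf ⟨175706709, 7, 0, 72⟩) (.leaf ⟨229313755, 13, 0, 1805⟩)) (.leaf ⟨193864999, 10, 0, 682⟩)) (.node (.leaf ⟨83814130,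 9, 0, 355⟩) (.leaf ⟨228425913, 11, 1, 1097⟩))) (.node (.node (.leaf ⟨114723582, 9, 0, 209⟩) (.leaf ⟨16056031, 11, 1, 871⟩)) (.node (.leaf ⟨225442974, 10, 0, 514⟩) (.leaf ⟨112353134, 12, 0, 1382⟩))))) (.node (.node (.node (.node (.node (.leaf ⟨129759355, 6, 0, 39⟩) (.leaf ⟨192369530, 12, 1, 1674⟩)) (.leaf ⟨21978779, 10, 1, 638⟩)) (.node (.leaf ⟨52360005, 9, 1, 317⟩) (.leaf ⟨70186828, 11, 1, 1030⟩))) (.node (.node (.leaf ⟨206381738, 8, 0, 175⟩) (.leaf ⟨241268150, 11, 0, 822⟩)) (.node (.leaf ⟨267250862, 10, 0, 471⟩) (.leaf ⟨112881143, 12, 0, 1307⟩)))) (.node (.node (.node (.node (.leaf ⟨219600751, 8, 1, 106⟩) (.leaf ⟨207822169, 13, 1, 1957⟩)) (.leaf ⟨149011742, 11, 1, 732⟩)) (.node (.leaf ⟨218089051, 10, 1, 393⟩) (.leaf ⟨135310173, 11, 1, 1165⟩))) (.node (.node (.leaf ⟨56206111, 9, 1, 244⟩) (.leaf ⟨199641851, 11, 1, 926⟩)) (.node (.leaf ⟨16491147,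 10, 1, 555⟩) (.leaf ⟨171111772, 12, 1, 1463⟩)))))) (.node (.node (.node (.node (.node (.node (.leaf ⟨128359833, 5, 1, 22⟩) (.leaf ⟨235666378, 12, 1, 1605⟩)) (.leaf ⟨56195086, 10, 1, 619⟩)) (.node (.leaf ⟨98848816, 9, 1, 299⟩) (.leaf ⟨150002018, 11, 0, 1004⟩))) (.node (.node (.leaf ⟨217578945, 8, 1, 158⟩) (.leaf ⟨186270131, 11, 1, 798⟩)) (.node (.leaf ⟨197616615, 10, 1, 451⟩) (.leaf ⟨239524362, 12, 1, 1270⟩)))) (.node (.node (.node (.node (.leaf ⟨62479727, 7, 0, 89⟩) (.leaf ⟨122617645, 13, 0, 1883⟩)) (.leaf ⟨250205142, 11, 1, 707⟩)) (.node (.leaf ⟨164768063, 9, 0, 373⟩) (.leaf ⟨220175952, 11, 1, 1128⟩))) (.node (.node (.leaf ⟨87524938, 9, 0, 227⟩) (.leaf ⟨224156609, 11, 0, 902⟩)) (.node (.leaf ⟨207396028, 10, 0, 534⟩) (.leaf ⟨124500829, 12, 0, 1412⟩))))) (.node (.node (.node (.node (.node (.leaf ⟨192718575, 7, 0, 56⟩) (.leaf ⟨265810507, 12, 0, 1737⟩))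 (.leaf ⟨201258132, 10, 1, 660⟩)) (.node (.leaf ⟨179216717, 9, 1, 336⟩) (.leaf ⟨103529814, 11, 1, 1056⟩))) (.node (.node (.leaf ⟨255788627, 8, 0, 191⟩) (.leaf ⟨57754309, 11, 1, 847⟩)) (.node (.leaf ⟨266779486, 10, 1, 494⟩) (.leaf ⟨89845086, 12, 0, 1342⟩)))) (.node (.node (.node (.node (.leaf ⟨94105943, 8, 1, 123⟩) (.leaf ⟨47566647, 13, 0, 2078⟩)) (.leaf ⟨140714550, 11, 0, 753⟩)) (.node (.leaf ⟨192918513, 10, 1, 412⟩) (.leaf ⟨166225379, 12, 0, 1199⟩))) (.node (.node (.leaf ⟨258322417, 9, 0, 262⟩) (.leaf ⟨164108797, 11, 1, 951⟩)) (.node (.leaf ⟨172682230, 10, 1, 575⟩) (.leaf ⟨233724660, 12, 1, 1504⟩))))))) (.node (.node (.node (.node (.node (.node (.node (.leaf ⟨159134367, 5, 0, 14⟩) (.leaf ⟨127430305, 12, 1, 1583⟩)) (.leaf ⟨144333016, 10, 0, 607⟩)) (.node (.leaf ⟨197849326, 9, 0, 290⟩) (.leaf ⟨179274355, 11, 1, 991⟩))) (.node (.node (.leaf ⟨141483926,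 8, 0, 150⟩) (.leaf ⟨46101011, 11, 0, 787⟩)) (.node (.leaf ⟨265157240, 10, 0, 442⟩) (.leaf ⟨151343065, 12, 0, 1258⟩)))) (.node (.node (.node (.node (.leaf ⟨117175677, 7, 1, 80⟩) (.leaf ⟨228571754, 13, 1, 1848⟩)) (.leaf ⟨128473066, 10, 1, 693⟩)) (.node (.leaf ⟨8114170, 9, 1, 363⟩) (.leaf ⟨121749432, 11, 0, 1110⟩))) (.node (.node (.leaf ⟨114321104, 9, 1, 218⟩) (.leaf ⟨70480218, 11, 1, 887⟩)) (.node (.leaf ⟨250111281, 10, 1, 523⟩) (.leaf ⟨99063418, 12, 0, 1398⟩))))) (.node (.node (.node (.node (.node (.leaf ⟨249633591, 6, 0, 48⟩) (.leaf ⟨245583086, 12, 1, 1700⟩)) (.leaf ⟨41497919, 10, 0, 649⟩)) (.node (.leaf ⟨66641277, 9, 0, 326⟩) (.leaf ⟨75469775, 11, 0, 1044⟩))) (.node (.node (.leaf ⟨268064609, 8, 0, 183⟩) (.leaf ⟨201640063, 11, 0, 833⟩)) (.node (.leaf ⟨243080573, 10, 0, 484⟩) (.leaf ⟨202094494, 12, 1, 1322⟩)))) (.node (.node (.node (.node (.leaf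 ⟨87813885, 8, 0, 115⟩) (.leaf ⟨234803164, 13, 0, 2013⟩)) (.leaf ⟨79288561, 11, 1, 743⟩)) (.node (.leaf ⟨134634547, 10, 0, 403⟩) (.leaf ⟨237085948, 11, 1, 1180⟩))) (.node (.node (.leaf ⟨184620451, 9, 1, 252⟩) (.leaf ⟨147250003, 11, 1, 940⟩)) (.node (.leaf ⟨42603645, 10, 1, 565⟩) (.leaf ⟨17079199, 12, 0, 1479⟩)))))) (.node (.node (.node (.node (.node (.node (.leaf ⟨185301830, 6, 1, 30⟩) (.leaf ⟨79853923, 12, 1, 1637⟩)) (.leaf ⟨210724605, 10, 1, 628⟩)) (.node (.leaf ⟨106031726, 9, 1, 308⟩) (.leaf ⟨149485220, 11, 0, 1016⟩))) (.node (.node (.leaf ⟨121005630, 8, 1, 166⟩) (.leaf ⟨263950301, 11, 0, 811⟩)) (.node (.leaf ⟨244480941, 10, 1, 461⟩) (.leaf ⟨66576286, 12, 1, 1291⟩)))) (.node (.node (.node (.node (.leaf ⟨239955311, 7, 1, 97⟩) (.leaf ⟨261967727, 13, 1, 1925⟩)) (.leaf ⟨251499571, 11, 0, 719⟩)) (.node (.leaf ⟨129932918, 9, 1, 382⟩) (.leaf ⟨264167487,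 11, 0, 1145⟩))) (.node (.node (.leaf ⟨216100429, 9, 1, 235⟩) (.leaf ⟨198927975, 11, 0, 912⟩)) (.node (.leaf ⟨120514177, 10, 0, 544⟩) (.leaf ⟨200115039, 12, 0, 1436⟩))))) (.node (.node (.node (.node (.node (.leaf ⟨3144693, 7, 0, 64⟩) (.leaf ⟨65059860, 13, 1, 1779⟩)) (.leaf ⟨170235961, 10, 0, 672⟩)) (.node (.leaf ⟨42442235, 9, 0, 346⟩) (.leaf ⟨223959753, 11, 0, 1076⟩))) (.node (.node (.leaf ⟨62171831, 8, 1, 199⟩) (.leaf ⟨167486474, 11, 0, 862⟩)) (.node (.leaf ⟨186303548, 10, 1, 503⟩) (.leaf ⟨35672838, 12, 1, 1362⟩)))) (.node (.node (.node (.node (.leaf ⟨70469364, 8, 1, 132⟩) (.leaf ⟨265910116, 14, 1, 2226⟩)) (.leaf ⟨242348798, 11, 1, 764⟩)) (.node (.leaf ⟨263574455, 10, 1, 422⟩) (.leaf ⟨56306353, 12, 0, 1220⟩))) (.node (.node (.leaf ⟨124638739, 9, 0, 272⟩) (.leaf ⟨103611071, 11, 0, 967⟩)) (.node (.leaf ⟨208865032, 10, 1, 585⟩) (.leaf ⟨217839583, 12,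 0, 1529⟩)))))))))) (.node (.node (.node (.node (.node (.node (.node (.node (.node (.node (.leaf ⟨14238125, 1, 1, 0⟩) (.leaf ⟨202776412, 12, 0, 1543⟩)) (.leaf ⟨12309722, 10, 0, 589⟩)) (.node (.leaf ⟨50066364, 9, 0, 275⟩) (.leaf ⟨166287358, 11, 1, 973⟩))) (.node (.node (.leaf ⟨54980350, 8, 1, 135⟩) (.leaf ⟨111771593, 11, 1, 768⟩)) (.node (.leaf ⟨252889482, 10, 1, 426⟩) (.leaf ⟨134152945, 12, 1, 1226⟩)))) (.node (.node (.node (.node (.leaf ⟨78832232, 7, 0, 67⟩) (.leaf ⟨139033391, 13, 1, 1789⟩)) (.leaf ⟨174405933, 10, 0, 675⟩)) (.node (.leaf ⟨250465214, 9, 0, 349⟩) (.leaf ⟨15697865, 11, 1, 1082⟩))) (.node (.node (.leaf ⟨221052158, 8, 1, 203⟩) (.leaf ⟨25945566, 11, 1, 865⟩)) (.node (.leaf ⟨42149273, 10, 1, 507⟩) (.leaf ⟨213185242, 12, 1, 1368⟩))))) (.node (.node (.node (.node (.node (.leaf ⟨88070135, 6, 1, 33⟩) (.leaf ⟨182151715, 12, 1, 1654⟩)) (.leaf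 ⟨142604055, 10, 1, 632⟩)) (.node (.leaf ⟨61203362, 9, 0, 312⟩) (.leaf ⟨197233268, 11, 1, 1020⟩))) (.node (.node (.leaf ⟨207001584, 8, 0, 170⟩) (.leaf ⟨27069520, 11, 1, 814⟩)) (.node (.leaf ⟨250936278, 10, 1, 464⟩) (.leaf ⟨39706865, 12, 1, 1297⟩)))) (.node (.node (.node (.node (.leaf ⟨108399371, 7, 1, 100⟩) (.leaf ⟨62228136, 13, 0, 1937⟩)) (.leaf ⟨231159775, 11, 1, 723⟩)) (.node (.leaf ⟨138226682, 10, 1, 387⟩) (.leaf ⟨182758617, 11, 1, 1151⟩))) (.node (.node (.leaf ⟨154487759, 9, 0, 239⟩) (.leaf ⟨48731001, 11, 0, 917⟩)) (.node (.leaf ⟨123343779, 10, 1, 548⟩) (.leaf ⟨115040165, 12, 0, 1446⟩)))))) (.node (.node (.node (.node (.node (.node (.leaf ⟨12834208, 5, 0, 17⟩) (.leaf ⟨259521137, 12, 0, 1591⟩)) (.leaf ⟨259870197, 10, 1, 612⟩)) (.node (.leaf ⟨263697643, 9, 0, 293⟩) (.leaf ⟨12366831, 11, 1, 995⟩))) (.node (.node (.leaf ⟨238933663, 8, 1, 153⟩) (.leaf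 ⟨30129087, 11, 1, 790⟩)) (.node (.leaf ⟨115341502, 10, 1, 445⟩) (.leaf ⟨98150901, 12, 1, 1261⟩)))) (.node (.node (.node (.node (.leaf ⟨254715124, 7, 1, 83⟩) (.leaf ⟨158676973, 13, 1, 1862⟩)) (.leaf ⟨133281277, 10, 0, 699⟩)) (.node (.leaf ⟨242547259, 9, 0, 367⟩) (.leaf ⟨188510029, 11, 0, 1116⟩))) (.node (.node (.leaf ⟨149885675, 9, 1, 221⟩) (.leaf ⟨188714191, 11, 1, 891⟩)) (.node (.leaf ⟨112525153, 10, 0, 527⟩) (.leaf ⟨93810676, 12, 1, 1402⟩))))) (.node (.node (.node (.node (.node (.leaf ⟨256189167, 6, 0, 51⟩) (.leaf ⟨175167392, 12, 1, 1709⟩)) (.leaf ⟨165248844, 10, 1, 653⟩)) (.node (.leaf ⟨32941571, 9, 0, 330⟩) (.leaf ⟨266952690, 11, 1, 1048⟩))) (.node (.node (.leaf ⟨190683622, 8, 0, 186⟩) (.leaf ⟨97385288, 11, 0, 839⟩)) (.node (.leaf ⟨241671823, 10, 1, 488⟩) (.leaf ⟨63257621, 12, 1, 1329⟩)))) (.node (.node (.node (.node (.leaf ⟨146448447, 8, 1,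 118⟩) (.leaf ⟨162062259, 13, 0, 2034⟩)) (.leaf ⟨110532972, 11, 0, 747⟩)) (.node (.leaf ⟨41796499, 10, 1, 406⟩) (.leaf ⟨125701699, 11, 0, 1187⟩))) (.node (.node (.leaf ⟨95624757, 9, 1, 255⟩) (.leaf ⟨69359534, 11, 0, 945⟩)) (.node (.leaf ⟨192722673, 10, 1, 569⟩) (.leaf ⟨69198903, 12, 1, 1488⟩))))))) (.node (.node (.node (.node (.node (.node (.node (.leaf ⟨21976750, 4, 0, 9⟩) (.leaf ⟨123685599, 12, 1, 1571⟩)) (.leaf ⟨238468187, 10, 1, 601⟩)) (.node (.leaf ⟨182605445, 9, 0, 284⟩) (.leaf ⟨7049271, 11, 1, 985⟩))) (.node (.node (.leaf ⟨218618926, 8, 0, 145⟩) (.leaf ⟨167685183, 11, 1, 779⟩)) (.node (.leaf ⟨249495332, 10, 1, 436⟩) (.leaf ⟨120050562, 12, 1, 1243⟩)))) (.node (.node (.node (.node (.leaf ⟨57251446, 7, 0, 75⟩) (.leaf ⟨65395261, 13, 1, 1813⟩)) (.leaf ⟨182969385, 10, 0, 687⟩)) (.node (.leaf ⟨161362637, 9, 0, 358⟩) (.leaf ⟨11902850, 11, 0, 1103⟩)))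 (.node (.node (.leaf ⟨226426284, 9, 1, 212⟩) (.leaf ⟨266289340, 11, 0, 878⟩)) (.node (.leaf ⟨195247825, 10, 0, 518⟩) (.leaf ⟨24046742, 12, 1, 1388⟩))))) (.node (.node (.node (.node (.node (.leaf ⟨61926855, 6, 0, 42⟩) (.leaf ⟨265588169, 12, 1, 1681⟩)) (.leaf ⟨156450262, 10, 0, 642⟩)) (.node (.leaf ⟨238331863, 9, 0, 321⟩) (.leaf ⟨108353103, 11, 0, 1035⟩))) (.node (.node (.leaf ⟨191549303, 8, 0, 178⟩) (.leaf ⟨187775219, 11, 1, 826⟩)) (.node (.leaf ⟨88268152, 10, 0, 474⟩) (.leaf ⟨257553450, 12, 0, 1315⟩)))) (.node (.node (.node (.node (.leaf ⟨106015689, 8, 1, 109⟩) (.leaf ⟨263670474, 13, 1, 1975⟩)) (.leaf ⟨27772997, 11, 0, 737⟩)) (.node (.leaf ⟨260242995, 10, 1, 396⟩) (.leaf ⟨120093444, 11, 1, 1171⟩))) (.node (.node (.leaf ⟨256904237, 9, 1, 247⟩) (.leaf ⟨247243067, 11, 1, 931⟩)) (.node (.leaf ⟨40847901, 10, 0, 559⟩) (.leaf ⟨213711790, 12, 1, 1470⟩))))))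 (.node (.node (.node (.node (.node (.node (.leaf ⟨133763351, 5, 1, 25⟩) (.leaf ⟨47887723, 12, 0, 1621⟩)) (.leaf ⟨25164008, 10, 1, 622⟩)) (.node (.leaf ⟨224075767, 9, 1, 303⟩) (.leaf ⟨92935102, 11, 0, 1010⟩))) (.node (.node (.leaf ⟨133618601, 8, 1, 161⟩) (.leaf ⟨183781207, 11, 1, 801⟩)) (.node (.leaf ⟨183864797, 10, 1, 454⟩) (.leaf ⟨120597737, 12, 0, 1279⟩)))) (.node (.node (.node (.node (.leaf ⟨126538845, 7, 0, 92⟩) (.leaf ⟨264086778, 13, 0, 1900⟩)) (.leaf ⟨129417523, 11, 1, 711⟩)) (.node (.leaf ⟨250567350, 9, 1, 376⟩) (.leaf ⟨166024015, 11, 1, 1132⟩))) (.node (.node (.leaf ⟨258953181, 9, 0, 230⟩) (.leaf ⟨184128458, 11, 0, 905⟩)) (.node (.leaf ⟨115307741, 10, 0, 538⟩) (.leaf ⟨173564544, 12, 1, 1417⟩))))) (.node (.node (.node (.node (.node (.leaf ⟨259834441, 7, 0, 59⟩) (.leaf ⟨119136043, 12, 0, 1746⟩)) (.leaf ⟨224973784, 10, 0, 665⟩)) (.node (.leaf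 ⟨258901043, 9, 1, 339⟩) (.leaf ⟨151507610, 11, 0, 1062⟩))) (.node (.node (.leaf ⟨195820341, 8, 1, 194⟩) (.leaf ⟨81462639, 11, 0, 854⟩)) (.node (.leaf ⟨55546189, 10, 0, 498⟩) (.leaf ⟨138858405, 12, 0, 1352⟩)))) (.node (.node (.node (.node (.leaf ⟨250690296, 8, 0, 127⟩) (.leaf ⟨122091253, 13, 0, 2107⟩)) (.leaf ⟨84533726, 11, 1, 757⟩)) (.node (.leaf ⟨166320029, 10, 0, 416⟩) (.leaf ⟨97987325, 12, 0, 1207⟩))) (.node (.node (.leaf ⟨205154755, 9, 1, 266⟩) (.leaf ⟨236534450, 11, 1, 956⟩)) (.node (.leaf ⟨99522009, 10, 0, 579⟩) (.leaf ⟨180240173, 12, 1, 1512⟩)))))))) (.node (.node (.node (.node (.node (.node (.node (.node (.leaf ⟨82079985, 3, 1, 4⟩) (.leaf ⟨97262440, 12, 0, 1562⟩)) (.leaf ⟨173622119, 10, 0, 595⟩)) (.node (.leaf ⟨149621048, 9, 1, 279⟩) (.leaf ⟨196506943, 11, 1, 979⟩))) (.node (.node (.leaf ⟨208443753, 8, 0, 140⟩) (.leaf ⟨131051299, 11, 1,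 774⟩)) (.node (.leaf ⟨228766185, 10, 1, 431⟩) (.leaf ⟨241138952, 12, 0, 1235⟩)))) (.node (.node (.node (.node (.leaf ⟨110075725, 7, 0, 71⟩) (.leaf ⟨233047261, 13, 1, 1803⟩)) (.leaf ⟨191687259, 10, 1, 680⟩)) (.node (.leaf ⟨2031147, 9, 0, 354⟩) (.leaf ⟨234568921, 11, 1, 1093⟩))) (.node (.node (.leaf ⟨167430109, 9, 0, 208⟩) (.leaf ⟨49833210, 11, 1, 870⟩)) (.node (.leaf ⟨147361621, 10, 0, 513⟩) (.leaf ⟨139034318, 12, 0, 1380⟩))))) (.node (.node (.node (.node (.node (.leaf ⟨223524167, 6, 0, 38⟩) (.leaf ⟨233811240, 12, 0, 1667⟩)) (.leaf ⟨192785221, 10, 1, 637⟩)) (.node (.leaf ⟨206546380, 9, 1, 316⟩) (.leaf ⟨215693194, 11, 1, 1027⟩))) (.node (.node (.leaf ⟨252626078, 8, 0, 174⟩) (.leaf ⟨47791329, 11, 0, 821⟩)) (.node (.leaf ⟨104396839, 10, 0, 470⟩) (.leaf ⟨224259444, 12, 0, 1304⟩)))) (.node (.node (.node (.node (.leaf ⟨99596007, 7, 0, 105⟩) (.leaf ⟨34103190,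 13, 0, 1952⟩)) (.leaf ⟨236488621, 11, 0, 730⟩)) (.node (.leaf ⟨120739705, 10, 0, 392⟩) (.leaf ⟨142656137, 11, 1, 1163⟩))) (.node (.node (.leaf ⟨200084081, 9, 1, 243⟩) (.leaf ⟨257864774, 11, 0, 924⟩)) (.node (.leaf ⟨175728610, 10, 1, 554⟩) (.leaf ⟨223487946, 12, 0, 1460⟩)))))) (.node (.node (.node (.node (.node (.node (.leaf ⟨181876556, 5, 1, 21⟩) (.leaf ⟨122404120, 12, 1, 1600⟩)) (.leaf ⟨17186985, 10, 1, 618⟩)) (.node (.leaf ⟨188522807, 9, 0, 298⟩) (.leaf ⟨131461055, 11, 1, 1002⟩))) (.node (.node (.leaf ⟨230044608, 8, 1, 157⟩) (.leaf ⟨263879370, 11, 1, 797⟩)) (.node (.leaf ⟨193297139, 10, 1, 450⟩) (.leaf ⟨114809719, 12, 0, 1269⟩)))) (.node (.node (.node (.node (.leaf ⟨66766573, 7, 0, 88⟩) (.leaf ⟨268260870, 13, 0, 1877⟩)) (.leaf ⟨245290804, 11, 1, 706⟩)) (.node (.leaf ⟨48045005, 9, 0, 372⟩) (.leaf ⟨195080633, 11, 0, 1127⟩))) (.node (.node (.leaf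 ⟨46612330, 9, 0, 226⟩) (.leaf ⟨199890847, 11, 1, 900⟩)) (.node (.leaf ⟨252943087, 10, 0, 533⟩) (.leaf ⟨80571870, 12, 1, 1410⟩))))) (.node (.node (.node (.node (.node (.leaf ⟨171728855, 7, 0, 55⟩) (.leaf ⟨188218618, 12, 1, 1729⟩)) (.leaf ⟨234080511, 10, 1, 659⟩)) (.node (.leaf ⟨223457213, 9, 0, 335⟩) (.leaf ⟨212528102, 11, 1, 1055⟩))) (.node (.node (.leaf ⟨199290810, 8, 0, 190⟩) (.leaf ⟨264306029, 11, 1, 846⟩)) (.node (.leaf ⟨198066378, 10, 0, 493⟩) (.leaf ⟨247876749, 12, 0, 1340⟩)))) (.node (.node (.node (.node (.leaf ⟨185182072, 8, 1, 122⟩) (.leaf ⟨237804980, 13, 0, 2068⟩)) (.leaf ⟨245081974, 11, 1, 751⟩)) (.node (.leaf ⟨71690068, 10, 1, 411⟩) (.leaf ⟨231665389, 12, 0, 1197⟩))) (.node (.node (.leaf ⟨260346317, 9, 0, 261⟩) (.leaf ⟨134143999, 11, 1, 950⟩)) (.node (.leaf ⟨103765458, 10, 1, 574⟩) (.leaf ⟨116096151, 12, 0, 1499⟩))))))) (.node (.node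 (.node (.node (.node (.node (.node (.leaf ⟨75005133, 4, 0, 13⟩) (.leaf ⟨47312503, 12, 1, 1581⟩)) (.leaf ⟨190272775, 10, 0, 606⟩)) (.node (.leaf ⟨89753727, 9, 0, 289⟩) (.leaf ⟨71017855, 11, 0, 990⟩))) (.node (.node (.leaf ⟨72327940, 8, 0, 149⟩) (.leaf ⟨102925241, 11, 0, 785⟩)) (.node (.leaf ⟨39251948, 10, 1, 440⟩) (.leaf ⟨139784006, 12, 1, 1255⟩)))) (.node (.node (.node (.node (.leaf ⟨184057288, 7, 1, 79⟩) (.leaf ⟨120106707, 13, 0, 1840⟩)) (.leaf ⟨129317110, 10, 1, 692⟩)) (.node (.leaf ⟨242116275, 9, 1, 362⟩) (.leaf ⟨264186549, 11, 0, 1109⟩))) (.node (.node (.leaf ⟨95944249, 9, 1, 217⟩) (.leaf ⟨173227853, 11, 0, 885⟩)) (.node (.leaf ⟨30533453, 10, 1, 522⟩) (.leaf ⟨97245381, 12, 0, 1395⟩))))) (.node (.node (.node (.node (.node (.leaf ⟨222035864, 6, 1, 46⟩) (.leaf ⟨262762361, 12, 0, 1694⟩)) (.leaf ⟨4241269, 10, 0, 648⟩)) (.node (.leaf ⟨78380375, 9,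 0, 325⟩) (.leaf ⟨116307953, 11, 1, 1040⟩))) (.node (.node (.leaf ⟨221140075, 8, 0, 182⟩) (.leaf ⟨177698742, 11, 1, 830⟩)) (.node (.leaf ⟨41404639, 10, 0, 483⟩) (.leaf ⟨227920499, 12, 1, 1321⟩)))) (.node (.node (.node (.node (.leaf ⟨202892299, 8, 0, 114⟩) (.leaf ⟨156503023, 13, 0, 2008⟩)) (.leaf ⟨261074693, 11, 0, 742⟩)) (.node (.leaf ⟨61418988, 10, 0, 402⟩) (.leaf ⟨78108974, 11, 0, 1179⟩))) (.node (.node (.leaf ⟨236580426, 9, 1, 251⟩) (.leaf ⟨230402011, 11, 0, 939⟩)) (.node (.leaf ⟨72210922, 10, 1, 564⟩) (.leaf ⟨170239030, 12, 0, 1478⟩)))))) (.node (.node (.node (.node (.node (.node (.leaf ⟨100573237, 6, 1, 29⟩) (.leaf ⟨143889875, 12, 1, 1631⟩)) (.leaf ⟨115703356, 10, 1, 627⟩)) (.node (.leaf ⟨86368101, 9, 1, 307⟩) (.leaf ⟨255777629, 11, 0, 1015⟩))) (.node (.node (.leaf ⟨198071719, 8, 1, 165⟩) (.leaf ⟨118892882, 11, 1, 808⟩)) (.node (.leaf ⟨199679438,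 10, 0, 460⟩) (.leaf ⟨71203109, 12, 1, 1290⟩)))) (.node (.node (.node (.node (.leaf ⟨119005156, 7, 0, 96⟩) (.leaf ⟨238253983, 13, 1, 1918⟩)) (.leaf ⟨234217339, 11, 1, 717⟩)) (.node (.leaf ⟨223723255, 9, 1, 380⟩) (.leaf ⟨173150174, 11, 0, 1143⟩))) (.node (.node (.leaf ⟨173934570, 9, 1, 234⟩) (.leaf ⟨86257332, 11, 1, 910⟩)) (.node (.leaf ⟨120287999, 10, 0, 543⟩) (.leaf ⟨61466387, 12, 1, 1429⟩))))) (.node (.node (.node (.node (.node (.leaf ⟨199753439, 7, 0, 63⟩) (.leaf ⟨64147011, 13, 0, 1776⟩)) (.leaf ⟨82734637, 10, 0, 670⟩)) (.node (.leaf ⟨172553947, 9, 1, 344⟩) (.leaf ⟨100391845, 11, 0, 1074⟩))) (.node (.node (.leaf ⟨107992963, 8, 1, 198⟩) (.leaf ⟨184940917, 11, 0, 861⟩)) (.node (.leaf ⟨187295855, 10, 1, 502⟩) (.leaf ⟨188519357, 12, 1, 1360⟩)))) (.node (.node (.node (.node (.leaf ⟨265120589, 8, 1, 131⟩) (.leaf ⟨106635247, 13, 1, 2157⟩)) (.leaf ⟨245003659,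 11, 1, 763⟩)) (.node (.leaf ⟨13485014, 10, 1, 420⟩) (.leaf ⟨93938296, 12, 0, 1219⟩))) (.node (.node (.leaf ⟨259648998, 9, 0, 271⟩) (.leaf ⟨236216026, 11, 1, 965⟩)) (.node (.leaf ⟨252928532, 10, 0, 583⟩) (.leaf ⟨26552587, 12, 0, 1526⟩))))))))) (.node (.node (.node (.node (.node (.node (.node (.node (.node (.leaf ⟨123890893, 2, 1, 2⟩) (.leaf ⟨242593674, 12, 0, 1550⟩)) (.leaf ⟨243984278, 10, 0, 592⟩)) (.node (.leaf ⟨268270487, 9, 0, 277⟩) (.leaf ⟨72158871, 11, 1, 976⟩))) (.node (.node (.leaf ⟨78621531, 8, 1, 137⟩) (.leaf ⟨268418542, 11, 1, 771⟩)) (.node (.leaf ⟨115737898, 10, 0, 429⟩) (.leaf ⟨52703212, 12, 1, 1229⟩)))) (.node (.node (.node (.node (.leaf ⟨213693403, 7, 0, 69⟩) (.leaf ⟨128830408, 13, 1, 1798⟩)) (.leaf ⟨236884739, 10, 0, 678⟩)) (.node (.leaf ⟨231108601, 9, 0, 352⟩) (.leaf ⟨129941161, 11, 1, 1088⟩))) (.node (.node (.leaf ⟨175202153, 9,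 1, 205⟩) (.leaf ⟨59993903, 11, 0, 868⟩)) (.node (.leaf ⟨8346392, 10, 1, 510⟩) (.leaf ⟨234039664, 12, 0, 1375⟩))))) (.node (.node (.node (.node (.node (.leaf ⟨142194332, 6, 0, 36⟩) (.leaf ⟨68447827, 12, 1, 1658⟩)) (.leaf ⟨47995183, 10, 0, 635⟩)) (.node (.leaf ⟨67087403, 9, 1, 314⟩) (.leaf ⟨140210110, 11, 1, 1024⟩))) (.node (.node (.leaf ⟨179689978, 8, 0, 172⟩) (.leaf ⟨120570640, 11, 0, 818⟩)) (.node (.leaf ⟨251270532, 10, 0, 468⟩) (.leaf ⟨215514100, 12, 1, 1299⟩)))) (.node (.node (.node (.node (.leaf ⟨187550556, 7, 0, 103⟩) (.leaf ⟨9885096, 13, 1, 1943⟩)) (.leaf ⟨134065119, 11, 1, 727⟩)) (.node (.leaf ⟨251637157, 10, 0, 390⟩) (.leaf ⟨80499717, 11, 0, 1157⟩))) (.node (.node (.leaf ⟨157579019, 9, 0, 241⟩) (.leaf ⟨166451074, 11, 1, 919⟩)) (.node (.leaf ⟨246353910, 10, 1, 552⟩) (.leaf ⟨245764859, 12, 1, 1449⟩)))))) (.node (.node (.node (.node (.node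 (.node (.leaf ⟨172739610, 5, 1, 19⟩) (.leaf ⟨96461525, 12, 1, 1595⟩)) (.leaf ⟨74914795, 10, 1, 615⟩)) (.node (.leaf ⟨157225206, 9, 0, 296⟩) (.leaf ⟨118134264, 11, 0, 998⟩))) (.node (.node (.leaf ⟨227418423, 8, 1, 155⟩) (.leaf ⟨218070445, 11, 1, 793⟩)) (.node (.leaf ⟨153542836, 10, 1, 448⟩) (.leaf ⟨14295247, 12, 1, 1266⟩)))) (.node (.node (.node (.node (.leaf ⟨264058776, 7, 1, 85⟩) (.leaf ⟨93125206, 13, 1, 1870⟩)) (.leaf ⟨23870905, 10, 0, 703⟩)) (.node (.leaf ⟨184349590, 9, 0, 369⟩) (.leaf ⟨124111164, 11, 0, 1120⟩))) (.node (.node (.leaf ⟨228426350, 9, 1, 223⟩) (.leaf ⟨154706606, 11, 0, 895⟩)) (.node (.leaf ⟨217938093, 10, 0, 531⟩) (.leaf ⟨48935897, 12, 0, 1407⟩))))) (.node (.node (.node (.node (.node (.leaf ⟨241032321, 6, 0, 53⟩) (.leaf ⟨153100911, 12, 1, 1716⟩)) (.leaf ⟨173586263, 10, 1, 655⟩)) (.node (.leaf ⟨123649903, 9, 0, 332⟩) (.leaf ⟨182434712,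 11, 1, 1051⟩))) (.node (.node (.leaf ⟨144376435, 8, 0, 188⟩) (.leaf ⟨265739610, 11, 1, 842⟩)) (.node (.leaf ⟨14663673, 10, 1, 490⟩) (.leaf ⟨248510360, 12, 1, 1333⟩)))) (.node (.node (.node (.node (.leaf ⟨230057710, 8, 1, 120⟩) (.leaf ⟨65920586, 13, 0, 2042⟩)) (.leaf ⟨242946501, 11, 1, 749⟩)) (.node (.leaf ⟨48024873, 10, 1, 408⟩) (.leaf ⟨263182065, 12, 1, 1194⟩))) (.node (.node (.leaf ⟨227402399, 9, 0, 259⟩) (.leaf ⟨85441277, 11, 1, 947⟩)) (.node (.leaf ⟨181040349, 10, 0, 572⟩) (.leaf ⟨232164461, 12, 0, 1495⟩))))))) (.node (.node (.node (.node (.node (.node (.node (.leaf ⟨232738986, 4, 0, 11⟩) (.leaf ⟨126713648, 12, 1, 1576⟩)) (.leaf ⟨229895903, 10, 0, 604⟩)) (.node (.leaf ⟨82625364, 9, 1, 286⟩) (.leaf ⟨172611355, 11, 0, 988⟩))) (.node (.node (.leaf ⟨206859492, 8, 0, 147⟩) (.leaf ⟨125416755, 11, 0, 782⟩)) (.node (.leaf ⟨106953412, 10, 1, 438⟩) (.leaf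 ⟨23016532, 12, 0, 1247⟩)))) (.node (.node (.node (.node (.leaf ⟨34160324, 7, 0, 77⟩) (.leaf ⟨27164591, 13, 0, 1824⟩)) (.leaf ⟨153429963, 10, 0, 690⟩)) (.node (.leaf ⟨100392567, 9, 1, 360⟩) (.leaf ⟨197638390, 11, 1, 1105⟩))) (.node (.node (.leaf ⟨24618609, 9, 0, 215⟩) (.leaf ⟨238546897, 11, 1, 881⟩)) (.node (.leaf ⟨111106502, 10, 1, 520⟩) (.leaf ⟨200103923, 12, 1, 1391⟩))))) (.node (.node (.node (.node (.node (.leaf ⟨143199333, 6, 1, 44⟩) (.leaf ⟨95650452, 12, 1, 1691⟩)) (.leaf ⟨222671419, 10, 1, 644⟩)) (.node (.leaf ⟨200931440, 9, 0, 323⟩) (.leaf ⟨188535580, 11, 0, 1038⟩))) (.node (.node (.leaf ⟨43284536, 8, 0, 180⟩) (.leaf ⟨177690870, 11, 1, 828⟩)) (.node (.leaf ⟨83229810, 10, 1, 479⟩) (.leaf ⟨171635018, 12, 1, 1318⟩)))) (.node (.node (.node (.node (.leaf ⟨216293604, 8, 1, 111⟩) (.leaf ⟨265224134, 13, 0, 1998⟩)) (.leaf ⟨237526147, 11, 1, 739⟩))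 (.node (.leaf ⟨177018166, 10, 0, 400⟩) (.leaf ⟨66640623, 11, 1, 1174⟩))) (.node (.node (.leaf ⟨128671294, 9, 1, 249⟩) (.leaf ⟨98859922, 11, 1, 934⟩)) (.node (.leaf ⟨264035217, 10, 1, 562⟩) (.leaf ⟨47308029, 12, 1, 1474⟩)))))) (.node (.node (.node (.node (.node (.node (.leaf ⟨155754310, 5, 1, 27⟩) (.leaf ⟨214485530, 12, 0, 1629⟩)) (.leaf ⟨225436769, 10, 0, 625⟩)) (.node (.leaf ⟨189978502, 9, 1, 305⟩) (.leaf ⟨186470867, 11, 0, 1013⟩))) (.node (.node (.leaf ⟨99284967, 8, 1, 163⟩) (.leaf ⟨44267950, 11, 1, 803⟩)) (.node (.leaf ⟨179114796, 10, 1, 457⟩) (.leaf ⟨142359620, 12, 1, 1285⟩)))) (.node (.node (.node (.node (.leaf ⟨189978550, 7, 0, 94⟩) (.leaf ⟨254234470, 13, 1, 1909⟩)) (.leaf ⟨186340159, 11, 0, 715⟩)) (.node (.leaf ⟨55545765, 9, 1, 378⟩) (.leaf ⟨195624587, 11, 1, 1138⟩))) (.node (.node (.leaf ⟨154653055, 9, 0, 232⟩) (.leaf ⟨255875596, 11, 1,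 907⟩)) (.node (.leaf ⟨142566108, 10, 1, 540⟩) (.leaf ⟨255628952, 12, 0, 1422⟩))))) (.node (.node (.node (.node (.node (.leaf ⟨187193843, 7, 0, 61⟩) (.leaf ⟨39344775, 12, 1, 1762⟩)) (.leaf ⟨194292471, 10, 1, 667⟩)) (.node (.leaf ⟨206768637, 9, 0, 342⟩) (.leaf ⟨52177361, 11, 0, 1067⟩))) (.node (.node (.leaf ⟨258423114, 8, 1, 196⟩) (.leaf ⟨246087032, 11, 0, 858⟩)) (.node (.leaf ⟨260103572, 10, 0, 500⟩) (.leaf ⟨167655951, 12, 1, 1357⟩)))) (.node (.node (.node (.node (.leaf ⟨252072111, 8, 1, 129⟩) (.leaf ⟨116155435, 13, 0, 2142⟩)) (.leaf ⟨159764122, 11, 1, 760⟩)) (.node (.leaf ⟨126669406, 10, 1, 418⟩) (.leaf ⟨105142387, 12, 1, 1212⟩))) (.node (.node (.leaf ⟨7485437, 9, 0, 269⟩) (.leaf ⟨265182317, 11, 0, 960⟩)) (.node (.leaf ⟨101171550, 10, 0, 581⟩) (.leaf ⟨129871244, 12, 1, 1520⟩)))))))) (.node (.node (.node (.node (.node (.node (.node (.node (.leaf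 ⟨176346510, 4, 0, 7⟩) (.leaf ⟨90792344, 12, 0, 1566⟩)) (.leaf ⟨186311342, 10, 0, 598⟩)) (.node (.leaf ⟨62301414, 9, 1, 281⟩) (.leaf ⟨29289923, 11, 1, 981⟩))) (.node (.node (.leaf ⟨66922491, 8, 1, 142⟩) (.leaf ⟨162964660, 11, 0, 777⟩)) (.node (.leaf ⟨164685326, 10, 1, 434⟩) (.leaf ⟨25535583, 12, 0, 1240⟩)))) (.node (.node (.node (.node (.leaf ⟨94885821, 7, 0, 73⟩) (.leaf ⟨108379372, 13, 1, 1807⟩)) (.leaf ⟨33331888, 10, 0, 685⟩)) (.node (.leaf ⟨124284919, 9, 0, 356⟩) (.leaf ⟨224162812, 11, 0, 1100⟩))) (.node (.node (.leaf ⟨11509193, 9, 0, 210⟩) (.leaf ⟨267255744, 11, 0, 873⟩)) (.node (.leaf ⟨106789560, 10, 0, 516⟩) (.leaf ⟨233698368, 12, 1, 1383⟩))))) (.node (.node (.node (.node (.node (.leaf ⟨91690806, 6, 0, 40⟩) (.leaf ⟨241824100, 12, 1, 1676⟩)) (.leaf ⟨205468638, 10, 1, 639⟩)) (.node (.leaf ⟨233570096, 9, 0, 319⟩) (.leaf ⟨114436601, 11, 0, 1032⟩)))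 (.node (.node (.leaf ⟨246827133, 8, 0, 176⟩) (.leaf ⟨209161184, 11, 1, 823⟩)) (.node (.leaf ⟨185412874, 10, 0, 472⟩) (.leaf ⟨239372814, 12, 0, 1309⟩)))) (.node (.node (.node (.node (.leaf ⟨220139151, 8, 1, 107⟩) (.leaf ⟨52093211, 13, 0, 1964⟩)) (.leaf ⟨130133326, 11, 0, 734⟩)) (.node (.leaf ⟨96410436, 10, 1, 394⟩) (.leaf ⟨211055515, 11, 0, 1168⟩))) (.node (.node (.leaf ⟨2237272, 9, 1, 245⟩) (.leaf ⟨243069981, 11, 0, 928⟩)) (.node (.leaf ⟨139585455, 10, 0, 557⟩) (.leaf ⟨134864077, 12, 0, 1466⟩)))))) (.node (.node (.node (.node (.node (.node (.leaf ⟨254332902, 5, 1, 23⟩) (.leaf ⟨226619824, 12, 0, 1608⟩)) (.leaf ⟨133953816, 10, 1, 620⟩)) (.node (.leaf ⟨123042614, 9, 1, 300⟩) (.leaf ⟨26246102, 11, 0, 1007⟩))) (.node (.node (.leaf ⟨39665655, 8, 1, 159⟩) (.leaf ⟨259959277, 11, 1, 799⟩)) (.node (.leaf ⟨174860587, 10, 1, 452⟩) (.leaf ⟨126180774, 12, 0,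 1274⟩)))) (.node (.node (.node (.node (.leaf ⟨63378646, 7, 0, 90⟩) (.leaf ⟨239819791, 13, 0, 1887⟩)) (.leaf ⟨265745611, 11, 1, 708⟩)) (.node (.leaf ⟨214748007, 9, 1, 374⟩) (.leaf ⟨41287597, 11, 1, 1130⟩))) (.node (.node (.leaf ⟨188584479, 9, 0, 228⟩) (.leaf ⟨210001898, 11, 0, 903⟩)) (.node (.leaf ⟨167701439, 10, 0, 535⟩) (.leaf ⟨104052008, 12, 1, 1414⟩))))) (.node (.node (.node (.node (.node (.leaf ⟨238249082, 7, 0, 57⟩) (.leaf ⟨212554653, 12, 1, 1742⟩)) (.leaf ⟨209680459, 10, 1, 661⟩)) (.node (.leaf ⟨209074078, 9, 1, 337⟩) (.leaf ⟨203832700, 11, 1, 1057⟩))) (.node (.node (.leaf ⟨35845149, 8, 0, 192⟩) (.leaf ⟨248071403, 11, 0, 850⟩)) (.node (.leaf ⟨194828994, 10, 0, 496⟩) (.leaf ⟨32642758, 12, 0, 1345⟩)))) (.node (.node (.node (.node (.leaf ⟨147256021, 8, 0, 125⟩) (.leaf ⟨165884671, 13, 0, 2084⟩)) (.leaf ⟨255192408, 11, 0, 754⟩)) (.node (.leaf ⟨243157617,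 10, 0, 414⟩) (.leaf ⟨219621054, 12, 1, 1201⟩))) (.node (.node (.leaf ⟨101115338, 9, 0, 263⟩) (.leaf ⟨129476171, 11, 1, 953⟩)) (.node (.leaf ⟨154632751, 10, 1, 576⟩) (.leaf ⟨201805261, 12, 1, 1506⟩))))))) (.node (.node (.node (.node (.node (.node (.node (.leaf ⟨184010214, 5, 0, 15⟩) (.leaf ⟨229816285, 12, 1, 1586⟩)) (.leaf ⟨257185057, 10, 1, 608⟩)) (.node (.leaf ⟨30398445, 9, 0, 291⟩) (.leaf ⟨49056363, 11, 1, 992⟩))) (.node (.node (.leaf ⟨110883788, 8, 1, 151⟩) (.leaf ⟨8974844, 11, 1, 788⟩)) (.node (.leaf ⟨268121656, 10, 0, 443⟩) (.leaf ⟨133347546, 12, 0, 1259⟩)))) (.node (.node (.node (.node (.leaf ⟨167987491, 7, 1, 81⟩) (.leaf ⟨149823308, 13, 0, 1854⟩)) (.leaf ⟨108076346, 10, 1, 694⟩)) (.node (.leaf ⟨88916881, 9, 0, 365⟩) (.leaf ⟨263581137, 11, 0, 1113⟩))) (.node (.node (.leaf ⟨223424378, 9, 1, 219⟩) (.leaf ⟨7135133, 11, 1, 889⟩)) (.node (.leaf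 ⟨222764298, 10, 1, 524⟩) (.leaf ⟨35764673, 12, 0, 1399⟩))))) (.node (.node (.node (.node (.node (.leaf ⟨25838838, 6, 0, 49⟩) (.leaf ⟨248192465, 12, 0, 1704⟩)) (.leaf ⟨111205416, 10, 1, 650⟩)) (.node (.leaf ⟨133935829, 9, 1, 327⟩) (.leaf ⟨66662008, 11, 0, 1046⟩))) (.node (.node (.leaf ⟨72604733, 8, 0, 184⟩) (.leaf ⟨247872959, 11, 0, 835⟩)) (.node (.leaf ⟨127132956, 10, 1, 485⟩) (.leaf ⟨267120819, 12, 1, 1325⟩)))) (.node (.node (.node (.node (.leaf ⟨194905599, 8, 0, 116⟩) (.leaf ⟨75997622, 13, 1, 2023⟩)) (.leaf ⟨61027067, 11, 1, 744⟩)) (.node (.leaf ⟨6490908, 10, 0, 404⟩) (.leaf ⟨254984059, 11, 1, 1183⟩))) (.node (.node (.leaf ⟨127591203, 9, 1, 253⟩) (.leaf ⟨65631828, 11, 1, 941⟩)) (.node (.leaf ⟨201254829, 10, 1, 567⟩) (.leaf ⟨28610961, 12, 1, 1481⟩)))))) (.node (.node (.node (.node (.node (.node (.leaf ⟨52101043, 6, 1, 31⟩) (.leaf ⟨42889215, 12,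 1, 1645⟩)) (.leaf ⟨159014411, 10, 1, 629⟩)) (.node (.leaf ⟨80082232, 9, 0, 310⟩) (.leaf ⟨163922483, 11, 1, 1017⟩))) (.node (.node (.leaf ⟨259071442, 8, 1, 167⟩) (.leaf ⟨180998953, 11, 0, 812⟩)) (.node (.leaf ⟨148317173, 10, 1, 462⟩) (.leaf ⟨243046335, 12, 0, 1293⟩)))) (.node (.node (.node (.node (.leaf ⟨20958629, 7, 1, 98⟩) (.leaf ⟨262158235, 13, 1, 1931⟩)) (.leaf ⟨106002097, 11, 0, 720⟩)) (.node (.leaf ⟨247727980, 9, 1, 383⟩) (.leaf ⟨248421634, 11, 1, 1147⟩))) (.node (.node (.leaf ⟨179560441, 9, 1, 236⟩) (.leaf ⟨100082952, 11, 0, 914⟩)) (.node (.leaf ⟨178641998, 10, 0, 546⟩) (.leaf ⟨56064335, 12, 1, 1437⟩))))) (.node (.node (.node (.node (.node (.leaf ⟨230071981, 7, 0, 65⟩) (.leaf ⟨88462902, 13, 1, 1781⟩)) (.leaf ⟨114298991, 10, 0, 673⟩)) (.node (.leaf ⟨38190014, 9, 0, 347⟩) (.leaf ⟨163376994, 11, 0, 1078⟩))) (.node (.node (.leaf ⟨52021839, 8,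 1, 200⟩) (.leaf ⟨133690819, 11, 1, 863⟩)) (.node (.leaf ⟨210231033, 10, 1, 504⟩) (.leaf ⟨60766091, 12, 1, 1364⟩)))) (.node (.node (.node (.node (.leaf ⟨257051380, 8, 1, 133⟩) (.leaf ⟨196675959, 14, 1, 2240⟩)) (.leaf ⟨156183191, 11, 1, 765⟩)) (.node (.leaf ⟨199711292, 10, 0, 424⟩) (.leaf ⟨233536542, 12, 0, 1223⟩))) (.node (.node (.leaf ⟨101570149, 9, 0, 273⟩) (.leaf ⟨54023062, 11, 1, 968⟩)) (.node (.leaf ⟨144072215, 10, 1, 586⟩) (.leaf ⟨163039075, 12, 0, 1531⟩))))))))))) (.node (.node (.node (.node (.node (.node (.node (.node (.node (.node (.node (.leaf ⟨124775785, 1, 0, 0⟩) (.leaf ⟨83865061, 12, 0, 1542⟩)) (.leaf ⟨182691735, 10, 1, 588⟩)) (.node (.leaf ⟨120453560, 9, 1, 274⟩) (.leaf ⟨78257265, 11, 1, 972⟩))) (.node (.node (.leaf ⟨48524568, 8, 0, 135⟩) (.leaf ⟨159643870, 11, 0, 768⟩)) (.node (.leaf ⟨79495142, 10, 0, 426⟩) (.leaf ⟨212819649, 12, 0,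 1226⟩)))) (.node (.node (.node (.node (.leaf ⟨189419277, 7, 1, 66⟩) (.leaf ⟨113244849, 13, 0, 1788⟩)) (.leaf ⟨68163092, 10, 1, 674⟩)) (.node (.leaf ⟨220796980, 9, 1, 348⟩) (.leaf ⟨150170714, 11, 0, 1081⟩))) (.node (.node (.leaf ⟨230543345, 8, 1, 202⟩) (.leaf ⟨205444094, 11, 0, 865⟩)) (.node (.leaf ⟨237991821, 10, 1, 506⟩) (.leaf ⟨151748578, 12, 1, 1367⟩))))) (.node (.node (.node (.node (.node (.leaf ⟨116388988, 6, 0, 33⟩) (.leaf ⟨250571611, 12, 0, 1653⟩)) (.leaf ⟨145746409, 10, 0, 632⟩)) (.node (.leaf ⟨220367521, 9, 1, 311⟩) (.leaf ⟨60904479, 11, 0, 1020⟩))) (.node (.node (.leaf ⟨193561788, 8, 1, 169⟩) (.leaf ⟨42595455, 11, 0, 814⟩)) (.node (.leaf ⟨49570941, 10, 0, 464⟩) (.leaf ⟨149784449, 12, 0, 1296⟩)))) (.node (.node (.node (.node (.leaf ⟨259749718, 7, 0, 100⟩) (.leaf ⟨266559257, 13, 1, 1934⟩)) (.leaf ⟨113078826, 11, 1, 722⟩)) (.node (.leaf ⟨33252127,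 9, 1, 385⟩) (.leaf ⟨99634402, 11, 1, 1150⟩))) (.node (.node (.leaf ⟨35912027, 9, 1, 238⟩) (.leaf ⟨246708095, 11, 1, 915⟩)) (.node (.leaf ⟨66320698, 10, 0, 548⟩) (.leaf ⟨118423009, 12, 1, 1445⟩)))))) (.node (.node (.node (.node (.node (.node (.leaf ⟨224222614, 5, 1, 16⟩) (.leaf ⟨46131933, 12, 1, 1590⟩)) (.leaf ⟨52297539, 10, 1, 611⟩)) (.node (.leaf ⟨44110652, 9, 1, 292⟩) (.leaf ⟨30222087, 11, 0, 995⟩))) (.node (.node (.leaf ⟨4087586, 8, 0, 153⟩) (.leaf ⟨229474970, 11, 0, 790⟩)) (.node (.leaf ⟨83835229, 10, 0, 445⟩) (.leaf ⟨81452222, 12, 0, 1261⟩)))) (.node (.node (.node (.node (.leaf ⟨245299555, 7, 0, 83⟩) (.leaf ⟨263747087, 13, 0, 1861⟩)) (.leaf ⟨250629227, 10, 1, 698⟩)) (.node (.leaf ⟨208595237, 9, 1, 366⟩) (.leaf ⟨228785940, 11, 1, 1115⟩))) (.node (.node (.leaf ⟨76962731, 9, 0, 221⟩) (.leaf ⟨139510395, 11, 0, 891⟩)) (.node (.leaf ⟨228158439, 10,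 1, 526⟩) (.leaf ⟨184791026, 12, 0, 1401⟩))))) (.node (.node (.node (.node (.node (.leaf ⟨223325794, 6, 1, 50⟩) (.leaf ⟨262109670, 12, 1, 1705⟩)) (.leaf ⟨150127695, 10, 1, 652⟩)) (.node (.leaf ⟨241945118, 9, 0, 329⟩) (.leaf ⟨103653041, 11, 0, 1048⟩))) (.node (.node (.leaf ⟨166574936, 8, 1, 185⟩) (.leaf ⟨195989057, 11, 1, 837⟩)) (.node (.leaf ⟨195737631, 10, 1, 487⟩) (.leaf ⟨194593686, 12, 0, 1329⟩)))) (.node (.node (.node (.node (.leaf ⟨87718475, 8, 0, 118⟩) (.leaf ⟨240451500, 13, 0, 2033⟩)) (.leaf ⟨221374212, 11, 1, 746⟩)) (.node (.leaf ⟨230561373, 10, 1, 405⟩) (.leaf ⟨78888000, 11, 0, 1185⟩))) (.node (.node (.leaf ⟨185130884, 9, 0, 255⟩) (.leaf ⟨154455468, 11, 1, 944⟩)) (.node (.leaf ⟨83101675, 10, 0, 569⟩) (.leaf ⟨242766787, 12, 0, 1487⟩))))))) (.node (.node (.node (.node (.node (.node (.node (.leaf ⟨129036776, 4, 1, 8⟩) (.leaf ⟨126182856, 12,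 0, 1571⟩)) (.leaf ⟨149501242, 10, 1, 600⟩)) (.node (.leaf ⟨124944226, 9, 1, 283⟩) (.leaf ⟨127576196, 11, 0, 984⟩))) (.node (.node (.leaf ⟨121843800, 8, 1, 144⟩) (.leaf ⟨201237478, 11, 0, 779⟩)) (.node (.leaf ⟨228438009, 10, 0, 436⟩) (.leaf ⟨48630558, 12, 0, 1243⟩)))) (.node (.node (.node (.node (.leaf ⟨9722886, 7, 1, 74⟩) (.leaf ⟨257299587, 13, 0, 1812⟩)) (.leaf ⟨265726903, 10, 1, 686⟩)) (.node (.leaf ⟨6202771, 9, 1, 357⟩) (.leaf ⟨250399769, 11, 1, 1102⟩))) (.node (.node (.leaf ⟨25932527, 9, 0, 212⟩) (.leaf ⟨229950606, 11, 0, 876⟩)) (.node (.leaf ⟨47881510, 10, 1, 517⟩) (.leaf ⟨130177372, 12, 0, 1386⟩))))) (.node (.node (.node (.node (.node (.leaf ⟨242581956, 6, 1, 41⟩) (.leaf ⟨167061347, 12, 0, 1679⟩)) (.leaf ⟨37594081, 10, 1, 641⟩)) (.node (.leaf ⟨67108853, 9, 1, 320⟩) (.leaf ⟨216377807, 11, 0, 1034⟩))) (.node (.node (.leaf ⟨209704230, 8, 1, 177⟩)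 (.leaf ⟨3362622, 11, 1, 825⟩)) (.node (.leaf ⟨259624183, 10, 1, 473⟩) (.leaf ⟨98824350, 12, 0, 1313⟩)))) (.node (.node (.node (.node (.leaf ⟨167505215, 8, 0, 109⟩) (.leaf ⟨15001742, 13, 0, 1972⟩)) (.leaf ⟨267363658, 11, 0, 736⟩)) (.node (.leaf ⟨266730856, 10, 0, 396⟩) (.leaf ⟨56956698, 11, 1, 1169⟩))) (.node (.node (.leaf ⟨92727789, 9, 0, 247⟩) (.leaf ⟨125189688, 11, 1, 930⟩)) (.node (.leaf ⟨107850172, 10, 1, 558⟩) (.leaf ⟨109894356, 12, 1, 1468⟩)))))) (.node (.node (.node (.node (.node (.node (.leaf ⟨3292407, 5, 0, 25⟩) (.leaf ⟨54447884, 12, 1, 1617⟩)) (.leaf ⟨63934514, 10, 0, 622⟩)) (.node (.leaf ⟨131527855, 9, 0, 303⟩) (.leaf ⟨236055401, 11, 1, 1009⟩))) (.node (.node (.leaf ⟨229555831, 8, 0, 161⟩) (.leaf ⟨221815276, 11, 0, 801⟩)) (.node (.leaf ⟨257089100, 10, 0, 454⟩) (.leaf ⟨221913750, 12, 1, 1278⟩)))) (.node (.node (.node (.node (.leaf ⟨45833010,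 7, 1, 91⟩) (.leaf ⟨261091039, 13, 0, 1895⟩)) (.leaf ⟨66479628, 11, 0, 711⟩)) (.node (.leaf ⟨75228057, 9, 0, 376⟩) (.leaf ⟨96818309, 11, 0, 1132⟩))) (.node (.node (.leaf ⟨265608187, 9, 1, 229⟩) (.leaf ⟨129281951, 11, 1, 904⟩)) (.node (.leaf ⟨239915469, 10, 1, 537⟩) (.leaf ⟨133036539, 12, 1, 1416⟩))))) (.node (.node (.node (.node (.node (.leaf ⟨259643794, 7, 1, 58⟩) (.leaf ⟨149948199, 12, 0, 1744⟩)) (.leaf ⟨37625383, 10, 1, 663⟩)) (.node (.leaf ⟨117779038, 9, 0, 339⟩) (.leaf ⟨247922663, 11, 0, 1060⟩))) (.node (.node (.leaf ⟨242589104, 8, 0, 194⟩) (.leaf ⟨268367809, 11, 1, 853⟩)) (.node (.leaf ⟨1247076, 10, 1, 497⟩) (.leaf ⟨186567008, 12, 0, 1350⟩)))) (.node (.node (.node (.node (.leaf ⟨263582678, 8, 1, 126⟩) (.leaf ⟨267317877, 13, 0, 2095⟩)) (.leaf ⟨72565702, 11, 0, 757⟩)) (.node (.leaf ⟨120976312, 10, 1, 415⟩) (.leaf ⟨207907869, 12, 1, 1205⟩))) (.node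 (.node (.leaf ⟨145232334, 9, 0, 265⟩) (.leaf ⟨191848971, 11, 0, 956⟩)) (.node (.leaf ⟨182537343, 10, 1, 578⟩) (.leaf ⟨18781496, 12, 1, 1511⟩)))))))) (.node (.node (.node (.node (.node (.node (.node (.node (.leaf ⟨120973101, 3, 0, 4⟩) (.leaf ⟨162515068, 12, 0, 1561⟩)) (.leaf ⟨225373190, 10, 0, 594⟩)) (.node (.leaf ⟨131203070, 9, 1, 278⟩) (.leaf ⟨41577196, 11, 0, 979⟩))) (.node (.node (.leaf ⟨224294739, 8, 1, 139⟩) (.leaf ⟨259946292, 11, 0, 773⟩)) (.node (.leaf ⟨158279647, 10, 0, 431⟩) (.leaf ⟨89620583, 12, 1, 1232⟩)))) (.node (.node (.node (.node (.leaf ⟨232611820, 7, 1, 70⟩) (.leaf ⟨38528495, 13, 0, 1801⟩)) (.leaf ⟨229398041, 10, 1, 679⟩)) (.node (.leaf ⟨192862458, 9, 1, 353⟩) (.leaf ⟨63176584, 11, 0, 1093⟩))) (.node (.node (.leaf ⟨98332212, 9, 1, 207⟩) (.leaf ⟨220130163, 11, 0, 870⟩)) (.node (.leaf ⟨102113066, 10, 1, 512⟩) (.leaf ⟨16493491, 12,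 0, 1379⟩))))) (.node (.node (.node (.node (.node (.leaf ⟨99904627, 6, 1, 37⟩) (.leaf ⟨153935820, 12, 1, 1660⟩)) (.leaf ⟨166651818, 10, 0, 637⟩)) (.node (.leaf ⟨113093666, 9, 0, 316⟩) (.leaf ⟨7110881, 11, 0, 1027⟩))) (.node (.node (.leaf ⟨221264171, 8, 1, 173⟩) (.leaf ⟨123887086, 11, 0, 820⟩)) (.node (.leaf ⟨193755478, 10, 1, 469⟩) (.leaf ⟨207354679, 12, 1, 1303⟩)))) (.node (.node (.node (.node (.leaf ⟨130433016, 7, 1, 104⟩) (.leaf ⟨189594493, 13, 0, 1950⟩)) (.leaf ⟨245317540, 11, 1, 729⟩)) (.node (.leaf ⟨97034451, 10, 1, 391⟩) (.leaf ⟨81385141, 11, 1, 1161⟩))) (.node (.node (.leaf ⟨200817944, 9, 0, 243⟩) (.leaf ⟨50302935, 11, 1, 922⟩)) (.node (.leaf ⟨181280193, 10, 0, 554⟩) (.leaf ⟨239524829, 12, 1, 1458⟩)))))) (.node (.node (.node (.node (.node (.node (.leaf ⟨133332248, 5, 0, 21⟩) (.leaf ⟨217544023, 12, 1, 1599⟩)) (.leaf ⟨128936330, 10, 1, 617⟩))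 (.node (.leaf ⟨27446768, 9, 1, 297⟩) (.leaf ⟨36199289, 11, 0, 1001⟩))) (.node (.node (.leaf ⟨258304771, 8, 0, 157⟩) (.leaf ⟨244873178, 11, 1, 796⟩)) (.node (.leaf ⟨13757486, 10, 0, 450⟩) (.leaf ⟨78732270, 12, 1, 1268⟩)))) (.node (.node (.node (.node (.leaf ⟨112830737, 7, 1, 87⟩) (.leaf ⟨267454389, 13, 1, 1876⟩)) (.leaf ⟨235335814, 10, 0, 705⟩)) (.node (.leaf ⟨266044539, 9, 1, 371⟩) (.leaf ⟨45078863, 11, 1, 1126⟩))) (.node (.node (.leaf ⟨107005985, 9, 1, 225⟩) (.leaf ⟨144650520, 11, 1, 899⟩)) (.node (.leaf ⟨255112131, 10, 1, 532⟩) (.leaf ⟨54123119, 12, 0, 1410⟩))))) (.node (.node (.node (.node (.node (.leaf ⟨138184008, 6, 1, 54⟩) (.leaf ⟨132076035, 12, 0, 1727⟩)) (.leaf ⟨267827169, 10, 0, 659⟩)) (.node (.leaf ⟨154055804, 9, 1, 333⟩) (.leaf ⟨99909598, 11, 0, 1055⟩))) (.node (.node (.leaf ⟨181300083, 8, 1, 189⟩) (.leaf ⟨87551428, 11, 1, 844⟩)) (.node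 (.leaf ⟨108849113, 10, 1, 492⟩) (.leaf ⟨161435478, 12, 1, 1336⟩)))) (.node (.node (.node (.node (.leaf ⟨129730451, 8, 0, 122⟩) (.leaf ⟨231647062, 13, 0, 2061⟩)) (.leaf ⟨14202651, 11, 0, 751⟩)) (.node (.leaf ⟨79948525, 10, 1, 410⟩) (.leaf ⟨213964101, 12, 1, 1196⟩))) (.node (.node (.leaf ⟨118408631, 9, 1, 260⟩) (.leaf ⟨123260062, 11, 1, 949⟩)) (.node (.leaf ⟨164497977, 10, 0, 574⟩) (.leaf ⟨42005563, 12, 1, 1498⟩))))))) (.node (.node (.node (.node (.node (.node (.node (.leaf ⟨181317606, 4, 1, 12⟩) (.leaf ⟨124693975, 12, 0, 1581⟩)) (.leaf ⟨191988584, 10, 1, 605⟩)) (.node (.leaf ⟨237018972, 9, 1, 288⟩) (.leaf ⟨104252569, 11, 1, 989⟩))) (.node (.node (.leaf ⟨193311133, 8, 1, 148⟩) (.leaf ⟨77567504, 11, 1, 783⟩)) (.node (.leaf ⟨65544115, 10, 0, 440⟩) (.leaf ⟨201010867, 12, 1, 1253⟩)))) (.node (.node (.node (.node (.leaf ⟨237533046, 7, 0, 79⟩) (.leaf ⟨103513531,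 13, 1, 1839⟩)) (.leaf ⟨189030894, 10, 0, 692⟩)) (.node (.leaf ⟨265055898, 9, 0, 362⟩) (.leaf ⟨149208235, 11, 0, 1108⟩))) (.node (.node (.leaf ⟨172398548, 9, 1, 216⟩) (.leaf ⟨133948237, 11, 0, 884⟩)) (.node (.leaf ⟨265655636, 10, 0, 522⟩) (.leaf ⟨40557915, 12, 1, 1394⟩))))) (.node (.node (.node (.node (.node (.leaf ⟨145147721, 6, 0, 46⟩) (.leaf ⟨264951530, 12, 1, 1693⟩)) (.leaf ⟨264302313, 10, 1, 647⟩)) (.node (.leaf ⟨219243440, 9, 1, 324⟩) (.leaf ⟨234574044, 11, 0, 1040⟩))) (.node (.node (.leaf ⟨219447059, 8, 1, 181⟩) (.leaf ⟨250364899, 11, 0, 830⟩)) (.node (.leaf ⟨30412765, 10, 1, 482⟩) (.leaf ⟨91261417, 12, 0, 1321⟩)))) (.node (.node (.node (.node (.leaf ⟨51175331, 8, 1, 113⟩) (.leaf ⟨231189849, 13, 1, 2005⟩)) (.leaf ⟨140977060, 11, 1, 741⟩)) (.node (.leaf ⟨90520823, 10, 1, 401⟩) (.leaf ⟨248569624, 11, 0, 1177⟩))) (.node (.node (.leaf ⟨53730653,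 9, 0, 251⟩) (.leaf ⟨198305580, 11, 0, 937⟩)) (.node (.leaf ⟨48206460, 10, 0, 564⟩) (.leaf ⟨117879139, 12, 1, 1476⟩)))))) (.node (.node (.node (.node (.node (.node (.leaf ⟨201103980, 6, 0, 29⟩) (.leaf ⟨28992967, 12, 1, 1630⟩)) (.leaf ⟨116905535, 10, 0, 627⟩)) (.node (.leaf ⟨166295399, 9, 0, 307⟩) (.leaf ⟨47862367, 11, 1, 1014⟩))) (.node (.node (.leaf ⟨192142948, 8, 0, 165⟩) (.leaf ⟨205382381, 11, 1, 807⟩)) (.node (.leaf ⟨138206488, 10, 1, 459⟩) (.leaf ⟨207467058, 12, 1, 1288⟩)))) (.node (.node (.node (.node (.leaf ⟨82210337, 7, 1, 95⟩) (.leaf ⟨216374710, 13, 1, 1916⟩)) (.leaf ⟨117301145, 11, 0, 717⟩)) (.node (.leaf ⟨138877219, 9, 0, 380⟩) (.leaf ⟨57602381, 11, 0, 1142⟩))) (.node (.node (.leaf ⟨21534198, 9, 0, 234⟩) (.leaf ⟨8182283, 11, 0, 910⟩)) (.node (.leaf ⟨49512439, 10, 1, 542⟩) (.leaf ⟨73511114, 12, 0, 1428⟩))))) (.node (.node (.node (.node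 (.node (.leaf ⟨164084655, 7, 1, 62⟩) (.leaf ⟨220356470, 13, 0, 1771⟩)) (.leaf ⟨216740698, 10, 1, 669⟩)) (.node (.leaf ⟨250609635, 9, 0, 344⟩) (.leaf ⟨53370129, 11, 1, 1073⟩))) (.node (.node (.leaf ⟨158595259, 8, 0, 198⟩) (.leaf ⟨60743654, 11, 1, 860⟩)) (.node (.leaf ⟨167156402, 10, 0, 502⟩) (.leaf ⟨107849582, 12, 0, 1360⟩)))) (.node (.node (.node (.node (.leaf ⟨55401432, 8, 0, 131⟩) (.leaf ⟨133402313, 13, 0, 2154⟩)) (.leaf ⟨209711866, 11, 1, 762⟩)) (.node (.leaf ⟨96286376, 10, 0, 420⟩) (.leaf ⟨55983979, 12, 1, 1217⟩))) (.node (.node (.leaf ⟨186639270, 9, 1, 270⟩) (.leaf ⟨159650841, 11, 0, 964⟩)) (.node (.leaf ⟨245389253, 10, 1, 582⟩) (.leaf ⟨35072957, 12, 1, 1523⟩))))))))) (.node (.node (.node (.node (.node (.node (.node (.node (.node (.leaf ⟨24899387, 2, 0, 2⟩) (.leaf ⟨149899440, 12, 0, 1549⟩)) (.leaf ⟨181978967, 10, 1, 590⟩)) (.node (.leaf ⟨187239359,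 9, 1, 276⟩) (.leaf ⟨154551930, 11, 1, 975⟩))) (.node (.node (.leaf ⟨165269294, 8, 0, 137⟩) (.leaf ⟨97617774, 11, 1, 770⟩)) (.node (.leaf ⟨243162736, 10, 1, 428⟩) (.leaf ⟨190493519, 12, 0, 1229⟩)))) (.node (.node (.node (.node (.leaf ⟨216449259, 7, 1, 68⟩) (.leaf ⟨191279081, 13, 1, 1794⟩)) (.leaf ⟨171425183, 10, 0, 677⟩)) (.node (.leaf ⟨124641705, 9, 0, 351⟩) (.leaf ⟨126548765, 11, 1, 1086⟩))) (.node (.node (.leaf ⟨105799744, 9, 0, 205⟩) (.leaf ⟨57460287, 11, 0, 867⟩)) (.node (.leaf ⟨265236049, 10, 0, 510⟩) (.leaf ⟨265535373, 12, 0, 1372⟩))))) (.node (.node (.node (.node (.node (.leaf ⟨178966702, 6, 1, 35⟩) (.leaf ⟨174802214, 12, 1, 1656⟩)) (.leaf ⟨99481147, 10, 0, 634⟩)) (.node (.leaf ⟨38370054, 9, 1, 313⟩) (.leaf ⟨182724054, 11, 0, 1024⟩))) (.node (.node (.leaf ⟨217440623, 8, 1, 171⟩) (.leaf ⟨267648141, 11, 1, 816⟩)) (.node (.leaf ⟨134211843, 10,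 1, 467⟩) (.leaf ⟨194186694, 12, 0, 1299⟩)))) (.node (.node (.node (.node (.leaf ⟨153378737, 7, 1, 102⟩) (.leaf ⟨240614939, 13, 1, 1940⟩)) (.leaf ⟨240019665, 11, 0, 727⟩)) (.node (.leaf ⟨220164767, 10, 0, 389⟩) (.leaf ⟨154069195, 11, 1, 1155⟩))) (.node (.node (.leaf ⟨162464858, 9, 1, 240⟩) (.leaf ⟨260307818, 11, 1, 918⟩)) (.node (.leaf ⟨227064441, 10, 0, 551⟩) (.leaf ⟨46840829, 12, 0, 1449⟩)))))) (.node (.node (.node (.node (.node (.node (.leaf ⟨88998391, 5, 1, 18⟩) (.leaf ⟨152344555, 12, 1, 1594⟩)) (.leaf ⟨146077150, 10, 0, 615⟩)) (.node (.leaf ⟨245981691, 9, 1, 295⟩) (.leaf ⟨263540551, 11, 1, 997⟩))) (.node (.node (.leaf ⟨222255174, 8, 0, 155⟩) (.leaf ⟨121521822, 11, 0, 793⟩)) (.node (.leaf ⟨225574735, 10, 0, 448⟩) (.leaf ⟨265999904, 12, 0, 1266⟩)))) (.node (.node (.node (.node (.leaf ⟨189429267, 7, 0, 85⟩) (.leaf ⟨213037755, 13, 0, 1869⟩)) (.leaf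 ⟨147119704, 10, 1, 702⟩)) (.node (.leaf ⟨198646862, 9, 1, 368⟩) (.leaf ⟨93658616, 11, 1, 1118⟩))) (.node (.node (.leaf ⟨39520537, 9, 0, 223⟩) (.leaf ⟨32752197, 11, 1, 894⟩)) (.node (.leaf ⟨260306886, 10, 1, 530⟩) (.leaf ⟨147228644, 12, 1, 1405⟩))))) (.node (.node (.node (.node (.node (.leaf ⟨223313375, 6, 1, 52⟩) (.leaf ⟨184210094, 12, 1, 1714⟩)) (.leaf ⟨179746169, 10, 0, 655⟩)) (.node (.leaf ⟨14173428, 9, 1, 331⟩) (.leaf ⟨225809162, 11, 0, 1051⟩))) (.node (.node (.leaf ⟨242234953, 8, 1, 187⟩) (.leaf ⟨148228287, 11, 1, 841⟩)) (.node (.leaf ⟨198392523, 10, 0, 490⟩) (.leaf ⟨54676545, 12, 1, 1332⟩)))) (.node (.node (.node (.node (.leaf ⟨1321726, 8, 0, 120⟩) (.leaf ⟨97738592, 13, 0, 2040⟩)) (.leaf ⟨170449324, 11, 1, 748⟩)) (.node (.leaf ⟨231172701, 10, 0, 408⟩) (.leaf ⟨176832351, 11, 1, 1193⟩))) (.node (.node (.leaf ⟨161232704, 9, 0, 258⟩) (.leaf ⟨262409165,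 11, 0, 947⟩)) (.node (.leaf ⟨200915802, 10, 1, 571⟩) (.leaf ⟨198065739, 12, 1, 1493⟩))))))) (.node (.node (.node (.node (.node (.node (.node (.leaf ⟨217632030, 4, 1, 10⟩) (.leaf ⟨250531312, 12, 1, 1575⟩)) (.leaf ⟨27390739, 10, 0, 603⟩)) (.node (.leaf ⟨233364767, 9, 0, 286⟩) (.leaf ⟨115079221, 11, 1, 987⟩))) (.node (.node (.leaf ⟨248225120, 8, 1, 146⟩) (.leaf ⟨56277578, 11, 0, 781⟩)) (.node (.leaf ⟨10238675, 10, 0, 438⟩) (.leaf ⟨11237198, 12, 1, 1246⟩)))) (.node (.node (.node (.node (.leaf ⟨23518827, 7, 1, 76⟩) (.leaf ⟨255297087, 13, 1, 1822⟩)) (.leaf ⟨129627131, 10, 1, 688⟩)) (.node (.leaf ⟨231916479, 9, 0, 360⟩) (.leaf ⟨225953533, 11, 1, 1104⟩))) (.node (.node (.leaf ⟨209673833, 9, 0, 214⟩) (.leaf ⟨158183934, 11, 0, 881⟩)) (.node (.leaf ⟨268068303, 10, 0, 520⟩) (.leaf ⟨60191217, 12, 0, 1391⟩))))) (.node (.node (.node (.node (.node (.leaf ⟨27627384,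 6, 0, 44⟩) (.leaf ⟨16054469, 12, 0, 1691⟩)) (.leaf ⟨183336675, 10, 0, 644⟩)) (.node (.leaf ⟨110273387, 9, 1, 322⟩) (.leaf ⟨242093373, 11, 1, 1037⟩))) (.node (.node (.leaf ⟨198619621, 8, 1, 179⟩) (.leaf ⟨189154935, 11, 0, 828⟩)) (.node (.leaf ⟨197044460, 10, 1, 478⟩) (.leaf ⟨262796072, 12, 1, 1317⟩)))) (.node (.node (.node (.node (.leaf ⟨13342122, 8, 0, 111⟩) (.leaf ⟨32756200, 13, 0, 1994⟩)) (.leaf ⟨79148970, 11, 0, 739⟩)) (.node (.leaf ⟨67042263, 10, 0, 399⟩) (.leaf ⟨148229651, 11, 1, 1173⟩))) (.node (.node (.leaf ⟨263099411, 9, 0, 249⟩) (.leaf ⟨263725986, 11, 1, 933⟩)) (.node (.leaf ⟨35301821, 10, 0, 562⟩) (.leaf ⟨110531311, 12, 1, 1473⟩)))))) (.node (.node (.node (.node (.node (.node (.leaf ⟨135261093, 5, 0, 27⟩) (.leaf ⟨198457907, 12, 0, 1627⟩)) (.leaf ⟨87893247, 10, 1, 624⟩)) (.node (.leaf ⟨113092541, 9, 0, 305⟩) (.leaf ⟨155564509, 11, 1, 1012⟩)))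 (.node (.node (.leaf ⟨46651194, 8, 0, 163⟩) (.leaf ⟨221122550, 11, 0, 803⟩)) (.node (.leaf ⟨246084976, 10, 0, 457⟩) (.leaf ⟨114496879, 12, 0, 1285⟩)))) (.node (.node (.node (.node (.leaf ⟨266309318, 7, 1, 93⟩) (.leaf ⟨233819519, 13, 1, 1908⟩)) (.leaf ⟨247832882, 11, 0, 714⟩)) (.node (.leaf ⟨154853266, 9, 0, 378⟩) (.leaf ⟨261748575, 11, 0, 1138⟩))) (.node (.node (.leaf ⟨230932276, 9, 1, 231⟩) (.leaf ⟨260133553, 11, 0, 907⟩)) (.node (.leaf ⟨49892318, 10, 0, 540⟩) (.leaf ⟨246936047, 12, 1, 1420⟩))))) (.node (.node (.node (.node (.node (.leaf ⟨188049259, 7, 1, 60⟩) (.leaf ⟨84616014, 12, 0, 1762⟩)) (.leaf ⟨196929662, 10, 1, 666⟩)) (.node (.leaf ⟨30650846, 9, 1, 341⟩) (.leaf ⟨131456879, 11, 0, 1066⟩))) (.node (.node (.leaf ⟨126986107, 8, 0, 196⟩) (.leaf ⟨214300989, 11, 1, 857⟩)) (.node (.leaf ⟨90250733, 10, 1, 499⟩) (.leaf ⟨217867910, 12, 0, 1356⟩))))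 (.node (.node (.node (.node (.leaf ⟨29990202, 8, 1, 128⟩) (.leaf ⟨82302899, 13, 1, 2121⟩)) (.leaf ⟨99815386, 11, 0, 760⟩)) (.node (.leaf ⟨192491945, 10, 0, 418⟩) (.leaf ⟨266543405, 12, 1, 1211⟩))) (.node (.node (.leaf ⟨267761242, 9, 1, 268⟩) (.leaf ⟨77805048, 11, 1, 959⟩)) (.node (.leaf ⟨95008227, 10, 1, 580⟩) (.leaf ⟨257604467, 12, 1, 1518⟩)))))))) (.node (.node (.node (.node (.node (.node (.node (.node (.leaf ⟨115967803, 3, 1, 6⟩) (.leaf ⟨57652608, 12, 1, 1565⟩)) (.leaf ⟨238285561, 10, 1, 597⟩)) (.node (.leaf ⟨79614911, 9, 0, 281⟩) (.leaf ⟨201588052, 11, 0, 981⟩))) (.node (.node (.leaf ⟨120659742, 8, 0, 142⟩) (.leaf ⟨171897325, 11, 1, 776⟩)) (.node (.leaf ⟨132521422, 10, 0, 434⟩) (.leaf ⟨205048249, 12, 1, 1238⟩)))) (.node (.node (.node (.node (.leaf ⟨169803544, 7, 1, 72⟩) (.leaf ⟨227944953, 13, 0, 1806⟩)) (.leaf ⟨38684062, 10, 1, 684⟩)) (.node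 (.leaf ⟨162964687, 9, 1, 355⟩) (.leaf ⟨233903576, 11, 0, 1098⟩))) (.node (.node (.leaf ⟨9903157, 9, 1, 209⟩) (.leaf ⟨256728367, 11, 1, 872⟩)) (.node (.leaf ⟨147866830, 10, 1, 514⟩) (.leaf ⟨57525224, 12, 1, 1382⟩))))) (.node (.node (.node (.node (.node (.leaf ⟨29072365, 6, 1, 39⟩) (.leaf ⟨262244348, 12, 0, 1675⟩)) (.leaf ⟨177148268, 10, 0, 639⟩)) (.node (.leaf ⟨147878491, 9, 1, 318⟩) (.leaf ⟨199834869, 11, 1, 1031⟩))) (.node (.node (.leaf ⟨149914564, 8, 1, 175⟩) (.leaf ⟨225672610, 11, 0, 823⟩)) (.node (.leaf ⟨249101201, 10, 1, 471⟩) (.leaf ⟨53485918, 12, 1, 1308⟩)))) (.node (.node (.node (.node (.leaf ⟨172247166, 8, 0, 107⟩) (.leaf ⟨82499127, 13, 0, 1963⟩)) (.leaf ⟨109864509, 11, 0, 733⟩)) (.node (.leaf ⟨231570283, 10, 0, 394⟩) (.leaf ⟨259947711, 11, 0, 1166⟩))) (.node (.node (.leaf ⟨266894540, 9, 0, 245⟩) (.leaf ⟨81436846, 11, 0, 927⟩)) (.node (.leaf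 ⟨57009001, 10, 0, 556⟩) (.leaf ⟨225192355, 12, 1, 1465⟩)))))) (.node (.node (.node (.node (.node (.node (.leaf ⟨127907562, 5, 0, 23⟩) (.leaf ⟨133425814, 12, 0, 1606⟩)) (.leaf ⟨180194255, 10, 0, 620⟩)) (.node (.leaf ⟨20540772, 9, 0, 300⟩) (.leaf ⟨40742239, 11, 0, 1006⟩))) (.node (.node (.leaf ⟨55965582, 8, 0, 159⟩) (.leaf ⟨249933122, 11, 0, 799⟩)) (.node (.leaf ⟨170822608, 10, 0, 452⟩) (.leaf ⟨126052301, 12, 1, 1271⟩)))) (.node (.node (.node (.node (.leaf ⟨267210675, 7, 1, 89⟩) (.leaf ⟨131489246, 13, 0, 1886⟩)) (.leaf ⟨260766705, 11, 0, 708⟩)) (.node (.leaf ⟨254560013, 9, 1, 373⟩) (.leaf ⟨33266318, 11, 0, 1129⟩))) (.node (.node (.leaf ⟨217800938, 9, 1, 227⟩) (.leaf ⟨230062489, 11, 1, 902⟩)) (.node (.leaf ⟨237150635, 10, 1, 534⟩) (.leaf ⟨38176689, 12, 0, 1413⟩))))) (.node (.node (.node (.node (.node (.leaf ⟨60260206, 7, 1, 56⟩) (.leaf ⟨82809345, 12,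 1, 1738⟩)) (.leaf ⟨150168930, 10, 0, 661⟩)) (.node (.leaf ⟨12410344, 9, 0, 337⟩) (.leaf ⟨226153613, 11, 0, 1057⟩))) (.node (.node (.leaf ⟨103184378, 8, 1, 191⟩) (.leaf ⟨234870493, 11, 1, 848⟩)) (.node (.leaf ⟨132902527, 10, 0, 495⟩) (.leaf ⟨118134172, 12, 1, 1342⟩)))) (.node (.node (.node (.node (.leaf ⟨223397942, 8, 0, 124⟩) (.leaf ⟨14279174, 13, 1, 2082⟩)) (.leaf ⟨239914326, 11, 1, 753⟩)) (.node (.leaf ⟨133962202, 10, 1, 413⟩) (.leaf ⟨192066806, 12, 1, 1200⟩))) (.node (.node (.leaf ⟨183084146, 9, 1, 262⟩) (.leaf ⟨132028267, 11, 1, 952⟩)) (.node (.leaf ⟨194453083, 10, 0, 576⟩) (.leaf ⟨12318142, 12, 0, 1505⟩))))))) (.node (.node (.node (.node (.node (.node (.node (.leaf ⟨234308447, 5, 1, 14⟩) (.leaf ⟨179697927, 12, 0, 1586⟩)) (.leaf ⟨172693466, 10, 1, 607⟩)) (.node (.leaf ⟨12535314, 9, 1, 290⟩) (.leaf ⟨257207555, 11, 0, 992⟩))) (.node (.node (.leaf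 ⟨253448282, 8, 0, 151⟩) (.leaf ⟨133867665, 11, 1, 787⟩)) (.node (.leaf ⟨150395863, 10, 1, 442⟩) (.leaf ⟨242724809, 12, 1, 1258⟩)))) (.node (.node (.node (.node (.leaf ⟨248402120, 7, 0, 81⟩) (.leaf ⟨241706998, 13, 0, 1849⟩)) (.leaf ⟨211876134, 10, 0, 694⟩)) (.node (.leaf ⟨101713454, 9, 0, 364⟩) (.leaf ⟨84161311, 11, 0, 1112⟩))) (.node (.node (.leaf ⟨1425385, 9, 0, 219⟩) (.leaf ⟨200682633, 11, 0, 888⟩)) (.node (.leaf ⟨16420065, 10, 0, 524⟩) (.leaf ⟨121828294, 12, 1, 1398⟩))))) (.node (.node (.node (.node (.node (.leaf ⟨122638187, 6, 1, 48⟩) (.leaf ⟨37648902, 12, 0, 1702⟩)) (.leaf ⟨166065910, 10, 0, 650⟩)) (.node (.leaf ⟨33128992, 9, 1, 326⟩) (.leaf ⟨114942663, 11, 1, 1045⟩))) (.node (.node (.leaf ⟨100219863, 8, 1, 183⟩) (.leaf ⟨104840236, 11, 1, 833⟩)) (.node (.leaf ⟨226105051, 10, 1, 484⟩) (.leaf ⟨72369291, 12, 1, 1323⟩)))) (.node (.node (.node (.node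 (.leaf ⟨162994935, 8, 1, 115⟩) (.leaf ⟨185488262, 13, 0, 2020⟩)) (.leaf ⟨134036862, 11, 0, 744⟩)) (.node (.leaf ⟨124277310, 10, 1, 403⟩) (.leaf ⟨259698133, 11, 0, 1182⟩))) (.node (.node (.leaf ⟨247699610, 9, 0, 253⟩) (.leaf ⟨197069882, 11, 0, 941⟩)) (.node (.leaf ⟨222072120, 10, 0, 567⟩) (.leaf ⟨233121783, 12, 0, 1480⟩)))))) (.node (.node (.node (.node (.node (.node (.leaf ⟨75907855, 6, 0, 31⟩) (.leaf ⟨82936276, 12, 1, 1643⟩)) (.leaf ⟨149645709, 10, 0, 629⟩)) (.node (.leaf ⟨147906521, 9, 0, 309⟩) (.leaf ⟨216781934, 11, 0, 1017⟩))) (.node (.node (.leaf ⟨64969721, 8, 0, 167⟩) (.leaf ⟨255274830, 11, 1, 811⟩)) (.node (.leaf ⟨134059798, 10, 0, 462⟩) (.leaf ⟨92919946, 12, 0, 1292⟩)))) (.node (.node (.node (.node (.leaf ⟨222162046, 7, 0, 98⟩) (.leaf ⟨81747890, 13, 1, 1928⟩)) (.leaf ⟨186984701, 11, 1, 719⟩)) (.node (.leaf ⟨265403509, 9, 0, 383⟩) (.leaf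 ⟨238484829, 11, 0, 1147⟩))) (.node (.node (.leaf ⟨215472708, 9, 0, 236⟩) (.leaf ⟨242314514, 11, 1, 912⟩)) (.node (.leaf ⟨153939270, 10, 0, 545⟩) (.leaf ⟨9944970, 12, 1, 1436⟩))))) (.node (.node (.node (.node (.node (.leaf ⟨257209694, 7, 1, 64⟩) (.leaf ⟨167360437, 13, 0, 1781⟩)) (.leaf ⟨142537386, 10, 1, 672⟩)) (.node (.leaf ⟨241783445, 9, 1, 346⟩) (.leaf ⟨175575003, 11, 0, 1077⟩))) (.node (.node (.leaf ⟨33438772, 8, 0, 200⟩) (.leaf ⟨123647885, 11, 1, 862⟩)) (.node (.leaf ⟨40386519, 10, 0, 504⟩) (.leaf ⟨264928636, 12, 0, 1364⟩)))) (.node (.node (.node (.node (.leaf ⟨53653182, 8, 0, 133⟩) (.leaf ⟨22718938, 14, 0, 2236⟩)) (.leaf ⟨166304713, 11, 0, 765⟩)) (.node (.leaf ⟨255267463, 10, 1, 423⟩) (.leaf ⟨138350798, 12, 1, 1221⟩))) (.node (.node (.leaf ⟨156439623, 9, 1, 272⟩) (.leaf ⟨267275754, 11, 1, 967⟩)) (.node (.leaf ⟨162406605, 10, 0, 586⟩) (.leaf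 ⟨208588794, 12, 0, 1530⟩)))))))))) (.node (.node (.node (.node (.node (.node (.node (.node (.node (.node (.leaf ⟨110353754, 2, 0, 1⟩) (.leaf ⟨183298503, 12, 1, 1544⟩)) (.leaf ⟨240995252, 10, 1, 589⟩)) (.node (.leaf ⟨136532365, 9, 1, 275⟩) (.leaf ⟨211804108, 11, 0, 974⟩))) (.node (.node (.leaf ⟨175043091, 8, 0, 136⟩) (.leaf ⟨68220582, 11, 0, 769⟩)) (.node (.leaf ⟨262798806, 10, 0, 427⟩) (.leaf ⟨208004826, 12, 1, 1227⟩)))) (.node (.node (.node (.node (.leaf ⟨167056873, 7, 1, 67⟩) (.leaf ⟨84475763, 13, 0, 1790⟩)) (.leaf ⟨65906933, 10, 1, 675⟩)) (.node (.leaf ⟨225402755, 9, 1, 349⟩) (.leaf ⟨157407197, 11, 0, 1084⟩))) (.node (.node (.leaf ⟨19337178, 9, 0, 204⟩) (.leaf ⟨130005023, 11, 0, 866⟩)) (.node (.leaf ⟨131737793, 10, 1, 508⟩) (.leaf ⟨202816759, 12, 0, 1369⟩))))) (.node (.node (.node (.node (.node (.leaf ⟨255193203, 6, 1, 34⟩) (.leaf ⟨267633906,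 12, 1, 1655⟩)) (.leaf ⟨204924211, 10, 0, 633⟩)) (.node (.leaf ⟨243262319, 9, 1, 312⟩) (.leaf ⟨229866138, 11, 1, 1022⟩))) (.node (.node (.leaf ⟨208065318, 8, 1, 170⟩) (.leaf ⟨240016595, 11, 1, 815⟩)) (.node (.leaf ⟨48342846, 10, 0, 465⟩) (.leaf ⟨187080289, 12, 0, 1298⟩)))) (.node (.node (.node (.node (.leaf ⟨242884046, 7, 0, 101⟩) (.leaf ⟨149938534, 13, 1, 1938⟩)) (.leaf ⟨175426885, 11, 0, 725⟩)) (.node (.leaf ⟨29286204, 10, 0, 388⟩) (.leaf ⟨163048650, 11, 0, 1154⟩))) (.node (.node (.leaf ⟨113893119, 9, 1, 239⟩) (.leaf ⟨81841573, 11, 1, 917⟩)) (.node (.leaf ⟨93482902, 10, 0, 550⟩) (.leaf ⟨200735720, 12, 1, 1447⟩)))))) (.node (.node (.node (.node (.node (.node (.leaf ⟨212300521, 5, 1, 17⟩) (.leaf ⟨257682170, 12, 1, 1591⟩)) (.leaf ⟨258591073, 10, 1, 613⟩)) (.node (.leaf ⟨171008983, 9, 1, 293⟩) (.leaf ⟨124439603, 11, 1, 996⟩))) (.node (.node (.leaf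 ⟨41595389, 8, 0, 154⟩) (.leaf ⟨61402447, 11, 1, 791⟩)) (.node (.leaf ⟨253719506, 10, 1, 446⟩) (.leaf ⟨250842237, 12, 0, 1262⟩)))) (.node (.node (.node (.node (.leaf ⟨178023719, 7, 0, 84⟩) (.leaf ⟨97088592, 13, 0, 1863⟩)) (.leaf ⟨77364216, 10, 0, 700⟩)) (.node (.leaf ⟨124798875, 9, 1, 367⟩) (.leaf ⟨52751707, 11, 1, 1116⟩))) (.node (.node (.leaf ⟨222346599, 9, 0, 222⟩) (.leaf ⟨157112267, 11, 1, 893⟩)) (.node (.leaf ⟨5522754, 10, 0, 528⟩) (.leaf ⟨138101559, 12, 0, 1403⟩))))) (.node (.node (.node (.node (.node (.leaf ⟨103686833, 6, 1, 51⟩) (.leaf ⟨169754611, 12, 1, 1710⟩)) (.leaf ⟨155771463, 10, 0, 654⟩)) (.node (.leaf ⟨264667367, 9, 1, 330⟩) (.leaf ⟨120961455, 11, 1, 1049⟩))) (.node (.node (.leaf ⟨147423031, 8, 1, 186⟩) (.leaf ⟨254901203, 11, 0, 840⟩)) (.node (.leaf ⟨146906968, 10, 0, 489⟩) (.leaf ⟨243256062, 12, 1, 1331⟩)))) (.node (.node (.node (.node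 (.leaf ⟨26583067, 8, 0, 119⟩) (.leaf ⟨111793848, 13, 0, 2036⟩)) (.leaf ⟨200029098, 11, 1, 747⟩)) (.node (.leaf ⟨84983396, 10, 0, 407⟩) (.leaf ⟨33465304, 11, 0, 1190⟩))) (.node (.node (.leaf ⟨254858101, 9, 0, 257⟩) (.leaf ⟨66940764, 11, 1, 945⟩)) (.node (.leaf ⟨256878615, 10, 1, 570⟩) (.leaf ⟨205621560, 12, 1, 1489⟩))))))) (.node (.node (.node (.node (.node (.node (.node (.leaf ⟨211154422, 4, 1, 9⟩) (.leaf ⟨241135975, 12, 0, 1572⟩)) (.leaf ⟨178310905, 10, 0, 602⟩)) (.node (.leaf ⟨180780967, 9, 1, 284⟩) (.leaf ⟨207332790, 11, 0, 986⟩))) (.node (.node (.leaf ⟨54525878, 8, 1, 145⟩) (.leaf ⟨87707012, 11, 0, 780⟩)) (.node (.leaf ⟨242686655, 10, 0, 437⟩) (.leaf ⟨26373437, 12, 0, 1244⟩)))) (.node (.node (.node (.node (.leaf ⟨262580410, 7, 1, 75⟩) (.leaf ⟨226450058, 13, 1, 1816⟩)) (.leaf ⟨16240211, 10, 1, 687⟩)) (.node (.leaf ⟨52189157, 9, 1, 358⟩) (.leaf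 ⟨199315825, 11, 1, 1103⟩))) (.node (.node (.leaf ⟨213890456, 9, 0, 213⟩) (.leaf ⟨130887519, 11, 1, 878⟩)) (.node (.leaf ⟨257238905, 10, 0, 519⟩) (.leaf ⟨65066780, 12, 0, 1390⟩))))) (.node (.node (.node (.node (.node (.leaf ⟨222438014, 6, 0, 43⟩) (.leaf ⟨256264879, 12, 1, 1683⟩)) (.leaf ⟨218561453, 10, 1, 642⟩)) (.node (.leaf ⟨232448253, 9, 1, 321⟩) (.leaf ⟨81731541, 11, 0, 1036⟩))) (.node (.node (.leaf ⟨160108635, 8, 1, 178⟩) (.leaf ⟨62478077, 11, 0, 827⟩)) (.node (.leaf ⟨167040887, 10, 1, 475⟩) (.leaf ⟨216528983, 12, 1, 1316⟩)))) (.node (.node (.node (.node (.leaf ⟨178193250, 8, 0, 110⟩) (.leaf ⟨123570417, 13, 1, 1986⟩)) (.leaf ⟨29204670, 11, 0, 738⟩)) (.node (.leaf ⟨249688353, 10, 0, 397⟩) (.leaf ⟨120206906, 11, 0, 1172⟩))) (.node (.node (.leaf ⟨158682663, 9, 0, 248⟩) (.leaf ⟨23428911, 11, 0, 932⟩)) (.node (.leaf ⟨169696694, 10, 1, 559⟩) (.leaf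 ⟨118226358, 12, 0, 1472⟩)))))) (.node (.node (.node (.node (.node (.node (.leaf ⟨44423797, 5, 0, 26⟩) (.leaf ⟨193051634, 12, 0, 1624⟩)) (.leaf ⟨139702269, 10, 0, 623⟩)) (.node (.leaf ⟨209238187, 9, 0, 304⟩) (.leaf ⟨243110806, 11, 1, 1010⟩))) (.node (.node (.leaf ⟨261571427, 8, 0, 162⟩) (.leaf ⟨43760072, 11, 0, 802⟩)) (.node (.leaf ⟨40178932, 10, 0, 455⟩) (.leaf ⟨123404007, 12, 0, 1280⟩)))) (.node (.node (.node (.node (.leaf ⟨248820766, 7, 1, 92⟩) (.leaf ⟨77589801, 13, 0, 1901⟩)) (.leaf ⟨189013504, 11, 0, 712⟩)) (.node (.leaf ⟨75435839, 9, 0, 377⟩) (.leaf ⟨131895625, 11, 0, 1136⟩))) (.node (.node (.leaf ⟨238679566, 9, 1, 230⟩) (.leaf ⟨116118010, 11, 1, 905⟩)) (.node (.leaf ⟨9555631, 10, 1, 538⟩) (.leaf ⟨124122374, 12, 1, 1418⟩))))) (.node (.node (.node (.node (.node (.leaf ⟨150821530, 7, 1, 59⟩) (.leaf ⟨140745037, 12, 1, 1751⟩)) (.leaf ⟨33349348,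 10, 1, 665⟩)) (.node (.leaf ⟨232506836, 9, 0, 340⟩) (.leaf ⟨23743588, 11, 1, 1062⟩))) (.node (.node (.leaf ⟨14520475, 8, 0, 195⟩) (.leaf ⟨72268719, 11, 1, 855⟩)) (.node (.leaf ⟨205312638, 10, 1, 498⟩) (.leaf ⟨163439549, 12, 1, 1352⟩)))) (.node (.node (.node (.node (.leaf ⟨190025558, 8, 1, 127⟩) (.leaf ⟨26930038, 13, 0, 2111⟩)) (.leaf ⟨103244697, 11, 0, 758⟩)) (.node (.leaf ⟨28296470, 10, 1, 416⟩) (.leaf ⟨181059059, 12, 1, 1207⟩))) (.node (.node (.leaf ⟨266959290, 9, 0, 267⟩) (.leaf ⟨253205335, 11, 0, 957⟩)) (.node (.leaf ⟨142593596, 10, 1, 579⟩) (.leaf ⟨221745236, 12, 0, 1514⟩)))))))) (.node (.node (.node (.node (.node (.node (.node (.node (.leaf ⟨259628230, 3, 1, 5⟩) (.leaf ⟨165329836, 12, 1, 1563⟩)) (.leaf ⟨113120453, 10, 1, 595⟩)) (.node (.leaf ⟨220144079, 9, 0, 280⟩) (.leaf ⟨225369849, 11, 0, 980⟩))) (.node (.node (.leaf ⟨169682826, 8, 1, 140⟩)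 (.leaf ⟨261451693, 11, 0, 775⟩)) (.node (.leaf ⟨23839587, 10, 0, 432⟩) (.leaf ⟨233148874, 12, 0, 1236⟩)))) (.node (.node (.node (.node (.leaf ⟨22527088, 7, 1, 71⟩) (.leaf ⟨253480886, 13, 1, 1804⟩)) (.leaf ⟨263506872, 10, 0, 681⟩)) (.node (.leaf ⟨267209129, 9, 1, 354⟩) (.leaf ⟨101629725, 11, 0, 1094⟩))) (.node (.node (.leaf ⟨103620531, 9, 1, 208⟩) (.leaf ⟨260005723, 11, 0, 871⟩)) (.node (.leaf ⟨83439007, 10, 1, 513⟩) (.leaf ⟨149949758, 12, 1, 1380⟩))))) (.node (.node (.node (.node (.node (.leaf ⟨254443494, 6, 1, 38⟩) (.leaf ⟨67352474, 12, 0, 1670⟩)) (.leaf ⟨110530134, 10, 0, 638⟩)) (.node (.leaf ⟨140008093, 9, 0, 317⟩) (.leaf ⟨78633595, 11, 0, 1028⟩))) (.node (.node (.leaf ⟨103623623, 8, 1, 174⟩) (.leaf ⟨188890936, 11, 1, 821⟩)) (.node (.leaf ⟨117570787, 10, 1, 470⟩) (.leaf ⟨255982545, 12, 1, 1304⟩)))) (.node (.node (.node (.node (.leaf ⟨172626869,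 7, 1, 105⟩) (.leaf ⟨55569757, 13, 0, 1953⟩)) (.leaf ⟨159186865, 11, 0, 732⟩)) (.node (.leaf ⟨187291130, 10, 0, 393⟩) (.leaf ⟨259652168, 11, 1, 1164⟩))) (.node (.node (.leaf ⟨234879114, 9, 0, 244⟩) (.leaf ⟨36437051, 11, 1, 924⟩)) (.node (.leaf ⟨230619345, 10, 0, 555⟩) (.leaf ⟨267968996, 12, 0, 1461⟩)))))) (.node (.node (.node (.node (.node (.node (.leaf ⟨131698419, 5, 0, 22⟩) (.leaf ⟨217912229, 12, 0, 1601⟩)) (.leaf ⟨17779839, 10, 0, 619⟩)) (.node (.leaf ⟨123468734, 9, 1, 298⟩) (.leaf ⟨127867800, 11, 0, 1003⟩))) (.node (.node (.leaf ⟨188293691, 8, 0, 158⟩) (.leaf ⟨229997721, 11, 0, 798⟩)) (.node (.leaf ⟨210759661, 10, 0, 451⟩) (.leaf ⟨239336650, 12, 1, 1269⟩)))) (.node (.node (.node (.node (.leaf ⟨26141469, 7, 1, 88⟩) (.leaf ⟨133317674, 13, 1, 1882⟩)) (.leaf ⟨49834103, 11, 0, 707⟩)) (.node (.leaf ⟨87534555, 9, 1, 372⟩) (.leaf ⟨12337989, 11, 1, 1127⟩)))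 (.node (.node (.leaf ⟨153527932, 9, 1, 226⟩) (.leaf ⟨254059225, 11, 0, 901⟩)) (.node (.leaf ⟨262258549, 10, 1, 533⟩) (.leaf ⟨167950578, 12, 1, 1411⟩))))) (.node (.node (.node (.node (.node (.leaf ⟨163428796, 7, 1, 55⟩) (.leaf ⟨184530387, 12, 0, 1732⟩)) (.leaf ⟨113811937, 10, 0, 660⟩)) (.node (.leaf ⟨173286371, 9, 1, 335⟩) (.leaf ⟨64941879, 11, 0, 1056⟩))) (.node (.node (.leaf ⟨167569865, 8, 1, 190⟩) (.leaf ⟨67435162, 11, 0, 847⟩)) (.node (.leaf ⟨97639670, 10, 0, 494⟩) (.leaf ⟨61522003, 12, 1, 1341⟩)))) (.node (.node (.node (.node (.leaf ⟨99287030, 8, 0, 123⟩) (.leaf ⟨257072931, 13, 0, 2076⟩)) (.leaf ⟨70506186, 11, 1, 752⟩)) (.node (.leaf ⟨186103543, 10, 0, 412⟩) (.leaf ⟨203446957, 12, 1, 1198⟩))) (.node (.node (.leaf ⟨118390741, 9, 1, 261⟩) (.leaf ⟨229847039, 11, 0, 951⟩)) (.node (.leaf ⟨225460559, 10, 0, 575⟩) (.leaf ⟨243241202, 12, 0, 1501⟩)))))))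 (.node (.node (.node (.node (.node (.node (.node (.leaf ⟨112961362, 4, 1, 13⟩) (.leaf ⟨246764648, 12, 1, 1582⟩)) (.leaf ⟨229968422, 10, 1, 606⟩)) (.node (.leaf ⟨120698099, 9, 1, 289⟩) (.leaf ⟨172981749, 11, 0, 991⟩))) (.node (.node (.leaf ⟨255278199, 8, 1, 149⟩) (.leaf ⟨115847103, 11, 1, 786⟩)) (.node (.leaf ⟨252272204, 10, 1, 441⟩) (.leaf ⟨98998324, 12, 0, 1257⟩)))) (.node (.node (.node (.node (.leaf ⟨56062031, 7, 0, 80⟩) (.leaf ⟨137423768, 13, 0, 1843⟩)) (.leaf ⟨137345514, 10, 0, 693⟩)) (.node (.leaf ⟨113750075, 9, 0, 363⟩) (.leaf ⟨49013141, 11, 1, 1109⟩))) (.node (.node (.leaf ⟨162756809, 9, 0, 218⟩) (.leaf ⟨208991222, 11, 0, 887⟩)) (.node (.leaf ⟨192579543, 10, 0, 523⟩) (.leaf ⟨25843475, 12, 1, 1396⟩))))) (.node (.node (.node (.node (.node (.leaf ⟨110027916, 6, 1, 47⟩) (.leaf ⟨113816280, 12, 0, 1696⟩)) (.leaf ⟨248759591, 10, 1, 648⟩)) (.node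 (.leaf ⟨195315733, 9, 1, 325⟩) (.leaf ⟨194111055, 11, 0, 1042⟩))) (.node (.node (.leaf ⟨259133011, 8, 1, 182⟩) (.leaf ⟨165840577, 11, 0, 831⟩)) (.node (.leaf ⟨262914034, 10, 1, 483⟩) (.leaf ⟨114588842, 12, 0, 1322⟩)))) (.node (.node (.node (.node (.leaf ⟨119020761, 8, 1, 114⟩) (.leaf ⟨66723691, 13, 1, 2009⟩)) (.leaf ⟨180013823, 11, 0, 743⟩)) (.node (.leaf ⟨230792071, 10, 1, 402⟩) (.leaf ⟨100619269, 11, 1, 1179⟩))) (.node (.node (.leaf ⟨116549108, 9, 0, 252⟩) (.leaf ⟨240853887, 11, 0, 940⟩)) (.node (.leaf ⟨256201299, 10, 0, 565⟩) (.leaf ⟨57765394, 12, 1, 1478⟩)))))) (.node (.node (.node (.node (.node (.node (.leaf ⟨237854698, 6, 0, 30⟩) (.leaf ⟨267825715, 12, 0, 1637⟩)) (.leaf ⟨184521418, 10, 0, 628⟩)) (.node (.leaf ⟨110017903, 9, 0, 308⟩) (.leaf ⟨240728031, 11, 1, 1015⟩))) (.node (.node (.leaf ⟨165937862, 8, 0, 166⟩) (.leaf ⟨95834220, 11, 0, 809⟩))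 (.node (.leaf ⟨66231935, 10, 1, 460⟩) (.leaf ⟨226467228, 12, 0, 1291⟩)))) (.node (.node (.node (.node (.leaf ⟨267748517, 7, 0, 97⟩) (.leaf ⟨516059, 13, 0, 1925⟩)) (.leaf ⟨212618655, 11, 1, 718⟩)) (.node (.leaf ⟨46148857, 9, 0, 382⟩) (.leaf ⟨29336771, 11, 0, 1144⟩))) (.node (.node (.leaf ⟨28792705, 9, 0, 235⟩) (.leaf ⟨166648741, 11, 0, 911⟩)) (.node (.leaf ⟨240697587, 10, 1, 543⟩) (.leaf ⟨212955658, 12, 1, 1435⟩))))) (.node (.node (.node (.node (.node (.leaf ⟨78910886, 7, 1, 63⟩) (.leaf ⟨264730209, 13, 1, 1778⟩)) (.leaf ⟨134077183, 10, 1, 671⟩)) (.node (.leaf ⟨265372853, 9, 0, 345⟩) (.leaf ⟨242552620, 11, 1, 1074⟩))) (.node (.node (.leaf ⟨154676680, 8, 0, 199⟩) (.leaf ⟨174053368, 11, 1, 861⟩)) (.node (.leaf ⟨241528421, 10, 0, 503⟩) (.leaf ⟨214750928, 12, 0, 1362⟩)))) (.node (.node (.node (.node (.leaf ⟨74039417, 8, 0, 132⟩) (.leaf ⟨258119923, 14,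 0, 2180⟩)) (.leaf ⟨198103113, 11, 0, 764⟩)) (.node (.leaf ⟨194766149, 10, 0, 422⟩) (.leaf ⟨114546133, 12, 1, 1219⟩))) (.node (.node (.leaf ⟨140854984, 9, 1, 271⟩) (.leaf ⟨63809956, 11, 0, 966⟩)) (.node (.leaf ⟨95103482, 10, 1, 583⟩) (.leaf ⟨139032253, 12, 1, 1528⟩))))))))) (.node (.node (.node (.node (.node (.node (.node (.node (.node (.leaf ⟨166543768, 3, 0, 3⟩) (.leaf ⟨54578376, 12, 1, 1558⟩)) (.leaf ⟨115293544, 10, 0, 593⟩)) (.node (.leaf ⟨161796913, 9, 1, 277⟩) (.leaf ⟨165532265, 11, 1, 977⟩))) (.node (.node (.leaf ⟨197594783, 8, 1, 138⟩) (.leaf ⟨212844255, 11, 0, 772⟩)) (.node (.leaf ⟨173761526, 10, 1, 429⟩) (.leaf ⟨149367763, 12, 0, 1230⟩)))) (.node (.node (.node (.node (.leaf ⟨66914732, 7, 1, 69⟩) (.leaf ⟨109787703, 13, 1, 1799⟩)) (.leaf ⟨61956467, 10, 1, 678⟩)) (.node (.leaf ⟨198691354, 9, 1, 352⟩) (.leaf ⟨56776630, 11, 1, 1091⟩))) (.node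 (.node (.leaf ⟨267982674, 9, 0, 206⟩) (.leaf ⟨123583032, 11, 1, 868⟩)) (.node (.leaf ⟨131497407, 10, 0, 511⟩) (.leaf ⟨242674854, 12, 1, 1376⟩))))) (.node (.node (.node (.node (.node (.leaf ⟨98155821, 6, 1, 36⟩) (.leaf ⟨267407349, 12, 1, 1659⟩)) (.leaf ⟨196925322, 10, 1, 635⟩)) (.node (.leaf ⟨176911302, 9, 0, 315⟩) (.leaf ⟨133495975, 11, 1, 1025⟩))) (.node (.node (.leaf ⟨264629295, 8, 1, 172⟩) (.leaf ⟨184743130, 11, 1, 818⟩)) (.node (.leaf ⟨28918243, 10, 1, 468⟩) (.leaf ⟨248858354, 12, 0, 1301⟩)))) (.node (.node (.node (.node (.leaf ⟨74622893, 7, 1, 103⟩) (.leaf ⟨4911830, 13, 0, 1949⟩)) (.leaf ⟨131604403, 11, 0, 728⟩)) (.node (.leaf ⟨228668248, 10, 1, 390⟩) (.leaf ⟨239828949, 11, 0, 1159⟩))) (.node (.node (.leaf ⟨45544669, 9, 1, 241⟩) (.leaf ⟨234053590, 11, 1, 920⟩)) (.node (.leaf ⟨138759649, 10, 0, 553⟩) (.leaf ⟨50181101, 12, 0, 1453⟩)))))) (.node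 (.node (.node (.node (.node (.node (.leaf ⟨242975599, 5, 0, 20⟩) (.leaf ⟨232320702, 12, 0, 1597⟩)) (.leaf ⟨105195594, 10, 1, 616⟩)) (.node (.leaf ⟨188010480, 9, 1, 296⟩) (.leaf ⟨254192320, 11, 1, 998⟩))) (.node (.node (.leaf ⟨7327672, 8, 0, 156⟩) (.leaf ⟨142478139, 11, 1, 794⟩)) (.node (.leaf ⟨36033148, 10, 0, 449⟩) (.leaf ⟨121408523, 12, 0, 1267⟩)))) (.node (.node (.node (.node (.leaf ⟨86310215, 7, 1, 86⟩) (.leaf ⟨89635622, 13, 0, 1873⟩)) (.leaf ⟨85699203, 10, 1, 703⟩)) (.node (.leaf ⟨104764341, 9, 0, 370⟩) (.leaf ⟨198504870, 11, 0, 1121⟩))) (.node (.node (.leaf ⟨189455778, 9, 0, 224⟩) (.leaf ⟨49429781, 11, 1, 895⟩)) (.node (.leaf ⟨120712959, 10, 1, 531⟩) (.leaf ⟨94102194, 12, 0, 1408⟩))))) (.node (.node (.node (.node (.node (.leaf ⟨210403288, 6, 1, 53⟩) (.leaf ⟨78765240, 12, 1, 1724⟩)) (.leaf ⟨226050593, 10, 1, 656⟩)) (.node (.leaf ⟨143383894,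 9, 1, 332⟩) (.leaf ⟨234601947, 11, 0, 1052⟩))) (.node (.node (.leaf ⟨123469220, 8, 1, 188⟩) (.leaf ⟨92107655, 11, 1, 843⟩)) (.node (.leaf ⟨221627309, 10, 0, 491⟩) (.leaf ⟨119045558, 12, 0, 1334⟩)))) (.node (.node (.node (.node (.leaf ⟨7891784, 8, 0, 121⟩) (.leaf ⟨256720484, 13, 0, 2044⟩)) (.leaf ⟨69024449, 11, 0, 750⟩)) (.node (.leaf ⟨259647487, 10, 1, 409⟩) (.leaf ⟨198180309, 12, 1, 1195⟩))) (.node (.node (.leaf ⟨139823978, 9, 1, 259⟩) (.leaf ⟨213484734, 11, 1, 948⟩)) (.node (.leaf ⟨244774526, 10, 1, 572⟩) (.leaf ⟨230658813, 12, 1, 1495⟩))))))) (.node (.node (.node (.node (.node (.node (.node (.leaf ⟨151534866, 4, 1, 11⟩) (.leaf ⟨183633617, 12, 0, 1578⟩)) (.leaf ⟨128335827, 10, 1, 604⟩)) (.node (.leaf ⟨255254175, 9, 0, 287⟩) (.leaf ⟨226174561, 11, 1, 988⟩))) (.node (.node (.leaf ⟨259961180, 8, 1, 147⟩) (.leaf ⟨104045912, 11, 1, 782⟩)) (.node (.leaf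 ⟨150551422, 10, 0, 439⟩) (.leaf ⟨167772124, 12, 0, 1251⟩)))) (.node (.node (.node (.node (.leaf ⟨150781798, 7, 1, 77⟩) (.leaf ⟨5597414, 13, 1, 1832⟩)) (.leaf ⟨117329789, 10, 0, 691⟩)) (.node (.leaf ⟨50652490, 9, 0, 361⟩) (.leaf ⟨148407806, 11, 0, 1107⟩))) (.node (.node (.leaf ⟨267309338, 9, 1, 215⟩) (.leaf ⟨245877018, 11, 0, 882⟩)) (.node (.leaf ⟨236928129, 10, 0, 521⟩) (.leaf ⟨233258230, 12, 0, 1393⟩))))) (.node (.node (.node (.node (.node (.leaf ⟨182804001, 6, 0, 45⟩) (.leaf ⟨75299908, 12, 0, 1692⟩)) (.leaf ⟨237959336, 10, 1, 646⟩)) (.node (.leaf ⟨91916843, 9, 1, 323⟩) (.leaf ⟨236442305, 11, 1, 1038⟩))) (.node (.node (.leaf ⟨43839003, 8, 1, 180⟩) (.leaf ⟨138353027, 11, 0, 829⟩)) (.node (.leaf ⟨134010350, 10, 1, 480⟩) (.leaf ⟨41494862, 12, 0, 1319⟩)))) (.node (.node (.node (.node (.leaf ⟨237073621, 8, 0, 112⟩) (.leaf ⟨87464167, 13, 0, 2001⟩)) (.leaf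 ⟨248669587, 11, 1, 740⟩)) (.node (.leaf ⟨221594580, 10, 1, 400⟩) (.leaf ⟨62641535, 11, 1, 1175⟩))) (.node (.node (.leaf ⟨56221577, 9, 0, 250⟩) (.leaf ⟨264097778, 11, 0, 936⟩)) (.node (.leaf ⟨252899302, 10, 0, 563⟩) (.leaf ⟨124520177, 12, 1, 1475⟩)))))) (.node (.node (.node (.node (.node (.node (.leaf ⟨203641023, 6, 0, 28⟩) (.leaf ⟨176848665, 12, 1, 1629⟩)) (.leaf ⟨245158560, 10, 1, 625⟩)) (.node (.leaf ⟨105880852, 9, 0, 306⟩) (.leaf ⟨57548217, 11, 1, 1013⟩))) (.node (.node (.leaf ⟨97742828, 8, 0, 164⟩) (.leaf ⟨62248317, 11, 0, 805⟩)) (.node (.leaf ⟨169239950, 10, 1, 458⟩) (.leaf ⟨30800982, 12, 1, 1286⟩)))) (.node (.node (.node (.node (.leaf ⟨225962154, 7, 1, 94⟩) (.leaf ⟨219620767, 13, 1, 1912⟩)) (.leaf ⟨225385572, 11, 0, 716⟩)) (.node (.leaf ⟨258299826, 9, 0, 379⟩) (.leaf ⟨27700411, 11, 0, 1139⟩))) (.node (.node (.leaf ⟨148542268, 9, 1, 232⟩) (.leaf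 ⟨195879426, 11, 1, 908⟩)) (.node (.leaf ⟨133227009, 10, 0, 541⟩) (.leaf ⟨96958272, 12, 0, 1425⟩))))) (.node (.node (.node (.node (.node (.leaf ⟨82992617, 7, 1, 61⟩) (.leaf ⟨261794559, 13, 1, 1768⟩)) (.leaf ⟨140239190, 10, 0, 668⟩)) (.node (.leaf ⟨77086710, 9, 0, 343⟩) (.leaf ⟨146507463, 11, 0, 1072⟩))) (.node (.node (.leaf ⟨234157671, 8, 0, 197⟩) (.leaf ⟨267379437, 11, 1, 858⟩)) (.node (.leaf ⟨223639452, 10, 0, 501⟩) (.leaf ⟨104851527, 12, 1, 1358⟩)))) (.node (.node (.node (.node (.leaf ⟨229953308, 8, 0, 130⟩) (.leaf ⟨263011745, 13, 0, 2149⟩)) (.leaf ⟨142601821, 11, 0, 761⟩)) (.node (.leaf ⟨250303174, 10, 0, 419⟩) (.leaf ⟨35078073, 12, 1, 1213⟩))) (.node (.node (.leaf ⟨44887733, 9, 1, 269⟩) (.leaf ⟨233698184, 11, 0, 962⟩)) (.node (.leaf ⟨69410743, 10, 1, 581⟩) (.leaf ⟨238949361, 12, 1, 1522⟩)))))))) (.node (.node (.node (.node (.node (.node (.node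 (.node (.leaf ⟨223667943, 4, 1, 7⟩) (.leaf ⟨33135314, 12, 0, 1569⟩)) (.leaf ⟨128712173, 10, 0, 599⟩)) (.node (.leaf ⟨199949964, 9, 1, 282⟩) (.leaf ⟨262587383, 11, 0, 982⟩))) (.node (.node (.leaf ⟨102365983, 8, 1, 143⟩) (.leaf ⟨243834374, 11, 1, 777⟩)) (.node (.leaf ⟨188393268, 10, 0, 435⟩) (.leaf ⟨125638138, 12, 1, 1241⟩)))) (.node (.node (.node (.node (.leaf ⟨192443119, 7, 1, 73⟩) (.leaf ⟨129921276, 13, 1, 1809⟩)) (.leaf ⟨196083164, 10, 1, 685⟩)) (.node (.leaf ⟨261098606, 9, 1, 356⟩) (.leaf ⟨202620415, 11, 0, 1101⟩))) (.node (.node (.leaf ⟨224573916, 9, 0, 211⟩) (.leaf ⟨232826230, 11, 0, 874⟩)) (.node (.leaf ⟨41392889, 10, 1, 516⟩) (.leaf ⟨256630543, 12, 1, 1384⟩))))) (.node (.node (.node (.node (.node (.leaf ⟨192545443, 6, 1, 40⟩) (.leaf ⟨157715303, 12, 0, 1677⟩)) (.leaf ⟨195230941, 10, 0, 640⟩)) (.node (.leaf ⟨239503706, 9, 1, 319⟩) (.leaf ⟨106951857,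 11, 1, 1032⟩))) (.node (.node (.leaf ⟨229041226, 8, 1, 176⟩) (.leaf ⟨66485179, 11, 1, 824⟩)) (.node (.leaf ⟨229578318, 10, 1, 472⟩) (.leaf ⟨255666746, 12, 0, 1312⟩)))) (.node (.node (.node (.node (.leaf ⟨89644627, 8, 0, 108⟩) (.leaf ⟨264108934, 13, 0, 1967⟩)) (.leaf ⟨51230760, 11, 1, 734⟩)) (.node (.leaf ⟨145254145, 10, 0, 395⟩) (.leaf ⟨136635403, 11, 1, 1168⟩))) (.node (.node (.leaf ⟨79109234, 9, 0, 246⟩) (.leaf ⟨120407878, 11, 1, 928⟩)) (.node (.leaf ⟨138294951, 10, 1, 557⟩) (.leaf ⟨236312396, 12, 1, 1466⟩)))))) (.node (.node (.node (.node (.node (.node (.leaf ⟨117151580, 5, 0, 24⟩) (.leaf ⟨103510461, 12, 0, 1609⟩)) (.leaf ⟨186297182, 10, 0, 621⟩)) (.node (.leaf ⟨200800987, 9, 1, 301⟩) (.leaf ⟨83585917, 11, 1, 1008⟩))) (.node (.node (.leaf ⟨235137610, 8, 0, 160⟩) (.leaf ⟨234935647, 11, 0, 800⟩)) (.node (.leaf ⟨224255769, 10, 0, 453⟩) (.leaf ⟨90783023,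 12, 0, 1275⟩)))) (.node (.node (.node (.node (.leaf ⟨216492792, 7, 1, 90⟩) (.leaf ⟨234144275, 13, 0, 1893⟩)) (.leaf ⟨60705295, 11, 1, 709⟩)) (.node (.leaf ⟨180940620, 9, 0, 375⟩) (.leaf ⟨35126993, 11, 0, 1131⟩))) (.node (.node (.leaf ⟨124885480, 9, 1, 228⟩) (.leaf ⟨58391973, 11, 1, 903⟩)) (.node (.leaf ⟨121945776, 10, 1, 536⟩) (.leaf ⟨106681622, 12, 0, 1415⟩))))) (.node (.node (.node (.node (.node (.leaf ⟨47807017, 7, 1, 57⟩) (.leaf ⟨118115704, 12, 0, 1743⟩)) (.leaf ⟨200387751, 10, 1, 662⟩)) (.node (.leaf ⟨159161326, 9, 0, 338⟩) (.leaf ⟨6672448, 11, 0, 1058⟩))) (.node (.node (.leaf ⟨201266356, 8, 0, 193⟩) (.leaf ⟨160085966, 11, 1, 850⟩)) (.node (.leaf ⟨258551253, 10, 1, 496⟩) (.leaf ⟨89210046, 12, 1, 1345⟩)))) (.node (.node (.node (.node (.leaf ⟨267474323, 8, 1, 125⟩) (.leaf ⟨105659724, 13, 1, 2085⟩)) (.leaf ⟨71003423, 11, 1, 754⟩)) (.node (.leaf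 ⟨39684510, 10, 1, 414⟩) (.leaf ⟨129096079, 12, 1, 1203⟩))) (.node (.node (.leaf ⟨127324643, 9, 0, 264⟩) (.leaf ⟨83088235, 11, 0, 955⟩)) (.node (.leaf ⟨18786545, 10, 0, 577⟩) (.leaf ⟨167509510, 12, 1, 1507⟩))))))) (.node (.node (.node (.node (.node (.node (.node (.leaf ⟨216731246, 5, 1, 15⟩) (.leaf ⟨16244396, 12, 1, 1587⟩)) (.leaf ⟨267370807, 10, 0, 609⟩)) (.node (.leaf ⟨176257033, 9, 1, 291⟩) (.leaf ⟨218086075, 11, 0, 993⟩))) (.node (.node (.leaf ⟨244808550, 8, 0, 152⟩) (.leaf ⟨76543864, 11, 0, 789⟩)) (.node (.leaf ⟨116382189, 10, 1, 443⟩) (.leaf ⟨245080740, 12, 1, 1259⟩)))) (.node (.node (.node (.node (.leaf ⟨165876694, 7, 0, 82⟩) (.leaf ⟨118203082, 13, 0, 1857⟩)) (.leaf ⟨16750471, 10, 0, 695⟩)) (.node (.leaf ⟨122057579, 9, 1, 365⟩) (.leaf ⟨79776955, 11, 1, 1114⟩))) (.node (.node (.leaf ⟨146522127, 9, 0, 220⟩) (.leaf ⟨246466078, 11, 0, 890⟩)) (.node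 (.leaf ⟨158665575, 10, 0, 525⟩) (.leaf ⟨133625406, 12, 1, 1399⟩))))) (.node (.node (.node (.node (.node (.leaf ⟨109772639, 6, 1, 49⟩) (.leaf ⟨267368701, 12, 1, 1704⟩)) (.leaf ⟨243785438, 10, 0, 651⟩)) (.node (.leaf ⟨146430507, 9, 0, 328⟩) (.leaf ⟨46264823, 11, 0, 1047⟩))) (.node (.node (.leaf ⟨142062223, 8, 1, 184⟩) (.leaf ⟨257070257, 11, 0, 836⟩)) (.node (.leaf ⟨142255646, 10, 1, 486⟩) (.leaf ⟨121540283, 12, 0, 1327⟩)))) (.node (.node (.node (.node (.leaf ⟨249209980, 8, 1, 116⟩) (.leaf ⟨262905747, 13, 0, 2025⟩)) (.leaf ⟨150913213, 11, 1, 745⟩)) (.node (.leaf ⟨118936763, 10, 1, 404⟩) (.leaf ⟨1700167, 11, 0, 1184⟩))) (.node (.node (.leaf ⟨71503303, 9, 0, 254⟩) (.leaf ⟨148399116, 11, 0, 942⟩)) (.node (.leaf ⟨62308846, 10, 0, 568⟩) (.leaf ⟨121411501, 12, 0, 1482⟩)))))) (.node (.node (.node (.node (.node (.node (.leaf ⟨64595079, 6, 0, 32⟩) (.leaf ⟨253131235,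 12, 1, 1648⟩)) (.leaf ⟨236976026, 10, 0, 630⟩)) (.node (.leaf ⟨47670825, 9, 1, 310⟩) (.leaf ⟨158632783, 11, 0, 1019⟩))) (.node (.node (.leaf ⟨167637738, 8, 0, 168⟩) (.leaf ⟨267876095, 11, 1, 812⟩)) (.node (.leaf ⟨266656314, 10, 0, 463⟩) (.leaf ⟨108386596, 12, 0, 1294⟩)))) (.node (.node (.node (.node (.leaf ⟨10283563, 7, 0, 99⟩) (.leaf ⟨38986591, 13, 0, 1932⟩)) (.leaf ⟨195076700, 11, 1, 721⟩)) (.node (.leaf ⟨82930295, 9, 0, 384⟩) (.leaf ⟨231395002, 11, 1, 1148⟩))) (.node (.node (.leaf ⟨92170621, 9, 1, 237⟩) (.leaf ⟨268317950, 11, 1, 914⟩)) (.node (.leaf ⟨40678207, 10, 0, 547⟩) (.leaf ⟨106153171, 12, 0, 1443⟩))))) (.node (.node (.node (.node (.node (.leaf ⟨230905667, 7, 1, 65⟩) (.leaf ⟨265180590, 13, 0, 1783⟩)) (.leaf ⟨14413588, 10, 1, 673⟩)) (.node (.leaf ⟨164523343, 9, 1, 347⟩) (.leaf ⟨254898135, 11, 1, 1078⟩))) (.node (.node (.leaf ⟨162442492,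 8, 1, 201⟩) (.leaf ⟨87460501, 11, 0, 864⟩)) (.node (.leaf ⟨179738275, 10, 0, 505⟩) (.leaf ⟨242965755, 12, 0, 1366⟩)))) (.node (.node (.node (.node (.leaf ⟨265423977, 8, 0, 134⟩) (.leaf ⟨259903198, 14, 1, 2263⟩)) (.leaf ⟨115328299, 11, 0, 767⟩)) (.node (.leaf ⟨241727846, 10, 0, 425⟩) (.leaf ⟨257344757, 12, 0, 1224⟩))) (.node (.node (.leaf ⟨88075214, 9, 1, 273⟩) (.leaf ⟨52296337, 11, 0, 969⟩)) (.node (.leaf ⟨54505789, 10, 0, 587⟩) (.leaf ⟨200605523, 12, 0, 1536⟩)))))))))))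

def bigTags : List (ℕ × ℕ) :=
  [(1, 379), (2, 2235), (1, 745), (2, 881), (2, 229), (2, 413), (2, 1759), (2, 650), (1, 623), (2, 462), (1, 1617), (1, 78), (1, 83), (2, 124), (2, 49), (2, 1361), (1, 721), (1, 1416), (2, 1248), (2, 289), (2, 1114), (2, 1944), (1, 1482), (1, 502), (2, 2247), (1, 1130), (1, 364), (2, 931), (2, 2199), (1, 56), (1, 799), (1, 1514), (1, 726), (2, 1332), (2, 1160), (2, 2100), (2, 657), (2, 900), (1, 691), (1, 185), (2, 734), (2, 1647), (1, 1569), (2, 676), (2, 1554), (2, 1609), (2, 1438), (1, 365), (2, 295), (2, 502), (1, 724), (2, 2164), (2, 231), (2, 1960), (1, 844), (2, 668), (2, 1465), (1, 232), (2, 902), (1, 546), (2, 1310), (1, 1730), (2, 947), (2, 2276), (2, 145), (2, 2246), (2, 397), (2, 1981), (2, 240), (2, 789), (1, 1106), (2, 191), (2, 100), (1, 1397), (1, 392), (1, 1303), (1, 781), (2, 1813), (1, 531), (2,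 398), (1, 1455), (2, 1682), (1, 1708), (1, 244), (2, 1026), (2, 2029), (2, 1707), (1, 1233), (2, 1570), (2, 621), (1, 1090), (1, 205), (2, 541), (1, 1422), (1, 95), (1, 227), (1, 1500), (2, 1428), (2, 34), (1, 1151), (1, 1139), (2, 213), (2, 1680), (2, 762), (1, 334), (1, 667), (1, 1433), (1, 1251), (2, 809), (2, 613), (2, 1257), (2, 2), (2, 2285), (2, 1830), (1, 710), (1, 541), (2, 1151), (2, 371), (1, 957), (2, 1684), (2, 870), (1, 151), (1, 193), (2, 2257), (2, 2104), (1, 1442), (1, 1007), (1, 1436), (1, 855), (1, 519), (2, 1666), (1, 600), (1, 1458), (2, 784), (2, 1716), (1, 1517), (1, 712), (2, 2133), (2, 1420), (1, 792), (2, 1171), (2, 2079), (2, 925), (1, 689), (2, 972), (2, 1929), (1, 247), (2, 1183), (2, 2012), (2, 1066), (1, 127), (1, 294), (1, 4), (1, 283), (2, 1067), (1, 869), (2, 2033), (2, 1007), (1, 897), (2, 387), (1, 990), (2, 1992),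 (1, 1204), (1, 590), (2, 696), (1, 1069), (1, 1543), (2, 1128), (2, 2232), (1, 875), (1, 1424), (2, 557), (1, 1459), (1, 158), (1, 579), (2, 190), (1, 1477), (2, 441), (1, 569), (2, 596), (1, 1002), (2, 18), (2, 1100), (1, 538), (1, 1354), (2, 139), (1, 1240), (2, 2301), (1, 122), (2, 1814), (2, 560), (2, 1491), (1, 60), (2, 149), (1, 1104), (1, 567), (1, 989), (2, 1651), (2, 1416), (2, 779), (1, 440), (2, 1190), (1, 822), (2, 1938), (1, 1402), (1, 1352), (2, 406), (2, 944), (2, 5), (2, 1804), (1, 995), (2, 1074), (1, 1115), (2, 1806), (1, 939), (1, 1449), (1, 1731), (2, 656), (2, 94), (2, 1947), (1, 167), (2, 401), (2, 1410), (1, 641), (1, 1337), (2, 171), (2, 1582), (2, 1811), (2, 2042), (2, 227), (1, 471), (1, 249), (1, 1198), (2, 2291), (2, 1346), (2, 2198), (1, 1286), (2, 1045), (2, 553), (1, 186), (1, 52), (2, 85), (2, 1719), (2, 1234), (1,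 955), (1, 309), (2, 755), (1, 348), (1, 1250), (1, 1661), (2, 2014), (2, 2032), (2, 443), (1, 776), (2, 839), (2, 404), (1, 1125), (2, 2105), (2, 1236), (2, 77), (2, 1235), (1, 926), (1, 1285), (2, 707), (2, 1550), (1, 876), (2, 1723), (1, 796), (1, 597), (1, 55), (2, 245), (1, 326), (1, 621), (2, 1314), (2, 1569), (1, 1641), (1, 418), (2, 1576), (1, 1695), (1, 441), (2, 542), (2, 2132), (1, 138), (2, 857), (1, 417), (2, 922), (1, 660), (1, 42), (2, 1448), (2, 629), (1, 1432), (1, 826), (1, 96), (2, 1847), (1, 346), (1, 435), (1, 976), (1, 1230), (2, 356), (1, 1633), (1, 765), (1, 344), (1, 437), (1, 684), (1, 815), (2, 1902), (1, 877), (1, 129), (2, 1445), (2, 2261), (2, 610), (1, 769), (1, 1658), (1, 864), (2, 605), (2, 2063), (1, 594), (1, 1526), (2, 705), (2, 192), (2, 1709), (2, 1984), (2, 824), (2, 1166), (2, 1139), (1, 618), (1, 967), (2,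 488), (2, 381), (2, 1763), (1, 774), (1, 907), (1, 581), (1, 693), (1, 1715), (1, 1010), (2, 328), (1, 1746), (2, 2250), (2, 150), (1, 1197), (1, 1542), (1, 1398), (1, 1557), (1, 1087), (2, 2041), (2, 1783), (2, 1711), (2, 981), (1, 1636), (2, 1916), (2, 1950), (2, 366), (1, 1175), (1, 285), (1, 69), (2, 449), (2, 807), (2, 1604), (2, 1577), (1, 706), (1, 1218), (2, 1483), (1, 1333), (1, 1656), (2, 1300), (1, 228), (2, 948), (1, 1047), (2, 1105), (2, 1137), (2, 2141), (2, 1965), (2, 638), (2, 581), (2, 2185), (2, 1165), (1, 808), (1, 1461), (1, 1040), (1, 1581), (1, 1045), (1, 143), (2, 2239), (1, 102), (2, 794), (2, 2166), (2, 1776), (1, 383), (2, 421), (2, 302), (2, 751), (2, 1858), (1, 1107), (1, 1659), (2, 819), (1, 828), (1, 1229), (2, 893), (1, 1547), (2, 1945), (2, 959), (1, 17), (2, 2244), (2, 1581), (1, 1193), (1, 407), (2, 978), (1, 1282),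 (2, 1710), (2, 911), (2, 858), (2, 1879), (2, 1116), (2, 1545), (1, 3), (2, 291), (1, 263), (2, 738), (1, 650), (1, 1049), (2, 2025), (2, 898), (2, 636), (1, 1652), (2, 1345), (2, 988), (1, 1499), (1, 580), (2, 2110), (1, 885), (1, 1183), (2, 848), (1, 609), (1, 1039), (2, 342), (1, 1418), (1, 1672), (1, 833), (2, 1331), (2, 343), (1, 965), (2, 248), (2, 1320), (2, 545), (2, 272), (2, 1334), (2, 51), (1, 1261), (2, 912), (2, 503), (1, 1386), (1, 161), (2, 1705), (2, 12), (1, 1208), (2, 455), (2, 177), (1, 1451), (1, 1214), (1, 1688), (2, 1308), (1, 80), (2, 2081), (2, 699), (2, 1296), (2, 1631), (2, 426), (2, 309), (1, 918), (2, 1989), (1, 1253), (1, 771), (1, 584), (1, 908), (1, 906), (1, 419), (2, 2006), (2, 2074), (1, 473), (2, 2284), (2, 575), (2, 1012), (2, 576), (2, 1354), (2, 111), (2, 1593), (2, 913), (2, 2098), (1, 111), (2, 1094), (2,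 742), (2, 682), (2, 1048), (2, 985), (1, 969), (1, 368), (2, 835), (1, 1415), (2, 257), (2, 1809), (1, 1720), (2, 1474), (2, 1958), (2, 1691), (1, 739), (2, 1566), (2, 184), (1, 314), (2, 1780), (2, 792), (2, 932), (2, 1447), (2, 148), (1, 229), (2, 953), (2, 833), (2, 1418), (2, 1195), (1, 1621), (1, 14), (2, 949), (2, 1424), (1, 1103), (2, 514), (1, 1530), (1, 1648), (2, 1991), (1, 332), (1, 574), (1, 1614), (2, 1481), (1, 861), (1, 1666), (1, 120), (2, 663), (2, 1352), (1, 662), (2, 217), (2, 1231), (1, 925), (1, 1627), (1, 1407), (2, 382), (2, 2254), (2, 62), (2, 1654), (2, 659), (2, 1535), (2, 1057), (2, 588), (1, 485), (1, 996), (2, 1798), (2, 1699), (1, 0), (1, 1118), (1, 560), (1, 1376), (2, 1657), (1, 571), (2, 1869), (2, 253), (2, 473), (1, 913), (1, 298), (1, 701), (2, 776), (2, 1534), (1, 414), (1, 638), (2, 1961), (2, 2097), (1, 823),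 (2, 1023), (2, 275), (2, 2055), (2, 1893), (1, 237), (2, 258), (1, 1095), (2, 249), (1, 168), (1, 1136), (2, 694), (2, 882), (2, 2251), (1, 929), (1, 1269), (1, 267), (1, 896), (2, 301), (2, 1785), (1, 1687), (2, 155), (2, 1982), (2, 1068), (2, 460), (2, 471), (2, 1301), (2, 1788), (1, 718), (1, 1055), (1, 973), (1, 528), (2, 1671), (1, 385), (1, 751), (2, 1745), (1, 866), (2, 973), (2, 146), (1, 233), (1, 811), (1, 938), (2, 1413), (1, 370), (2, 1933), (1, 1419), (1, 1008), (2, 1591), (2, 1721), (1, 1562), (2, 2061), (1, 130), (2, 1388), (2, 2011), (1, 1220), (1, 533), (1, 416), (1, 685), (1, 857), (1, 1709), (1, 1462), (1, 1368), (2, 1455), (1, 470), (1, 1089), (1, 1279), (1, 915), (1, 94), (1, 1199), (2, 1440), (1, 587), (2, 1414), (2, 8), (2, 1941), (2, 109), (1, 1314), (2, 168), (1, 1578), (1, 1088), (1, 1497), (2, 1199), (1, 358), (2, 1401),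 (2, 1918), (1, 1625), (1, 163), (2, 1601), (2, 1246), (2, 578), (2, 1315), (2, 730), (2, 1978), (2, 1899), (1, 1155), (2, 1108), (1, 265), (1, 363), (1, 132), (1, 1735), (1, 493), (2, 82), (2, 1159), (2, 644), (1, 1639), (1, 1631), (2, 380), (1, 859), (2, 2242), (1, 1630), (2, 1335), (1, 686), (2, 526), (2, 991), (1, 162), (2, 1363), (2, 172), (1, 1057), (1, 231), (2, 304), (2, 1751), (1, 79), (1, 76), (2, 1348), (2, 1792), (1, 592), (1, 204), (2, 2080), (1, 1163), (2, 268), (1, 349), (1, 991), (2, 1673), (1, 1210), (2, 1890), (2, 174), (1, 1533), (1, 981), (1, 482), (1, 1023), (2, 1531), (2, 1073), (1, 777), (1, 1181), (1, 956), (1, 998), (2, 2170), (2, 32), (1, 646), (1, 547), (1, 72), (2, 63), (1, 801), (1, 780), (1, 552), (1, 181), (2, 4), (2, 772), (1, 1164), (2, 1643), (2, 317), (1, 1192), (2, 2172), (2, 1939), (1, 293), (1, 1348), (2, 2194),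 (1, 1408), (2, 793), (2, 2224), (2, 1502), (1, 1721), (2, 144), (1, 304), (1, 1707), (1, 195), (1, 1510), (1, 432), (2, 1155), (2, 2278), (2, 1824), (1, 1384), (1, 768), (2, 827), (1, 1572), (2, 961), (1, 1101), (2, 368), (1, 577), (2, 1201), (2, 1359), (2, 1852), (2, 1750), (2, 604), (2, 1630), (1, 607), (1, 1465), (2, 2267), (2, 170), (1, 1493), (1, 1265), (2, 135), (2, 270), (2, 1507), (1, 1012), (2, 725), (2, 582), (2, 593), (1, 22), (2, 2123), (2, 1387), (1, 7), (1, 1324), (2, 808), (2, 1153), (2, 1283), (2, 2118), (2, 64), (1, 1098), (2, 2112), (2, 1752), (2, 1076), (2, 1255), (1, 648), (1, 139), (2, 2018), (2, 1506), (2, 1015), (1, 1682), (2, 1552), (1, 1328), (2, 1612), (1, 557), (2, 252), (2, 1436), (2, 1259), (2, 260), (1, 310), (2, 1263), (1, 400), (2, 1562), (1, 748), (2, 1850), (2, 1172), (2, 479), (2, 746), (1, 103), (2, 1542), (2,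 986), (1, 586), (2, 1395), (1, 173), (2, 282), (2, 1885), (1, 1231), (2, 1265), (1, 1427), (2, 350), (2, 52), (1, 1046), (1, 91), (1, 1734), (2, 1977), (1, 339), (1, 90), (2, 251), (1, 1395), (1, 1570), (2, 199), (2, 1062), (2, 26), (1, 149), (1, 1363), (2, 689), (2, 1456), (2, 2135), (2, 691), (1, 1195), (2, 1628), (1, 524), (2, 61), (2, 2270), (2, 1311), (1, 1048), (1, 30), (1, 128), (2, 417), (2, 472), (2, 631), (2, 1187), (1, 1537), (1, 680), (1, 488), (1, 288), (2, 1305), (2, 2227), (2, 1525), (2, 768), (2, 1754), (2, 1537), (1, 140), (2, 602), (2, 262), (2, 1611), (1, 176), (2, 1508), (2, 1833), (2, 2151), (1, 615), (2, 130), (2, 1761), (2, 123), (1, 1431), (1, 338), (2, 463), (1, 1225), (2, 1237), (1, 188), (1, 628), (2, 1244), (1, 1036), (1, 1334), (2, 769), (1, 764), (2, 525), (1, 891), (1, 154), (2, 2144), (2, 1695), (2, 2108), (1, 1612),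 (1, 420), (2, 745), (1, 318), (1, 604), (2, 574), (1, 1162), (1, 831), (2, 280), (2, 1734), (2, 152), (2, 1962), (1, 74), (1, 1520), (1, 369), (1, 1390), (2, 1737), (2, 2088), (2, 1485), (2, 1825), (2, 1394), (1, 390), (1, 966), (2, 1619), (2, 2237), (1, 759), (2, 1475), (2, 10), (2, 185), (1, 180), (2, 2293), (2, 2084), (1, 791), (2, 2253), (1, 741), (1, 1072), (1, 1456), (2, 534), (2, 1146), (1, 1297), (2, 1540), (2, 2157), (1, 1168), (2, 703), (2, 2109), (1, 62), (2, 119), (2, 1519), (2, 993), (1, 1060), (2, 854), (1, 1332), (1, 374), (2, 907), (1, 916), (1, 837), (2, 1583), (1, 878), (2, 652), (2, 801), (2, 2049), (1, 1620), (2, 1693), (1, 491), (1, 902), (2, 2179), (2, 1266), (1, 486), (2, 2165), (1, 1217), (2, 739), (1, 1538), (2, 1510), (1, 403), (2, 1191), (1, 290), (1, 746), (1, 28), (2, 512), (2, 1466), (2, 167), (2, 570), (2, 2008), (1,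 787), (1, 145), (1, 384), (1, 371), (2, 1407), (2, 2263), (1, 287), (2, 428), (2, 683), (2, 1385), (1, 1194), (2, 1299), (2, 225), (2, 220), (2, 1077), (1, 1301), (2, 2148), (2, 66), (2, 511), (1, 977), (2, 850), (2, 2174), (1, 1287), (1, 1058), (1, 1236), (2, 670), (2, 37), (1, 1623), (1, 1171), (2, 1903), (1, 372), (2, 1520), (1, 494), (2, 1801), (2, 2215), (2, 207), (2, 538), (2, 1900), (1, 1479), (1, 1189), (2, 885), (1, 1085), (1, 492), (2, 968), (2, 729), (1, 201), (1, 445), (1, 654), (2, 1839), (2, 2062), (2, 1280), (1, 152), (1, 13), (2, 1881), (1, 388), (1, 317), (2, 392), (1, 1044), (1, 172), (2, 78), (1, 1031), (2, 599), (1, 851), (2, 1383), (2, 447), (1, 345), (2, 1560), (2, 465), (2, 1853), (2, 1586), (1, 848), (2, 2214), (2, 963), (2, 1548), (2, 1701), (1, 1373), (1, 421), (2, 1954), (2, 1786), (2, 2228), (2, 1959), (2, 236), (1, 598),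 (1, 449), (1, 1169), (2, 142), (1, 1549), (2, 1013), (1, 1127), (2, 1019), (2, 1412), (1, 434), (2, 2192), (1, 1509), (1, 1440), (1, 49), (1, 198), (2, 482), (2, 2134), (1, 278), (1, 1339), (1, 1719), (1, 1733), (2, 1339), (1, 1274), (2, 410), (1, 200), (2, 761), (1, 1567), (1, 1525), (1, 1191), (1, 593), (1, 242), (1, 212), (2, 718), (1, 47), (1, 1460), (2, 2086), (1, 1200), (1, 1535), (2, 216), (2, 1713), (2, 1072), (1, 1727), (2, 1975), (2, 713), (2, 2211), (2, 1946), (1, 1311), (2, 2058), (2, 132), (2, 1378), (1, 380), (2, 1285), (2, 875), (1, 951), (2, 2277), (2, 311), (1, 70), (2, 2136), (2, 1778), (1, 1267), (2, 2040), (2, 1826), (2, 71), (1, 1284), (2, 393), (1, 1367), (1, 1157), (1, 707), (1, 398), (1, 468), (1, 259), (1, 187), (2, 1873), (2, 556), (2, 1494), (1, 1729), (1, 542), (1, 1683), (2, 1819), (2, 1948), (1, 280), (2, 310), (2,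 235), (1, 663), (1, 788), (2, 1093), (2, 1010), (2, 202), (2, 1729), (1, 816), (1, 1579), (1, 422), (2, 1269), (1, 1574), (2, 73), (2, 1641), (2, 672), (2, 1504), (2, 1470), (1, 308), (2, 2036), (2, 349), (1, 1410), (1, 747), (2, 1658), (2, 662), (1, 1041), (1, 478), (2, 58), (1, 699), (2, 1755), (2, 1816), (1, 563), (2, 2060), (1, 34), (2, 494), (1, 389), (2, 1014), (1, 1266), (1, 1492), (1, 1444), (2, 510), (2, 1675), (1, 658), (1, 1034), (1, 668), (2, 669), (1, 760), (1, 555), (2, 1380), (2, 905), (2, 271), (1, 1327), (1, 1522), (2, 1620), (2, 432), (1, 1544), (2, 1306), (2, 365), (2, 1872), (2, 1267), (1, 1743), (2, 2095), (2, 2201), (1, 734), (2, 1644), (2, 24), (2, 1532), (2, 395), (2, 331), (2, 1633), (2, 99), (2, 1002), (2, 1303), (2, 1966), (1, 1131), (2, 1561), (2, 842), (1, 719), (1, 1119), (2, 679), (1, 1068), (2, 1373), (2, 1911), (1,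 191), (1, 958), (2, 176), (1, 159), (2, 1782), (2, 1063), (1, 1377), (1, 1050), (1, 1519), (2, 2287), (1, 742), (2, 389), (1, 1622), (2, 567), (1, 397), (2, 1214), (2, 210), (2, 572), (2, 1983), (1, 448), (1, 330), (1, 36), (1, 1033), (2, 2298), (2, 1967), (1, 1061), (2, 910), (2, 1615), (2, 790), (2, 425), (2, 1204), (1, 738), (2, 0), (1, 350), (1, 1025), (2, 200), (1, 472), (2, 1913), (2, 977), (2, 1584), (1, 107), (2, 378), (2, 728), (2, 1182), (1, 1201), (1, 93), (2, 1618), (2, 2190), (2, 1855), (2, 194), (1, 347), (2, 1972), (1, 1149), (1, 858), (1, 474), (1, 1080), (2, 1904), (1, 1254), (1, 222), (2, 873), (1, 367), (2, 95), (2, 2183), (2, 880), (1, 1494), (2, 1229), (2, 2001), (1, 1480), (2, 571), (2, 91), (2, 138), (1, 1506), (1, 698), (2, 597), (2, 1848), (2, 3), (1, 135), (2, 1099), (2, 2005), (2, 1250), (1, 356), (1, 1445), (1, 1245),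 (2, 286), (1, 1150), (1, 770), (2, 918), (2, 1118), (2, 1092), (1, 509), (1, 1606), (2, 1282), (2, 2275), (1, 1076), (1, 412), (2, 1544), (1, 545), (1, 644), (2, 1932), (2, 930), (2, 169), (1, 1116), (1, 678), (2, 1868), (1, 860), (2, 27), (1, 702), (1, 1616), (2, 980), (2, 1217), (1, 262), (2, 565), (2, 585), (1, 1122), (2, 1035), (1, 582), (2, 2177), (1, 515), (2, 2168), (1, 1024), (2, 667), (1, 1300), (2, 1131), (2, 2139), (2, 451), (1, 476), (1, 1425), (1, 1356), (2, 212), (2, 1168), (1, 1678), (1, 1490), (2, 1150), (2, 412), (1, 27), (2, 1614), (2, 1845), (2, 1787), (2, 1883), (1, 328), (1, 1357), (2, 88), (2, 396), (1, 1295), (2, 1384), (1, 656), (1, 1110), (2, 1834), (2, 1629), (2, 1986), (2, 1557), (1, 409), (1, 631), (1, 1669), (2, 1031), (1, 1052), (2, 946), (2, 1279), (2, 802), (1, 1294), (1, 711), (2, 1082), (2, 774), (1, 974), (2, 1307),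 (1, 1015), (1, 1401), (1, 919), (1, 1671), (1, 99), (2, 13), (1, 512), (2, 2026), (2, 1459), (2, 2294), (2, 1626), (2, 1060), (2, 799), (2, 65), (2, 475), (1, 171), (2, 1112), (1, 1336), (2, 1081), (2, 264), (1, 1421), (1, 1387), (1, 184), (2, 800), (1, 1205), (2, 47), (1, 643), (2, 156), (2, 1209), (2, 1175), (1, 1645), (1, 1516), (1, 959), (2, 843), (2, 288), (2, 625), (2, 2009), (1, 948), (1, 466), (2, 2159), (2, 1901), (2, 1574), (1, 605), (2, 2207), (2, 276), (2, 2003), (1, 1081), (1, 20), (2, 491), (2, 489), (2, 1985), (1, 1056), (2, 1088), (2, 1338), (2, 735), (1, 1252), (2, 186), (1, 1396), (2, 219), (2, 1895), (2, 2162), (1, 526), (1, 629), (1, 970), (1, 1554), (1, 1059), (1, 899), (1, 1561), (1, 713), (2, 1810), (2, 1746), (2, 2202), (1, 5), (2, 1488), (1, 1473), (2, 1747), (2, 954), (2, 1487), (1, 549), (2, 513), (1, 692), (1, 73), (2,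 956), (2, 1350), (2, 1842), (2, 269), (2, 539), (2, 935), (1, 845), (2, 714), (1, 284), (1, 1283), (2, 1635), (1, 596), (2, 9), (2, 753), (1, 274), (2, 316), (2, 1476), (2, 1831), (2, 2015), (2, 1317), (2, 1887), (1, 1653), (2, 1692), (1, 1075), (2, 1949), (2, 273), (2, 943), (1, 35), (2, 671), (2, 2290), (1, 1305), (1, 1099), (2, 2090), (1, 1583), (2, 2220), (2, 93), (1, 1235), (1, 867), (2, 558), (1, 819), (2, 1396), (2, 1513), (2, 962), (2, 1843), (1, 1084), (2, 555), (2, 359), (2, 2259), (2, 1415), (1, 8), (1, 325), (2, 1405), (2, 614), (2, 2066), (2, 2240), (1, 361), (2, 1353), (2, 6), (2, 1702), (2, 1971), (2, 1288), (2, 1696), (2, 733), (2, 654), (2, 1571), (1, 1508), (2, 1964), (2, 2007), (1, 359), (1, 659), (1, 1430), (2, 508), (2, 645), (2, 1120), (2, 2073), (2, 1832), (2, 1), (2, 675), (2, 431), (2, 529), (1, 1466), (1, 1086), (1, 170),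 (2, 1648), (2, 1489), (1, 1591), (2, 1744), (1, 797), (2, 1302), (1, 655), (1, 1144), (2, 1807), (2, 1762), (1, 394), (1, 829), (1, 1030), (2, 2288), (2, 1837), (2, 1304), (2, 1838), (2, 2065), (1, 1313), (1, 1003), (1, 484), (1, 45), (1, 914), (2, 178), (2, 1669), (2, 758), (1, 320), (2, 2070), (2, 1892), (1, 295), (1, 537), (1, 1029), (2, 373), (1, 931), (2, 862), (1, 1487), (2, 992), (2, 495), (2, 2076), (2, 1553), (2, 478), (1, 360), (1, 327), (1, 1448), (1, 89), (2, 2196), (1, 1576), (2, 1728), (2, 1579), (2, 45), (1, 962), (2, 352), (1, 863), (2, 1316), (2, 1047), (2, 44), (2, 1180), (2, 1556), (1, 700), (1, 677), (2, 470), (1, 1062), (2, 1039), (2, 2182), (2, 1844), (1, 786), (2, 1065), (1, 1524), (2, 17), (1, 196), (2, 1775), (1, 672), (2, 1457), (2, 1178), (1, 1237), (1, 413), (2, 136), (1, 1159), (2, 1202), (1, 1560), (2, 1518), (1, 1213),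 (1, 355), (1, 137), (2, 1173), (1, 402), (1, 1604), (2, 233), (2, 76), (1, 467), (2, 1704), (1, 1020), (2, 2038), (1, 511), (2, 2191), (2, 700), (2, 1670), (1, 1161), (1, 1375), (1, 992), (2, 1411), (1, 613), (1, 1496), (2, 1230), (2, 1937), (1, 879), (2, 201), (2, 2020), (1, 838), (1, 620), (2, 1968), (2, 1427), (2, 1290), (2, 500), (1, 595), (2, 521), (1, 1248), (2, 528), (2, 1653), (2, 1578), (2, 2221), (2, 903), (1, 559), (2, 561), (1, 1043), (1, 1330), (1, 1443), (2, 1223), (2, 43), (2, 899), (2, 2120), (2, 1432), (1, 573), (2, 1715), (1, 994), (2, 1517), (1, 1736), (2, 2153), (1, 1067), (1, 1343), (1, 900), (2, 781), (2, 2016), (1, 500), (1, 1222), (2, 1008), (2, 468), (1, 884), (2, 877), (1, 535), (2, 1969), (1, 824), (1, 1174), (1, 323), (1, 1277), (2, 951), (1, 1042), (2, 1186), (2, 2219), (1, 1468), (2, 41), (2, 1822), (2, 2297), (2, 2093),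 (1, 709), (1, 404), (2, 1607), (1, 752), (2, 1976), (1, 261), (2, 2116), (2, 306), (2, 1951), (2, 1406), (2, 50), (1, 785), (1, 455), (2, 1309), (1, 1615), (1, 126), (2, 606), (2, 1433), (2, 1070), (2, 749), (1, 730), (2, 855), (2, 1245), (2, 829), (2, 1222), (2, 1147), (2, 1514), (2, 1794), (1, 105), (1, 1679), (2, 837), (2, 732), (2, 1998), (2, 1784), (1, 246), (1, 1064), (2, 53), (2, 1740), (1, 905), (1, 783), (1, 980), (1, 264), (1, 645), (1, 1290), (1, 1244), (1, 1100), (2, 515), (2, 1743), (2, 1908), (1, 1626), (1, 736), (1, 442), (2, 1179), (1, 1693), (2, 2203), (1, 1349), (1, 886), (1, 1188), (1, 1319), (1, 1347), (1, 301), (2, 1955), (2, 632), (1, 1054), (2, 105), (1, 1000), (2, 825), (2, 706), (2, 975), (2, 1789), (2, 1367), (1, 1691), (2, 967), (2, 1906), (2, 697), (1, 576), (2, 2043), (2, 2178), (2, 1930), (2, 544), (1, 16), (2, 1156),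 (1, 1138), (1, 1692), (1, 109), (2, 1441), (2, 974), (1, 351), (1, 1689), (2, 1075), (1, 971), (2, 1818), (2, 487), (2, 84), (2, 587), (1, 679), (2, 1606), (2, 1143), (1, 761), (1, 206), (1, 1304), (2, 1260), (2, 2163), (1, 1489), (2, 507), (1, 319), (2, 1241), (1, 664), (2, 284), (1, 1406), (1, 1521), (2, 351), (1, 1476), (2, 70), (2, 863), (2, 2128), (1, 1315), (2, 1846), (1, 1546), (2, 1319), (1, 1426), (2, 568), (2, 1149), (2, 950), (2, 1011), (2, 1271), (2, 1090), (2, 1738), (2, 1768), (2, 904), (1, 1120), (1, 653), (1, 183), (2, 86), (2, 615), (1, 68), (1, 15), (2, 760), (2, 2106), (2, 640), (1, 306), (2, 1022), (2, 1052), (2, 358), (1, 1747), (2, 1449), (1, 1713), (1, 399), (1, 1019), (2, 89), (2, 497), (2, 719), (1, 725), (2, 1616), (1, 1001), (2, 1089), (1, 868), (1, 1599), (2, 1061), (1, 1403), (1, 1429), (1, 814), (2, 607), (2, 226),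 (2, 1655), (2, 415), (1, 950), (1, 732), (1, 525), (1, 1593), (1, 1469), (2, 867), (2, 1189), (1, 1280), (2, 1957), (2, 1500), (2, 238), (2, 906), (1, 1281), (1, 611), (2, 355), (1, 757), (1, 1470), (1, 1026), (2, 1800), (1, 1255), (2, 72), (2, 909), (2, 589), (2, 573), (1, 728), (1, 307), (2, 1381), (2, 1749), (2, 830), (1, 331), (2, 1503), (2, 1687), (2, 439), (1, 1153), (2, 1024), (1, 1203), (2, 2216), (2, 1228), (2, 1689), (2, 840), (1, 729), (2, 1799), (1, 870), (2, 1596), (2, 2024), (2, 1041), (1, 1618), (2, 522), (2, 1085), (1, 1341), (2, 1857), (2, 2206), (1, 1223), (2, 2000), (2, 418), (1, 1108), (1, 1202), (2, 2053), (2, 333), (1, 522), (2, 2243), (1, 912), (2, 2161), (2, 1931), (2, 1580), (2, 856), (2, 1121), (2, 1133), (2, 1665), (2, 1056), (1, 192), (2, 400), (2, 797), (1, 75), (2, 791), (1, 984), (1, 536), (2, 151), (2, 115), (1, 1178),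 (2, 1247), (2, 1820), (1, 23), (2, 1650), (2, 23), (1, 820), (2, 1921), (1, 88), (2, 1268), (2, 2085), (1, 391), (1, 489), (1, 804), (2, 2150), (1, 789), (2, 197), (2, 1174), (2, 427), (2, 806), (1, 1187), (2, 40), (2, 2121), (2, 957), (1, 1226), (2, 617), (2, 1733), (1, 282), (1, 532), (2, 1640), (2, 1505), (1, 1145), (2, 450), (2, 384), (1, 1753), (2, 1541), (2, 1006), (2, 438), (2, 379), (2, 1446), (2, 693), (1, 214), (1, 854), (1, 1650), (1, 57), (1, 266), (2, 1672), (1, 1588), (2, 1589), (2, 54), (2, 1123), (1, 81), (2, 1278), (1, 940), (2, 996), (1, 963), (2, 509), (2, 1106), (1, 619), (1, 968), (2, 2266), (1, 513), (1, 727), (1, 1657), (1, 705), (1, 1651), (2, 1443), (1, 737), (2, 1252), (2, 550), (2, 1667), (2, 454), (2, 464), (1, 649), (2, 2127), (1, 97), (1, 223), (1, 1705), (2, 1429), (2, 777), (1, 165), (1, 933), (2, 377), (2, 1599),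 (1, 1642), (2, 927), (2, 2210), (2, 467), (2, 232), (1, 556), (2, 1086), (2, 28), (1, 551), (2, 623), (2, 1227), (2, 1600), (1, 1605), (2, 2052), (1, 1722), (1, 961), (1, 92), (1, 1276), (2, 1281), (2, 1529), (2, 1270), (1, 695), (1, 1370), (1, 1094), (2, 1391), (2, 339), (1, 740), (1, 540), (2, 680), (1, 753), (1, 503), (1, 589), (2, 485), (2, 658), (2, 1897), (1, 504), (2, 519), (1, 148), (1, 1351), (1, 617), (2, 2274), (2, 1392), (2, 1021), (2, 383), (2, 453), (2, 2057), (1, 136), (2, 411), (2, 1294), (2, 653), (2, 221), (2, 2046), (1, 670), (2, 1731), (1, 1486), (1, 59), (1, 1073), (2, 1664), (1, 260), (2, 1662), (2, 107), (2, 1907), (1, 1374), (1, 234), (1, 830), (2, 1598), (1, 1670), (2, 1808), (2, 121), (2, 1516), (1, 1359), (1, 1507), (2, 1001), (1, 1751), (2, 639), (1, 1649), (1, 1662), (2, 782), (2, 684), (2, 2280), (2, 1096), (1, 510),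 (2, 1122), (2, 261), (2, 2059), (1, 1438), (2, 1652), (1, 1037), (2, 1543), (1, 460), (1, 1323), (1, 635), (1, 1177), (2, 1371), (1, 1566), (2, 159), (2, 2286), (2, 315), (2, 1714), (1, 26), (2, 1117), (1, 544), (2, 1772), (2, 1538), (1, 1602), (2, 569), (2, 1277), (2, 754), (1, 386), (1, 717), (1, 408), (2, 1478), (2, 7), (1, 1326), (1, 141), (2, 608), (2, 353), (1, 1624), (2, 1467), (2, 1097), (1, 1609), (1, 1745), (1, 32), (1, 1165), (1, 1597), (2, 664), (1, 954), (1, 450), (2, 1464), (2, 851), (2, 131), (2, 2129), (2, 889), (1, 1640), (1, 1215), (1, 1216), (2, 2173), (2, 424), (1, 633), (2, 394), (2, 1404), (2, 209), (2, 2031), (2, 363), (1, 1434), (2, 319), (2, 1910), (2, 1298), (2, 942), (2, 1815), (2, 1963), (2, 158), (1, 443), (1, 516), (2, 440), (2, 736), (1, 803), (1, 160), (1, 1582), (2, 823), (1, 1595), (2, 1064), (2, 267), (2, 979),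 (2, 2147), (2, 141), (2, 1148), (2, 2010), (2, 1253), (1, 802), (2, 813), (1, 296), (1, 979), (1, 1366), (2, 547), (2, 1996), (1, 1741), (1, 936), (1, 1053), (2, 1157), (2, 1712), (1, 456), (1, 333), (2, 1878), (1, 888), (2, 106), (2, 744), (1, 810), (1, 1559), (2, 1293), (1, 341), (2, 205), (2, 409), (2, 634), (2, 180), (2, 1558), (2, 203), (2, 1004), (2, 1053), (2, 38), (1, 960), (2, 1563), (1, 112), (2, 1722), (1, 225), (2, 1434), (2, 619), (2, 1970), (2, 1126), (2, 1034), (2, 775), (1, 426), (1, 24), (1, 591), (2, 442), (2, 48), (1, 1391), (2, 1403), (2, 1136), (2, 1154), (2, 2117), (2, 814), (2, 259), (2, 1828), (2, 2146), (1, 155), (2, 390), (1, 985), (2, 1219), (1, 909), (2, 1188), (1, 85), (2, 1661), (2, 116), (1, 1575), (2, 140), (2, 970), (1, 1292), (2, 543), (2, 14), (1, 842), (1, 1553), (1, 357), (2, 920), (2, 1765), (2, 2103), (2, 583),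 (1, 117), (2, 726), (1, 1646), (1, 6), (2, 1101), (2, 1200), (2, 1366), (2, 1370), (1, 652), (1, 425), (1, 104), (1, 910), (1, 1523), (2, 163), (1, 561), (2, 211), (1, 43), (2, 1043), (1, 1166), (2, 958), (2, 1888), (1, 1312), (2, 1256), (2, 69), (2, 822), (1, 114), (1, 1668), (2, 620), (1, 1005), (2, 1564), (2, 446), (2, 326), (2, 2077), (1, 395), (2, 895), (2, 1125), (1, 1051), (2, 1243), (2, 1069), (1, 446), (2, 2034), (1, 220), (2, 1668), (1, 1272), (2, 388), (1, 548), (1, 947), (1, 164), (2, 531), (1, 1393), (1, 1381), (1, 1035), (2, 687), (2, 1342), (2, 756), (2, 998), (2, 1779), (1, 1471), (1, 703), (1, 1699), (2, 969), (2, 361), (2, 25), (1, 932), (1, 131), (1, 1190), (1, 1628), (1, 514), (1, 1310), (2, 1312), (2, 42), (2, 1029), (2, 2114), (1, 1748), (1, 975), (2, 1638), (1, 430), (1, 688), (1, 1249), (2, 1009), (2, 530), (2, 296), (2,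 1025), (2, 1605), (2, 1730), (2, 87), (1, 1142), (2, 1170), (2, 493), (1, 219), (1, 982), (1, 1105), (1, 1701), (2, 2051), (1, 986), (2, 1109), (1, 452), (1, 157), (1, 483), (2, 2071), (1, 1219), (1, 39), (2, 1330), (2, 818), (2, 884), (2, 30), (1, 1228), (2, 154), (2, 1924), (1, 300), (2, 1458), (2, 2149), (2, 678), (1, 1738), (1, 1589), (1, 1750), (1, 64), (2, 1083), (2, 2155), (2, 476), (2, 1351), (2, 1953), (1, 11), (2, 1402), (1, 779), (2, 481), (2, 234), (2, 60), (2, 846), (2, 2269), (1, 315), (1, 1361), (1, 1288), (2, 1444), (1, 1369), (2, 747), (2, 1324), (1, 1137), (2, 1071), (2, 892), (2, 1038), (1, 1246), (1, 1587), (2, 1206), (1, 71), (1, 1400), (2, 1590), (2, 224), (1, 983), (2, 1905), (1, 9), (2, 505), (2, 1184), (2, 1213), (2, 1859), (2, 118), (2, 517), (2, 715), (2, 890), (2, 198), (1, 999), (1, 362), (1, 1296), (2, 1362), (2, 600),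 (1, 286), (2, 1748), (2, 551), (2, 117), (2, 2154), (2, 299), (1, 634), (2, 783), (2, 1698), (2, 1914), (2, 554), (2, 1622), (2, 430), (2, 1442), (1, 529), (2, 1355), (2, 1203), (2, 1177), (1, 490), (1, 827), (1, 415), (2, 1365), (1, 1022), (2, 129), (2, 165), (2, 423), (1, 1481), (2, 120), (1, 889), (2, 2249), (1, 477), (1, 602), (1, 378), (1, 690), (1, 1573), (2, 708), (2, 566), (2, 182), (2, 243), (1, 240), (2, 1050), (2, 1216), (2, 1797), (1, 880), (1, 269), (1, 354), (2, 354), (1, 1102), (1, 1463), (1, 1513), (1, 1211), (2, 2181), (1, 554), (2, 338), (1, 256), (1, 565), (2, 1162), (1, 382), (1, 647), (1, 433), (2, 1521), (1, 715), (2, 788), (1, 661), (2, 96), (2, 456), (2, 580), (2, 916), (2, 1049), (2, 1773), (2, 712), (2, 313), (1, 778), (1, 1355), (2, 2124), (2, 143), (2, 757), (1, 41), (2, 79), (2, 923), (1, 1342), (2, 108), (2, 994), (1,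 454), (1, 669), (2, 1152), (2, 1098), (2, 1936), (2, 649), (2, 748), (1, 506), (2, 2099), (1, 1744), (1, 892), (1, 1740), (2, 810), (2, 281), (2, 436), (2, 321), (1, 1726), (1, 277), (1, 134), (1, 1485), (1, 1092), (1, 1600), (2, 841), (2, 1164), (1, 501), (2, 1627), (2, 1861), (2, 1142), (1, 270), (1, 927), (1, 1158), (1, 189), (2, 1005), (2, 1889), (1, 1123), (2, 763), (2, 878), (2, 1796), (2, 222), (2, 1215), (2, 1706), (2, 1103), (2, 914), (2, 603), (1, 276), (1, 671), (2, 660), (1, 1141), (2, 1718), (2, 865), (1, 1590), (1, 1170), (1, 1135), (2, 370), (1, 935), (2, 1463), (1, 1256), (2, 1377), (2, 112), (2, 1167), (2, 1232), (1, 773), (2, 896), (2, 2208), (2, 1546), (2, 2302), (1, 1004), (1, 1752), (2, 1095), (1, 343), (2, 1141), (1, 754), (1, 1610), (1, 33), (1, 1345), (1, 1212), (2, 853), (1, 1739), (2, 1501), (1, 716), (2, 1602), (1, 534),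 (1, 226), (2, 740), (1, 1006), (2, 263), (1, 462), (2, 812), (2, 1686), (1, 1586), (1, 447), (2, 540), (1, 1660), (1, 1065), (1, 299), (2, 1344), (2, 2021), (2, 874), (2, 314), (1, 696), (2, 1275), (1, 1601), (1, 1264), (2, 1767), (1, 1316), (2, 1497), (2, 869), (2, 2101), (2, 1703), (2, 1688), (2, 341), (1, 1585), (2, 677), (2, 1460), (2, 647), (1, 118), (2, 2184), (2, 1468), (2, 724), (1, 818), (1, 812), (1, 377), (1, 543), (2, 256), (2, 362), (2, 1683), (1, 1556), (1, 794), (2, 1732), (2, 1484), (2, 826), (1, 1268), (2, 766), (2, 1224), (2, 122), (2, 1613), (1, 210), (2, 1450), (2, 527), (2, 1251), (2, 1472), (2, 458), (2, 1942), (1, 146), (2, 1980), (1, 1718), (1, 1637), (1, 697), (1, 856), (2, 1135), (1, 821), (1, 218), (2, 2047), (2, 2272), (1, 1128), (2, 1437), (1, 1484), (2, 1987), (2, 559), (2, 457), (1, 254), (1, 890), (1, 18), (2, 997),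 (1, 520), (1, 1439), (2, 598), (1, 499), (2, 1360), (2, 1817), (1, 495), (1, 1273), (2, 57), (1, 832), (2, 324), (2, 1297), (1, 1555), (1, 1077), (2, 990), (2, 1132), (1, 1263), (2, 367), (1, 978), (2, 1549), (2, 1372), (2, 2030), (2, 1884), (1, 1420), (2, 1679), (2, 2050), (1, 993), (2, 1923), (1, 964), (2, 218), (2, 1812), (2, 1771), (1, 1242), (2, 55), (2, 164), (2, 1646), (1, 1289), (1, 1706), (1, 1565), (1, 1399), (1, 175), (1, 518), (1, 217), (2, 1492), (2, 1091), (1, 1129), (2, 1805), (1, 1548), (1, 431), (2, 498), (2, 883), (2, 936), (2, 1337), (2, 1409), (2, 1102), (2, 2019), (1, 847), (2, 1080), (1, 1329), (1, 1457), (1, 178), (2, 332), (1, 427), (1, 1712), (1, 1038), (2, 586), (2, 864), (2, 1208), (1, 313), (2, 630), (2, 278), (2, 322), (1, 553), (1, 82), (2, 2212), (2, 1555), (2, 1865), (2, 20), (2, 940), (2, 1849), (1, 805), (1, 904),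 (1, 1), (2, 2252), (1, 1694), (2, 1777), (1, 1539), (2, 1795), (2, 323), (1, 920), (2, 2064), (1, 687), (2, 1656), (2, 266), (1, 303), (1, 1380), (2, 2045), (2, 673), (2, 372), (1, 517), (2, 1020), (2, 68), (2, 1336), (2, 1435), (1, 1629), (2, 622), (1, 1167), (2, 1358), (2, 563), (1, 627), (1, 1676), (1, 949), (1, 66), (1, 1184), (1, 125), (2, 308), (1, 846), (2, 405), (1, 1558), (2, 1134), (2, 337), (2, 804), (2, 1273), (2, 1454), (1, 807), (2, 894), (1, 453), (1, 108), (1, 1112), (2, 103), (1, 636), (2, 1084), (2, 811), (2, 1512), (2, 1220), (1, 944), (2, 1742), (2, 19), (1, 835), (2, 1864), (1, 241), (1, 1531), (2, 1539), (2, 160), (1, 911), (1, 1675), (1, 1563), (2, 1181), (1, 1710), (2, 1368), (1, 1704), (1, 562), (1, 887), (1, 843), (2, 35), (2, 504), (1, 849), (1, 1257), (1, 156), (2, 1642), (1, 1491), (2, 2158), (2, 1211), (1, 209), (2,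 1793), (2, 1287), (2, 1979), (2, 2213), (1, 1114), (2, 1922), (1, 744), (2, 1511), (2, 832), (2, 134), (2, 2002), (2, 1264), (1, 630), (1, 1320), (2, 403), (2, 1572), (2, 1769), (1, 1697), (2, 448), (2, 976), (1, 1475), (2, 1397), (1, 841), (1, 941), (2, 2102), (1, 1027), (2, 836), (1, 147), (2, 686), (1, 1378), (2, 1915), (2, 852), (1, 1732), (2, 445), (2, 1862), (1, 207), (1, 101), (2, 2152), (2, 1610), (1, 1013), (1, 174), (1, 834), (2, 444), (1, 1474), (1, 1545), (2, 584), (2, 214), (2, 1040), (2, 2233), (2, 1617), (1, 271), (1, 1502), (2, 133), (2, 175), (2, 1875), (2, 31), (1, 1550), (2, 1145), (2, 1597), (2, 1956), (1, 704), (1, 894), (1, 1464), (1, 10), (1, 642), (2, 325), (1, 1580), (2, 2089), (1, 809), (2, 300), (2, 21), (2, 320), (2, 360), (1, 221), (1, 150), (2, 429), (1, 625), (1, 243), (2, 2044), (2, 1909), (2, 2091), (2, 1608), (2,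 934), (2, 1318), (2, 1567), (2, 716), (1, 235), (1, 640), (2, 1107), (2, 274), (2, 520), (1, 945), (1, 946), (1, 1665), (1, 1483), (2, 601), (2, 345), (1, 1728), (1, 1176), (1, 1411), (2, 204), (1, 29), (2, 2231), (2, 2096), (2, 1774), (1, 182), (1, 1371), (1, 1271), (2, 480), (1, 934), (2, 340), (1, 1724), (2, 2180), (1, 1594), (2, 1417), (2, 206), (2, 523), (2, 709), (2, 376), (2, 1708), (1, 1308), (2, 2169), (2, 577), (1, 883), (1, 1185), (2, 641), (2, 386), (1, 1613), (2, 1333), (1, 610), (2, 346), (2, 2296), (1, 1021), (2, 329), (2, 208), (2, 1249), (1, 1009), (1, 1028), (2, 727), (1, 1686), (2, 871), (1, 25), (2, 2035), (1, 119), (2, 1329), (1, 1413), (2, 1841), (1, 1096), (1, 782), (2, 964), (1, 1209), (2, 90), (2, 989), (1, 1074), (1, 393), (2, 189), (1, 1291), (1, 1723), (2, 293), (2, 419), (2, 83), (1, 106), (1, 1478), (1, 1385), (2, 1110),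 (2, 820), (2, 926), (1, 375), (1, 1488), (2, 101), (2, 97), (2, 237), (2, 524), (2, 414), (2, 618), (2, 1994), (1, 817), (2, 704), (2, 74), (2, 56), (2, 887), (2, 15), (2, 698), (1, 1714), (2, 1660), (2, 562), (1, 733), (2, 1452), (2, 1678), (1, 208), (1, 1109), (2, 33), (1, 58), (2, 815), (1, 1598), (2, 1866), (2, 265), (2, 399), (1, 166), (2, 2048), (2, 1138), (2, 1997), (1, 1340), (1, 1260), (2, 1547), (2, 1033), (2, 1207), (2, 643), (2, 1078), (2, 908), (2, 1003), (1, 1503), (1, 438), (2, 805), (1, 1737), (2, 1357), (1, 881), (2, 532), (1, 1082), (1, 893), (2, 1637), (1, 272), (1, 113), (1, 651), (1, 714), (2, 1685), (2, 183), (2, 1127), (2, 861), (2, 1645), (2, 1559), (1, 115), (1, 1017), (1, 1428), (1, 257), (2, 402), (2, 2195), (1, 98), (2, 1851), (2, 2094), (1, 44), (1, 245), (1, 252), (1, 1716), (2, 965), (1, 798), (2, 486), (1, 673), (2,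 294), (1, 795), (1, 311), (2, 420), (1, 608), (1, 952), (1, 632), (2, 1882), (2, 2189), (2, 929), (2, 16), (2, 1676), (2, 422), (2, 785), (2, 2204), (2, 408), (2, 711), (2, 778), (2, 552), (2, 1697), (1, 772), (1, 523), (1, 250), (1, 1446), (1, 758), (2, 335), (1, 480), (1, 850), (2, 2188), (2, 1952), (1, 1700), (2, 1161), (2, 1313), (1, 871), (2, 305), (1, 1677), (2, 847), (1, 87), (1, 825), (2, 2078), (2, 1515), (1, 997), (2, 1603), (1, 1498), (2, 1046), (2, 1425), (2, 247), (2, 1051), (2, 1323), (1, 1207), (2, 298), (2, 230), (2, 1453), (2, 126), (1, 1364), (1, 750), (1, 251), (1, 550), (2, 1498), (2, 385), (2, 737), (1, 1511), (1, 48), (2, 971), (1, 100), (1, 1702), (2, 2023), (2, 731), (2, 127), (2, 437), (1, 302), (1, 1011), (1, 1238), (2, 646), (2, 80), (1, 1394), (2, 1218), (2, 741), (2, 2265), (1, 1717), (1, 1447), (1, 213), (1, 953), (1,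 211), (2, 1727), (1, 1654), (1, 238), (2, 717), (1, 475), (2, 2281), (2, 1770), (1, 505), (1, 1243), (1, 1528), (1, 457), (2, 661), (2, 2176), (1, 1607), (2, 1400), (1, 1495), (1, 1540), (2, 2022), (1, 77), (1, 1362), (2, 2087), (1, 853), (1, 813), (2, 595), (1, 124), (1, 1635), (2, 627), (1, 882), (1, 1680), (2, 137), (2, 22), (2, 1423), (2, 1140), (2, 2186), (2, 2072), (2, 2013), (2, 1803), (1, 65), (2, 1524), (2, 1328), (2, 1943), (1, 1404), (1, 723), (1, 735), (1, 1239), (1, 1143), (2, 533), (1, 1534), (1, 507), (1, 793), (1, 564), (2, 1790), (1, 508), (1, 1372), (2, 590), (2, 1527), (2, 1934), (2, 2028), (1, 1725), (1, 1685), (2, 2122), (2, 2229), (1, 1541), (2, 1677), (1, 1016), (1, 1152), (2, 1700), (1, 236), (2, 1926), (1, 496), (2, 1479), (2, 1130), (2, 2223), (2, 375), (2, 1210), (1, 1388), (2, 29), (1, 423), (1, 329), (2, 1036), (1, 763),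 (2, 1674), (2, 1625), (2, 2256), (2, 1639), (2, 720), (1, 194), (1, 1577), (2, 2268), (1, 1258), (1, 1321), (1, 21), (1, 1083), (2, 196), (1, 1309), (1, 1293), (2, 1389), (2, 2292), (2, 459), (2, 1327), (1, 342), (1, 1698), (2, 303), (2, 1193), (1, 337), (1, 67), (1, 1154), (2, 2092), (1, 1532), (1, 297), (1, 1681), (2, 1585), (1, 1450), (2, 1530), (1, 676), (1, 373), (2, 1999), (1, 203), (2, 952), (2, 1623), (1, 681), (2, 1928), (2, 1226), (2, 1522), (2, 474), (1, 1664), (2, 1158), (2, 919), (2, 1087), (2, 537), (2, 215), (2, 1756), (2, 941), (1, 1608), (2, 1856), (2, 1238), (2, 153), (2, 2160), (1, 1071), (1, 322), (2, 2282), (2, 59), (2, 1111), (2, 897), (1, 54), (2, 1028), (1, 1134), (2, 110), (1, 521), (2, 2234), (2, 1037), (2, 594), (2, 1042), (2, 1725), (1, 1690), (2, 1430), (2, 1912), (2, 435), (2, 452), (1, 2), (1, 202), (1, 444), (1, 1592),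 (2, 1764), (2, 290), (2, 2039), (1, 498), (2, 1835), (2, 1870), (2, 688), (2, 591), (1, 1529), (2, 1836), (2, 1993), (1, 675), (2, 2222), (2, 1735), (2, 1261), (2, 945), (1, 637), (2, 188), (2, 1347), (2, 1221), (1, 321), (2, 1876), (2, 616), (2, 2273), (2, 2245), (2, 955), (2, 1595), (1, 749), (1, 539), (1, 1365), (2, 1499), (1, 674), (1, 568), (2, 1027), (2, 102), (1, 943), (2, 2067), (2, 1802), (2, 1356), (1, 405), (1, 1117), (2, 891), (1, 1584), (1, 1505), (1, 436), (2, 1920), (2, 866), (1, 1306), (2, 2205), (2, 767), (2, 637), (2, 2126), (2, 609), (1, 439), (1, 601), (2, 1621), (2, 666), (2, 1636), (2, 357), (2, 1469), (1, 1472), (2, 1276), (0, 0), (2, 674), (2, 1659), (2, 81), (1, 1227), (2, 369), (2, 2054), (2, 1927), (2, 787), (1, 1224), (2, 1821), (1, 572), (2, 2017), (2, 195), (2, 1254), (1, 12), (2, 1919), (2, 39), (1, 1063), (2, 1854),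 (2, 1486), (2, 860), (1, 1409), (2, 1587), (2, 750), (2, 773), (1, 708), (2, 564), (1, 1353), (1, 1124), (1, 1206), (2, 2027), (2, 1891), (2, 579), (1, 722), (1, 1383), (1, 790), (1, 1302), (2, 1104), (2, 1119), (2, 1295), (2, 1030), (1, 1564), (2, 828), (1, 1331), (2, 999), (1, 924), (2, 287), (1, 1182), (2, 1321), (2, 1274), (1, 1379), (1, 1454), (1, 988), (2, 1823), (2, 1258), (2, 1079), (2, 1194), (2, 161), (1, 86), (2, 1225), (1, 46), (2, 1017), (2, 244), (2, 2140), (1, 1186), (1, 1322), (2, 1990), (2, 1431), (2, 549), (1, 366), (1, 1749), (2, 821), (2, 1398), (2, 1292), (1, 248), (2, 516), (1, 666), (2, 966), (2, 2200), (1, 273), (2, 1439), (2, 1473), (1, 1247), (1, 376), (2, 2075), (2, 548), (2, 334), (2, 1480), (1, 19), (2, 1032), (2, 1973), (1, 1160), (2, 1490), (2, 292), (1, 583), (1, 1571), (2, 104), (1, 901), (2, 477), (2, 702), (1,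 84), (2, 1205), (2, 1374), (2, 1898), (2, 1649), (2, 1390), (1, 1452), (2, 2142), (1, 1435), (2, 277), (2, 157), (2, 1726), (2, 496), (1, 424), (2, 1894), (2, 1753), (2, 1239), (2, 1115), (2, 179), (2, 1863), (2, 228), (1, 1078), (1, 1412), (1, 775), (2, 845), (1, 1338), (2, 1144), (2, 223), (1, 1070), (1, 1259), (1, 566), (1, 922), (2, 786), (2, 92), (2, 723), (2, 1325), (2, 924), (2, 2068), (1, 291), (1, 401), (2, 1196), (1, 895), (2, 759), (1, 312), (1, 1111), (2, 1369), (2, 1681), (2, 1624), (2, 642), (2, 1988), (2, 1896), (1, 987), (2, 2069), (1, 429), (2, 690), (2, 2113), (2, 1272), (1, 144), (1, 1133), (2, 633), (1, 268), (2, 1185), (2, 242), (1, 1344), (1, 1234), (2, 1192), (1, 1079), (1, 1032), (1, 928), (2, 1827), (1, 1093), (2, 752), (2, 834), (1, 216), (1, 1270), (2, 868), (1, 1299), (2, 1940), (2, 838), (1, 1405), (2, 2260), (1, 1014),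 (2, 484), (2, 1212), (2, 710), (1, 1619), (1, 872), (1, 463), (2, 246), (1, 1156), (2, 795), (1, 1527), (2, 872), (1, 289), (2, 330), (1, 1132), (2, 816), (2, 770), (2, 2004), (2, 983), (2, 1018), (2, 938), (1, 1298), (2, 780), (2, 536), (1, 1318), (2, 2111), (2, 1044), (2, 1523), (2, 285), (1, 37), (2, 2187), (2, 336), (1, 197), (1, 1504), (2, 803), (1, 616), (1, 755), (1, 588), (1, 1358), (1, 852), (2, 1451), (1, 1501), (2, 1575), (1, 865), (2, 2230), (1, 921), (1, 612), (1, 451), (2, 46), (2, 628), (2, 75), (1, 177), (2, 685), (1, 1346), (1, 1172), (2, 162), (1, 694), (2, 483), (2, 1663), (2, 1379), (2, 1758), (1, 873), (2, 937), (1, 1241), (2, 1262), (2, 67), (1, 479), (1, 1684), (1, 1711), (2, 535), (2, 765), (2, 1341), (2, 283), (2, 2197), (1, 1515), (2, 960), (1, 469), (1, 1307), (1, 255), (2, 1974), (2, 1871), (1, 1611), (2, 1376), (1, 253),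 (1, 1278), (1, 1536), (2, 1594), (2, 1720), (2, 364), (1, 1647), (1, 230), (1, 316), (2, 1462), (2, 1867), (1, 1066), (2, 98), (2, 987), (1, 836), (2, 2131), (1, 1317), (1, 1113), (1, 1275), (1, 1121), (1, 51), (2, 1935), (2, 2279), (2, 1421), (2, 344), (2, 995), (2, 466), (1, 481), (2, 254), (2, 1375), (2, 2283), (2, 817), (1, 570), (2, 1054), (2, 1565), (2, 125), (1, 38), (2, 915), (2, 2193), (2, 1791), (1, 461), (2, 1592), (1, 487), (2, 1124), (1, 840), (2, 1760), (1, 40), (2, 1874), (1, 558), (2, 2037), (1, 1196), (2, 2083), (1, 179), (1, 1221), (1, 626), (2, 1736), (2, 1482), (1, 1552), (1, 972), (1, 1091), (1, 1173), (1, 1392), (2, 2299), (1, 335), (1, 1018), (2, 1528), (1, 862), (1, 1146), (2, 695), (2, 297), (2, 492), (1, 428), (1, 527), (2, 1284), (2, 374), (2, 879), (2, 1059), (1, 1632), (1, 682), (2, 626), (2, 434), (2, 318), (1, 639),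 (2, 347), (2, 2082), (1, 281), (2, 36), (1, 340), (1, 410), (2, 849), (2, 11), (1, 336), (2, 113), (2, 743), (2, 506), (2, 1739), (2, 1757), (2, 928), (1, 624), (2, 193), (2, 114), (1, 1643), (2, 1058), (2, 2303), (1, 1232), (1, 1140), (2, 1289), (2, 416), (2, 1741), (2, 1326), (2, 279), (1, 743), (2, 1419), (2, 886), (2, 1461), (1, 381), (2, 722), (2, 933), (2, 1477), (2, 490), (2, 1240), (1, 903), (1, 942), (1, 116), (1, 1180), (1, 110), (1, 1147), (2, 1197), (1, 1568), (1, 1634), (2, 1242), (2, 2225), (2, 655), (2, 1588), (2, 1016), (1, 169), (2, 1291), (2, 307), (1, 731), (1, 1754), (1, 937), (1, 1179), (2, 1717), (2, 2167), (1, 1417), (1, 215), (1, 606), (2, 1840), (2, 2236), (2, 1496), (2, 1536), (1, 530), (1, 665), (2, 2145), (1, 53), (2, 2238), (1, 1467), (2, 2125), (2, 939), (1, 1097), (1, 279), (1, 622), (1, 756), (2, 1509), (2, 888),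 (2, 1364), (1, 50), (1, 1414), (2, 1568), (1, 352), (2, 147), (2, 1551), (1, 1518), (1, 1596), (1, 1742), (2, 2138), (2, 1877), (2, 771), (1, 614), (2, 2271), (2, 859), (1, 142), (1, 1655), (1, 767), (2, 2295), (1, 1126), (2, 469), (1, 458), (2, 1176), (2, 1766), (1, 1696), (1, 800), (1, 199), (1, 387), (1, 1667), (1, 353), (1, 1350), (2, 1163), (1, 239), (2, 1573), (2, 764), (2, 1694), (2, 241), (1, 497), (2, 2258), (2, 546), (2, 1493), (2, 2209), (2, 1880), (1, 603), (1, 578), (2, 1322), (1, 61), (2, 1340), (1, 1663), (1, 1673), (2, 982), (2, 166), (1, 930), (1, 1262), (2, 2226), (2, 1495), (2, 612), (2, 2255), (2, 1724), (2, 1408), (2, 1690), (2, 2248), (1, 806), (2, 1113), (2, 1386), (2, 1632), (1, 133), (1, 1674), (1, 762), (1, 1389), (2, 327), (2, 611), (1, 1453), (2, 2171), (1, 1512), (1, 123), (1, 1382), (2, 1917), (1, 1148), (2, 2137),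 (1, 1703), (2, 665), (1, 464), (2, 250), (2, 2056), (1, 224), (2, 796), (2, 2175), (2, 1526), (1, 1335), (1, 406), (2, 2262), (2, 901), (2, 635), (1, 1423), (1, 305), (2, 701), (1, 917), (2, 255), (2, 1925), (1, 153), (2, 2130), (2, 433), (1, 839), (2, 921), (2, 1169), (2, 1382), (2, 1000), (2, 1198), (2, 2156), (1, 599), (2, 2300), (1, 465), (1, 292), (2, 1829), (2, 681), (2, 2264), (1, 1441), (1, 1325), (2, 984), (2, 128), (1, 1437), (2, 1426), (2, 181), (1, 575), (1, 459), (1, 190), (2, 1781), (2, 2241), (1, 784), (2, 831), (1, 720), (2, 648), (2, 721), (2, 876), (1, 1360), (2, 461), (2, 592), (2, 1634), (2, 499), (1, 63), (1, 683), (1, 1603), (1, 657), (2, 1886), (2, 312), (2, 651), (2, 173), (1, 121), (1, 898), (2, 844), (2, 1422), (1, 1551), (2, 1533), (2, 407), (2, 2289), (2, 1233), (2, 2143), (2, 1055), (2, 1399), (2, 2119), (2, 2217), (1,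 874), (2, 239), (1, 324), (2, 624), (1, 1638), (2, 2115), (2, 692), (2, 1349), (2, 187), (2, 501), (2, 2107), (1, 766), (2, 1129), (2, 1343), (1, 396), (1, 258), (2, 1995), (2, 391), (1, 923), (1, 585), (2, 348), (2, 917), (1, 1644), (2, 798), (2, 2218), (2, 518), (2, 1860), (1, 275), (1, 411), (2, 1471), (2, 1393), (1, 31), (2, 1286)]

def titsOrbit0 : Chain.Tree Pt :=
  .node (.node (.node (.node (.node (.node (.node (.node (.node (.node (.leaf ⟨113087276, 0, 0, 0⟩) (.leaf ⟨184051236, 14, 0, 385⟩)) (.node (.leaf ⟨262573131, 12, 0, 182⟩) (.leaf ⟨228941910, 16, 0, 625⟩))) (.node (.node (.leaf ⟨59223745, 10, 1, 87⟩) (.leaf ⟨206013403, 15, 1, 493⟩)) (.node (.leaf ⟨254523486, 13, 1, 277⟩) (.leaf ⟨193274666, 17, 1, 775⟩)))) (.node (.node (.node (.leaf ⟨43367757, 8, 1, 44⟩) (.leaf ⟨221725631, 14, 1, 436⟩)) (.node (.leaf ⟨230597279, 12, 1, 227⟩) (.leaf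 ⟨224240334, 16, 1, 696⟩))) (.node (.node (.leaf ⟨49850192, 11, 1, 132⟩) (.leaf ⟨254277878, 15, 1, 554⟩)) (.node (.leaf ⟨91413010, 13, 1, 331⟩) (.leaf ⟨233481661, 18, 0, 876⟩))))) (.node (.node (.node (.node (.leaf ⟨185008016, 6, 1, 22⟩) (.leaf ⟨149680842, 14, 1, 411⟩)) (.node (.leaf ⟨114801976, 12, 1, 204⟩) (.leaf ⟨250598247, 16, 1, 656⟩))) (.node (.node (.leaf ⟨72215107, 10, 0, 110⟩) (.leaf ⟨107882278, 15, 0, 525⟩)) (.node (.leaf ⟨91485975, 13, 1, 304⟩) (.leaf ⟨261801523, 17, 0, 823⟩)))) (.node (.node (.node (.leaf ⟨263186526, 9, 1, 65⟩) (.leaf ⟨171611150, 15, 0, 464⟩)) (.node (.leaf ⟨209342169, 13, 0, 253⟩) (.leaf ⟨100584706, 16, 1, 733⟩))) (.node (.node (.leaf ⟨95597801, 11, 1, 158⟩) (.leaf ⟨206496651, 15, 1, 589⟩)) (.node (.leaf ⟨233560605, 14, 1, 356⟩) (.leaf ⟨63069702, 18, 0, 931⟩)))))) (.node (.node (.node (.node (.node (.leaf ⟨154474390,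 4, 0, 10⟩) (.leaf ⟨238802506, 14, 0, 398⟩)) (.node (.leaf ⟨182411229, 12, 0, 192⟩) (.leaf ⟨123133245, 16, 1, 641⟩))) (.node (.node (.leaf ⟨234386111, 10, 0, 98⟩) (.leaf ⟨37579707, 15, 0, 510⟩)) (.node (.leaf ⟨249242999, 13, 1, 290⟩) (.leaf ⟨74046566, 17, 1, 800⟩)))) (.node (.node (.node (.leaf ⟨200713209, 9, 1, 54⟩) (.leaf ⟨262493565, 14, 0, 450⟩)) (.node (.leaf ⟨263953499, 13, 0, 240⟩) (.leaf ⟨33691477, 16, 1, 717⟩))) (.node (.node (.leaf ⟨58342752, 11, 1, 144⟩) (.leaf ⟨231865325, 15, 1, 567⟩)) (.node (.leaf ⟨223770052, 14, 1, 344⟩) (.leaf ⟨204996375, 18, 1, 900⟩))))) (.node (.node (.node (.node (.leaf ⟨266856644, 7, 1, 32⟩) (.leaf ⟨96405843, 14, 0, 425⟩)) (.node (.leaf ⟨249254290, 12, 1, 216⟩) (.leaf ⟨7212959, 16, 1, 676⟩))) (.node (.node (.leaf ⟨96316911, 11, 0, 121⟩) (.leaf ⟨207858039, 15, 0, 539⟩)) (.node (.leaf ⟨105862239, 13, 1, 318⟩) (.leaf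 ⟨182509792, 17, 0, 847⟩)))) (.node (.node (.node (.leaf ⟨87972489, 9, 1, 76⟩) (.leaf ⟨120158097, 15, 0, 478⟩)) (.node (.leaf ⟨246004599, 13, 0, 266⟩) (.leaf ⟨50584467, 17, 1, 757⟩))) (.node (.node (.leaf ⟨264467964, 12, 1, 170⟩) (.leaf ⟨159134614, 16, 1, 605⟩)) (.node (.leaf ⟨189084515, 14, 0, 371⟩) (.leaf ⟨241475069, 19, 0, 964⟩))))))) (.node (.node (.node (.node (.node (.node (.leaf ⟨263602995, 3, 1, 4⟩) (.leaf ⟨197952933, 14, 0, 391⟩)) (.node (.leaf ⟨64130349, 12, 1, 186⟩) (.leaf ⟨187932235, 16, 0, 635⟩))) (.node (.node (.leaf ⟨108292282, 10, 0, 93⟩) (.leaf ⟨65534419, 15, 1, 500⟩)) (.node (.leaf ⟨34274533, 13, 1, 284⟩) (.leaf ⟨253835821, 17, 0, 785⟩)))) (.node (.node (.node (.leaf ⟨209128939, 8, 0, 49⟩) (.leaf ⟨62687533, 14, 1, 442⟩)) (.node (.leaf ⟨125081697, 12, 0, 233⟩) (.leaf ⟨191216629, 16, 0, 707⟩))) (.node (.node (.leaf ⟨155094269, 11,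 1, 138⟩) (.leaf ⟨176911556, 15, 1, 560⟩)) (.node (.leaf ⟨231700055, 14, 1, 336⟩) (.leaf ⟨185711580, 18, 0, 885⟩))))) (.node (.node (.node (.node (.leaf ⟨108285775, 7, 0, 27⟩) (.leaf ⟨50753043, 14, 0, 420⟩)) (.node (.leaf ⟨229650165, 12, 1, 210⟩) (.leaf ⟨219794286, 16, 1, 666⟩))) (.node (.node (.leaf ⟨87139902, 10, 1, 115⟩) (.leaf ⟨14381017, 15, 1, 531⟩)) (.node (.leaf ⟨126418813, 13, 1, 311⟩) (.leaf ⟨234863588, 17, 0, 837⟩)))) (.node (.node (.node (.leaf ⟨101702971, 9, 0, 71⟩) (.leaf ⟨101374267, 15, 0, 471⟩)) (.node (.leaf ⟨157095077, 13, 1, 259⟩) (.leaf ⟨189660108, 17, 1, 748⟩))) (.node (.node (.leaf ⟨92208074, 11, 1, 164⟩) (.leaf ⟨98513801, 15, 0, 597⟩)) (.node (.leaf ⟨11955534, 14, 1, 362⟩) (.leaf ⟨40289575, 18, 1, 953⟩)))))) (.node (.node (.node (.node (.node (.leaf ⟨61894090, 5, 1, 16⟩) (.leaf ⟨245699513, 14, 0, 404⟩)) (.node (.leaf ⟨183229904,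 12, 1, 197⟩) (.leaf ⟨263011204, 16, 1, 648⟩))) (.node (.node (.leaf ⟨184508141, 10, 1, 103⟩) (.leaf ⟨20511167, 15, 0, 518⟩)) (.node (.leaf ⟨166377748, 13, 1, 297⟩) (.leaf ⟨250833606, 17, 1, 811⟩)))) (.node (.node (.node (.leaf ⟨37031473, 9, 1, 60⟩) (.leaf ⟨263519685, 15, 1, 457⟩)) (.node (.leaf ⟨234837597, 13, 1, 246⟩) (.leaf ⟨129941804, 16, 0, 727⟩))) (.node (.node (.leaf ⟨246445512, 11, 0, 152⟩) (.leaf ⟨234717233, 15, 1, 577⟩)) (.node (.leaf ⟨246878963, 14, 1, 349⟩) (.leaf ⟨200447733, 18, 1, 910⟩))))) (.node (.node (.node (.node (.leaf ⟨179738023, 8, 1, 38⟩) (.leaf ⟨208113438, 14, 0, 431⟩)) (.node (.leaf ⟨200109930, 12, 0, 222⟩) (.leaf ⟨111082429, 16, 1, 685⟩))) (.node (.node (.leaf ⟨88681121, 11, 1, 126⟩) (.leaf ⟨115304775, 15, 1, 547⟩)) (.node (.leaf ⟨260751030, 13, 1, 324⟩) (.leaf ⟨207036495, 17, 1, 861⟩)))) (.node (.node (.node (.leaf ⟨250627765,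 10, 1, 81⟩) (.leaf ⟨250539939, 15, 1, 485⟩)) (.node (.leaf ⟨169029837, 13, 0, 273⟩) (.leaf ⟨204295355, 17, 0, 765⟩))) (.node (.node (.leaf ⟨115406969, 12, 1, 176⟩) (.leaf ⟨225204345, 16, 0, 615⟩)) (.node (.leaf ⟨23604510, 14, 0, 377⟩) (.leaf ⟨73128362, 19, 1, 997⟩)))))))) (.node (.node (.node (.node (.node (.node (.node (.leaf ⟨65794729, 2, 0, 2⟩) (.leaf ⟨212456258, 14, 1, 388⟩)) (.node (.leaf ⟨78977004, 12, 0, 184⟩) (.leaf ⟨214636426, 16, 1, 630⟩))) (.node (.node (.leaf ⟨264878038, 10, 0, 90⟩) (.leaf ⟨194677306, 15, 1, 495⟩)) (.node (.leaf ⟨267826781, 13, 0, 280⟩) (.leaf ⟨196960193, 17, 1, 781⟩)))) (.node (.node (.node (.leaf ⟨254253947, 8, 1, 46⟩) (.leaf ⟨31006390, 14, 1, 439⟩)) (.node (.leaf ⟨40199470, 12, 1, 230⟩) (.leaf ⟨233983894, 16, 0, 701⟩))) (.node (.node (.leaf ⟨230230830, 11, 1, 136⟩) (.leaf ⟨199161087, 15, 1, 557⟩)) (.node (.leaf ⟨244564678,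 13, 1, 333⟩) (.leaf ⟨64594513, 18, 1, 880⟩))))) (.node (.node (.node (.node (.leaf ⟨221944860, 6, 1, 24⟩) (.leaf ⟨101023452, 14, 1, 417⟩)) (.node (.leaf ⟨208475960, 12, 1, 207⟩) (.leaf ⟨233260222, 16, 1, 661⟩))) (.node (.node (.leaf ⟨57547725, 10, 1, 113⟩) (.leaf ⟨107843353, 15, 1, 528⟩)) (.node (.leaf ⟨90726679, 13, 1, 307⟩) (.leaf ⟨129951407, 17, 0, 829⟩)))) (.node (.node (.node (.leaf ⟨258332543, 9, 1, 68⟩) (.leaf ⟨225773023, 15, 0, 468⟩)) (.node (.leaf ⟨48647193, 13, 1, 255⟩) (.leaf ⟨117174214, 16, 1, 737⟩))) (.node (.node (.leaf ⟨23572756, 11, 0, 162⟩) (.leaf ⟨115186408, 15, 1, 592⟩)) (.node (.leaf ⟨60669524, 14, 1, 359⟩) (.leaf ⟨117944913, 18, 0, 938⟩)))))) (.node (.node (.node (.node (.node (.leaf ⟨191695389, 5, 0, 14⟩) (.leaf ⟨114267643, 14, 1, 400⟩)) (.node (.leaf ⟨79926765, 12, 1, 194⟩) (.leaf ⟨240818399, 16, 0, 645⟩))) (.node (.node (.leaf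 ⟨256592687, 10, 1, 101⟩) (.leaf ⟨117960659, 15, 0, 514⟩)) (.node (.leaf ⟨140499444, 13, 1, 294⟩) (.leaf ⟨242054902, 17, 0, 805⟩)))) (.node (.node (.node (.leaf ⟨142326652, 9, 0, 58⟩) (.leaf ⟨266706143, 14, 0, 453⟩)) (.node (.leaf ⟨33497891, 13, 1, 243⟩) (.leaf ⟨254675698, 16, 0, 723⟩))) (.node (.node (.leaf ⟨183319109, 11, 1, 147⟩) (.leaf ⟨135407533, 15, 1, 572⟩)) (.node (.leaf ⟨212062774, 14, 1, 346⟩) (.leaf ⟨12344525, 18, 1, 905⟩))))) (.node (.node (.node (.node (.leaf ⟨231966200, 7, 0, 36⟩) (.leaf ⟨39466988, 14, 0, 427⟩)) (.node (.leaf ⟨129674941, 12, 1, 219⟩) (.leaf ⟨191867787, 16, 1, 680⟩))) (.node (.node (.leaf ⟨131885755, 11, 1, 123⟩) (.leaf ⟨259847561, 15, 0, 544⟩)) (.node (.leaf ⟨72904367, 13, 0, 321⟩) (.leaf ⟨183348505, 17, 0, 851⟩)))) (.node (.node (.node (.leaf ⟨250522990, 10, 1, 79⟩) (.leaf ⟨26732455, 15, 0, 483⟩)) (.node (.leaf ⟨75442649,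 13, 1, 269⟩) (.leaf ⟨195967145, 17, 0, 762⟩))) (.node (.node (.leaf ⟨227265740, 12, 0, 173⟩) (.leaf ⟨73386356, 16, 0, 611⟩)) (.node (.leaf ⟨20293769, 14, 1, 374⟩) (.leaf ⟨13750888, 19, 0, 980⟩))))))) (.node (.node (.node (.node (.node (.node (.leaf ⟨219608380, 4, 0, 7⟩) (.leaf ⟨81015150, 14, 0, 394⟩)) (.node (.leaf ⟨108752014, 12, 0, 189⟩) (.leaf ⟨33715627, 16, 1, 637⟩))) (.node (.node (.leaf ⟨167305153, 10, 1, 95⟩) (.leaf ⟨57635526, 15, 1, 503⟩)) (.node (.leaf ⟨142934310, 13, 1, 287⟩) (.leaf ⟨232048810, 17, 1, 791⟩)))) (.node (.node (.node (.leaf ⟨54029776, 8, 1, 51⟩) (.leaf ⟨230638358, 14, 0, 445⟩)) (.node (.leaf ⟨262302839, 12, 1, 235⟩) (.leaf ⟨129364188, 16, 1, 713⟩))) (.node (.node (.leaf ⟨66303547, 11, 0, 142⟩) (.leaf ⟨225892789, 15, 1, 564⟩)) (.node (.leaf ⟨147614095, 14, 0, 340⟩) (.leaf ⟨212530286, 18, 1, 892⟩))))) (.node (.node (.node (.node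 (.leaf ⟨118293534, 7, 0, 30⟩) (.leaf ⟨13077267, 14, 1, 422⟩)) (.node (.leaf ⟨2682427, 12, 0, 213⟩) (.leaf ⟨64704794, 16, 0, 670⟩))) (.node (.node (.leaf ⟨262328828, 11, 0, 118⟩) (.leaf ⟨253670887, 15, 1, 536⟩)) (.node (.leaf ⟨40769680, 13, 0, 316⟩) (.leaf ⟨255217510, 17, 0, 843⟩)))) (.node (.node (.node (.leaf ⟨134168165, 9, 0, 74⟩) (.leaf ⟨149898948, 15, 1, 474⟩)) (.node (.leaf ⟨260829622, 13, 1, 263⟩) (.leaf ⟨90382549, 17, 1, 752⟩))) (.node (.node (.leaf ⟨147807761, 11, 0, 168⟩) (.leaf ⟨72580422, 16, 1, 601⟩)) (.node (.leaf ⟨227403066, 14, 1, 366⟩) (.leaf ⟨136476638, 19, 0, 957⟩)))))) (.node (.node (.node (.node (.node (.leaf ⟨198120972, 6, 0, 19⟩) (.leaf ⟨261942548, 14, 1, 408⟩)) (.node (.leaf ⟨180684979, 12, 0, 201⟩) (.leaf ⟨43106406, 16, 0, 653⟩))) (.node (.node (.leaf ⟨98261130, 10, 0, 107⟩) (.leaf ⟨219932338, 15, 1, 522⟩)) (.node (.leaf ⟨68484477,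 13, 0, 302⟩) (.leaf ⟨133914927, 17, 1, 815⟩)))) (.node (.node (.node (.leaf ⟨48214879, 9, 1, 62⟩) (.leaf ⟨128942803, 15, 1, 460⟩)) (.node (.leaf ⟨119912674, 13, 0, 250⟩) (.leaf ⟨56784357, 16, 0, 731⟩))) (.node (.node (.leaf ⟨94327859, 11, 1, 154⟩) (.leaf ⟨123587034, 15, 0, 582⟩)) (.node (.leaf ⟨230248366, 14, 1, 353⟩) (.leaf ⟨20783462, 18, 1, 918⟩))))) (.node (.node (.node (.node (.leaf ⟨175172070, 8, 0, 41⟩) (.leaf ⟨2973100, 14, 1, 433⟩)) (.node (.leaf ⟨17700348, 12, 1, 224⟩) (.leaf ⟨135788573, 16, 1, 692⟩))) (.node (.node (.leaf ⟨182805173, 11, 0, 130⟩) (.leaf ⟨57737830, 15, 0, 551⟩)) (.node (.leaf ⟨129101695, 13, 0, 327⟩) (.leaf ⟨246181960, 18, 0, 873⟩)))) (.node (.node (.node (.leaf ⟨120461295, 10, 1, 84⟩) (.leaf ⟨268025511, 15, 1, 489⟩)) (.node (.leaf ⟨219498441, 13, 1, 275⟩) (.leaf ⟨119331305, 17, 1, 771⟩))) (.node (.node (.leaf ⟨201278368,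 12, 1, 178⟩) (.leaf ⟨153297957, 16, 1, 621⟩)) (.node (.leaf ⟨211614628, 14, 1, 381⟩) (.leaf ⟨53868990, 20, 1, 1005⟩))))))))) (.node (.node (.node (.node (.node (.node (.node (.node (.leaf ⟨216406375, 1, 1, 0⟩) (.leaf ⟨194410391, 14, 1, 386⟩)) (.node (.leaf ⟨251320308, 12, 0, 183⟩) (.leaf ⟨41583923, 16, 1, 626⟩))) (.node (.node (.leaf ⟨129058045, 10, 1, 88⟩) (.leaf ⟨62365695, 15, 1, 494⟩)) (.node (.leaf ⟨262856320, 13, 0, 279⟩) (.leaf ⟨257612663, 17, 0, 779⟩)))) (.node (.node (.node (.leaf ⟨261619601, 8, 1, 45⟩) (.leaf ⟨98038437, 14, 1, 437⟩)) (.node (.leaf ⟨122834424, 12, 0, 229⟩) (.leaf ⟨163242801, 16, 1, 699⟩))) (.node (.node (.leaf ⟨196983029, 11, 1, 134⟩) (.leaf ⟨242588179, 15, 0, 556⟩)) (.node (.leaf ⟨218095805, 13, 1, 332⟩) (.leaf ⟨201253545, 18, 0, 877⟩))))) (.node (.node (.node (.node (.leaf ⟨177764363, 6, 1, 23⟩) (.leaf ⟨230651420, 14,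 1, 416⟩)) (.node (.leaf ⟨102652906, 12, 1, 206⟩) (.leaf ⟨154163984, 16, 1, 658⟩))) (.node (.node (.leaf ⟨44586773, 10, 1, 111⟩) (.leaf ⟨28814451, 15, 1, 526⟩)) (.node (.leaf ⟨115262525, 13, 0, 306⟩) (.leaf ⟨243206618, 17, 1, 827⟩)))) (.node (.node (.node (.leaf ⟨131166653, 9, 1, 67⟩) (.leaf ⟨38985791, 15, 0, 466⟩)) (.node (.leaf ⟨257403861, 13, 1, 254⟩) (.leaf ⟨219501829, 16, 1, 735⟩))) (.node (.node (.leaf ⟨117436876, 11, 1, 160⟩) (.leaf ⟨161845402, 15, 1, 590⟩)) (.node (.leaf ⟨231240446, 14, 0, 358⟩) (.leaf ⟨212291047, 18, 1, 935⟩)))))) (.node (.node (.node (.node (.node (.leaf ⟨196141883, 5, 1, 11⟩) (.leaf ⟨115852478, 14, 1, 399⟩)) (.node (.leaf ⟨192513894, 12, 1, 193⟩) (.leaf ⟨200346232, 16, 0, 644⟩))) (.node (.node (.leaf ⟨232570794, 10, 1, 99⟩) (.leaf ⟨147416222, 15, 0, 511⟩)) (.node (.leaf ⟨191298502, 13, 1, 293⟩) (.leaf ⟨255798131, 17, 0,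 804⟩)))) (.node (.node (.node (.leaf ⟨199546127, 9, 0, 56⟩) (.leaf ⟨17715139, 14, 0, 452⟩)) (.node (.leaf ⟨82616449, 13, 1, 242⟩) (.leaf ⟨192761764, 16, 1, 720⟩))) (.node (.node (.leaf ⟨255677222, 11, 0, 146⟩) (.leaf ⟨79115891, 15, 0, 571⟩)) (.node (.leaf ⟨36413200, 14, 1, 345⟩) (.leaf ⟨211721951, 18, 0, 902⟩))))) (.node (.node (.node (.node (.leaf ⟨263824845, 7, 0, 34⟩) (.leaf ⟨175525415, 14, 0, 426⟩)) (.node (.leaf ⟨268295321, 12, 1, 218⟩) (.leaf ⟨61730288, 16, 1, 679⟩))) (.node (.node (.leaf ⟨10272871, 11, 1, 122⟩) (.leaf ⟨132101977, 15, 1, 542⟩)) (.node (.leaf ⟨259997133, 13, 1, 319⟩) (.leaf ⟨205121967, 17, 0, 850⟩)))) (.node (.node (.node (.leaf ⟨113747390, 9, 1, 77⟩) (.leaf ⟨265183598, 15, 0, 481⟩)) (.node (.leaf ⟨191741803, 13, 0, 267⟩) (.leaf ⟨234625571, 17, 0, 759⟩))) (.node (.node (.leaf ⟨162669971, 12, 1, 171⟩) (.leaf ⟨125997531, 16,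 1, 609⟩)) (.node (.leaf ⟨186048095, 14, 1, 372⟩) (.leaf ⟨195802801, 19, 1, 969⟩))))))) (.node (.node (.node (.node (.node (.node (.leaf ⟨127168371, 3, 1, 5⟩) (.leaf ⟨122000491, 14, 0, 392⟩)) (.node (.leaf ⟨53455615, 12, 1, 187⟩) (.leaf ⟨67236387, 16, 0, 636⟩))) (.node (.node (.leaf ⟨263296638, 10, 1, 94⟩) (.leaf ⟨212167614, 15, 0, 502⟩)) (.node (.leaf ⟨200383841, 13, 1, 285⟩) (.leaf ⟨77546986, 17, 1, 786⟩)))) (.node (.node (.node (.leaf ⟨258202639, 8, 1, 50⟩) (.leaf ⟨15676383, 14, 1, 443⟩)) (.node (.leaf ⟨250738143, 12, 1, 234⟩) (.leaf ⟨182435878, 16, 1, 708⟩))) (.node (.node (.leaf ⟨225918025, 11, 0, 140⟩) (.leaf ⟨229191527, 15, 0, 563⟩)) (.node (.leaf ⟨146538127, 14, 0, 338⟩) (.leaf ⟨262974967, 18, 1, 888⟩))))) (.node (.node (.node (.node (.leaf ⟨268100295, 7, 0, 29⟩) (.leaf ⟨15972281, 14, 1, 421⟩)) (.node (.leaf ⟨28576890, 12, 1, 211⟩) (.leaf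 ⟨66679266, 16, 1, 668⟩))) (.node (.node (.leaf ⟨129882233, 11, 1, 116⟩) (.leaf ⟨2120442, 15, 1, 534⟩)) (.node (.leaf ⟨163740268, 13, 1, 313⟩) (.leaf ⟨52408189, 17, 1, 840⟩)))) (.node (.node (.node (.leaf ⟨41066925, 9, 0, 73⟩) (.leaf ⟨33709052, 15, 1, 472⟩)) (.node (.leaf ⟨164174543, 13, 0, 261⟩) (.leaf ⟨58166495, 17, 1, 750⟩))) (.node (.node (.leaf ⟨140941964, 11, 0, 166⟩) (.leaf ⟨99739370, 16, 0, 600⟩)) (.node (.leaf ⟨64076283, 14, 1, 365⟩) (.leaf ⟨88710698, 18, 1, 955⟩)))))) (.node (.node (.node (.node (.node (.leaf ⟨33791316, 6, 0, 18⟩) (.leaf ⟨125380627, 14, 0, 407⟩)) (.node (.leaf ⟨96461655, 12, 1, 199⟩) (.leaf ⟨32691311, 16, 0, 652⟩))) (.node (.node (.leaf ⟨98891759, 10, 0, 105⟩) (.leaf ⟨262634237, 15, 0, 521⟩)) (.node (.leaf ⟨30028852, 13, 1, 300⟩) (.leaf ⟨135130037, 17, 1, 813⟩)))) (.node (.node (.node (.leaf ⟨253698964, 9, 1, 61⟩) (.leaf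 ⟨25360364, 15, 0, 459⟩)) (.node (.leaf ⟨193032051, 13, 1, 248⟩) (.leaf ⟨30626041, 16, 1, 728⟩))) (.node (.node (.leaf ⟨85319133, 11, 0, 153⟩) (.leaf ⟨248439838, 15, 0, 579⟩)) (.node (.leaf ⟨61613469, 14, 0, 351⟩) (.leaf ⟨47247927, 18, 1, 912⟩))))) (.node (.node (.node (.node (.leaf ⟨55770069, 8, 1, 39⟩) (.leaf ⟨225803539, 14, 0, 432⟩)) (.node (.leaf ⟨254313395, 12, 1, 223⟩) (.leaf ⟨262497325, 16, 0, 689⟩))) (.node (.node (.leaf ⟨166709029, 11, 0, 128⟩) (.leaf ⟨105374933, 15, 0, 549⟩)) (.node (.leaf ⟨43529392, 13, 1, 325⟩) (.leaf ⟨198252499, 17, 1, 864⟩)))) (.node (.node (.node (.leaf ⟨64609393, 10, 0, 83⟩) (.leaf ⟨66662895, 15, 1, 487⟩)) (.node (.leaf ⟨83321734, 13, 0, 274⟩) (.leaf ⟨262987712, 17, 1, 767⟩))) (.node (.node (.leaf ⟨38927944, 12, 1, 177⟩) (.leaf ⟨148554831, 16, 1, 619⟩)) (.node (.leaf ⟨60547202, 14, 0, 380⟩) (.leaf ⟨225673053, 19,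 1, 1001⟩)))))))) (.node (.node (.node (.node (.node (.node (.node (.leaf ⟨262609464, 3, 0, 3⟩) (.leaf ⟨263308955, 14, 1, 389⟩)) (.node (.leaf ⟨107577583, 12, 0, 185⟩) (.leaf ⟨256222575, 16, 1, 633⟩))) (.node (.node (.leaf ⟨189041393, 10, 0, 92⟩) (.leaf ⟨11532349, 15, 0, 498⟩)) (.node (.leaf ⟨211855943, 13, 1, 282⟩) (.leaf ⟨177032566, 17, 1, 783⟩)))) (.node (.node (.node (.leaf ⟨63765743, 8, 0, 48⟩) (.leaf ⟨199143155, 14, 1, 441⟩)) (.node (.leaf ⟨232300812, 12, 0, 232⟩) (.leaf ⟨203611048, 16, 1, 704⟩))) (.node (.node (.leaf ⟨255603885, 11, 1, 137⟩) (.leaf ⟨50155764, 15, 0, 559⟩)) (.node (.leaf ⟨191559763, 14, 0, 335⟩) (.leaf ⟨255502565, 18, 1, 882⟩))))) (.node (.node (.node (.node (.leaf ⟨234816635, 7, 1, 25⟩) (.leaf ⟨155807022, 14, 0, 419⟩)) (.node (.leaf ⟨255851064, 12, 1, 208⟩) (.leaf ⟨232263237, 16, 0, 663⟩))) (.node (.node (.leaf ⟨53741679,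 10, 1, 114⟩) (.leaf ⟨95103129, 15, 1, 529⟩)) (.node (.leaf ⟨199702149, 13, 1, 309⟩) (.leaf ⟨56450167, 17, 0, 831⟩)))) (.node (.node (.node (.leaf ⟨146382301, 9, 1, 69⟩) (.leaf ⟨23677589, 15, 0, 470⟩)) (.node (.leaf ⟨229033910, 13, 1, 258⟩) (.leaf ⟨262228955, 16, 1, 742⟩))) (.node (.node (.leaf ⟨198710910, 11, 1, 163⟩) (.leaf ⟨133970825, 15, 1, 593⟩)) (.node (.leaf ⟨4700994, 14, 0, 361⟩) (.leaf ⟨33554236, 18, 1, 939⟩)))))) (.node (.node (.node (.node (.node (.leaf ⟨259639004, 5, 0, 15⟩) (.leaf ⟨263829032, 14, 0, 402⟩)) (.node (.leaf ⟨248075338, 12, 0, 196⟩) (.leaf ⟨83555711, 16, 0, 647⟩))) (.node (.node (.leaf ⟨179254678, 10, 1, 102⟩) (.leaf ⟨178934499, 15, 0, 516⟩)) (.node (.leaf ⟨189679418, 13, 0, 296⟩) (.leaf ⟨214732987, 17, 0, 807⟩)))) (.node (.node (.node (.leaf ⟨163325752, 9, 0, 59⟩) (.leaf ⟨10482589, 15, 0, 456⟩)) (.node (.leaf ⟨255110219,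 13, 0, 245⟩) (.leaf ⟨78831356, 16, 0, 725⟩))) (.node (.node (.leaf ⟨262060632, 11, 0, 150⟩) (.leaf ⟨44914389, 15, 0, 576⟩)) (.node (.leaf ⟨256551894, 14, 1, 347⟩) (.leaf ⟨137879213, 18, 1, 908⟩))))) (.node (.node (.node (.node (.leaf ⟨103252391, 8, 1, 37⟩) (.leaf ⟨106786502, 14, 1, 428⟩)) (.node (.leaf ⟨166719156, 12, 1, 220⟩) (.leaf ⟨40525472, 16, 1, 683⟩))) (.node (.node (.leaf ⟨93107364, 11, 1, 124⟩) (.leaf ⟨258076024, 15, 1, 545⟩)) (.node (.leaf ⟨166627002, 13, 0, 323⟩) (.leaf ⟨8072150, 17, 1, 855⟩)))) (.node (.node (.node (.leaf ⟨192647925, 10, 1, 80⟩) (.leaf ⟨234401182, 15, 0, 484⟩)) (.node (.leaf ⟨197964241, 13, 0, 271⟩) (.leaf ⟨154012140, 17, 1, 763⟩))) (.node (.node (.leaf ⟨265911131, 12, 1, 174⟩) (.leaf ⟨145431994, 16, 0, 613⟩)) (.node (.leaf ⟨150909201, 14, 1, 375⟩) (.leaf ⟨175925748, 19, 1, 982⟩))))))) (.node (.node (.node (.node (.node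 (.node (.leaf ⟨262611185, 4, 1, 8⟩) (.leaf ⟨63240736, 14, 0, 396⟩)) (.node (.leaf ⟨104579988, 12, 0, 191⟩) (.leaf ⟨62240506, 16, 1, 638⟩))) (.node (.node (.leaf ⟨197268057, 10, 1, 96⟩) (.leaf ⟨233502783, 15, 1, 505⟩)) (.node (.leaf ⟨152159497, 13, 1, 289⟩) (.leaf ⟨260751102, 17, 1, 796⟩)))) (.node (.node (.node (.leaf ⟨46927656, 8, 0, 53⟩) (.leaf ⟨266976019, 14, 1, 447⟩)) (.node (.leaf ⟨479598, 12, 0, 237⟩) (.leaf ⟨232493880, 16, 0, 715⟩))) (.node (.node (.leaf ⟨32974561, 11, 0, 143⟩) (.leaf ⟨138700446, 15, 1, 565⟩)) (.node (.leaf ⟨72068575, 14, 1, 341⟩) (.leaf ⟨25541153, 18, 1, 895⟩))))) (.node (.node (.node (.node (.leaf ⟨117051366, 7, 1, 31⟩) (.leaf ⟨55910390, 14, 0, 424⟩)) (.node (.leaf ⟨16189144, 12, 1, 214⟩) (.leaf ⟨157900706, 16, 1, 675⟩))) (.node (.node (.leaf ⟨131595667, 11, 0, 120⟩) (.leaf ⟨117444522, 15, 1, 537⟩)) (.node (.leaf ⟨250878705,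 13, 0, 317⟩) (.leaf ⟨265200274, 17, 1, 844⟩)))) (.node (.node (.node (.leaf ⟨197302315, 9, 1, 75⟩) (.leaf ⟨90651793, 15, 1, 475⟩)) (.node (.leaf ⟨232470975, 13, 1, 264⟩) (.leaf ⟨200928246, 17, 0, 755⟩))) (.node (.node (.leaf ⟨206656855, 12, 1, 169⟩) (.leaf ⟨260521562, 16, 0, 603⟩)) (.node (.leaf ⟨262024557, 14, 1, 368⟩) (.leaf ⟨170897244, 19, 1, 959⟩)))))) (.node (.node (.node (.node (.node (.leaf ⟨5793429, 6, 1, 20⟩) (.leaf ⟨247820959, 14, 0, 410⟩)) (.node (.leaf ⟨171571156, 12, 1, 202⟩) (.leaf ⟨189093995, 16, 0, 655⟩))) (.node (.node (.leaf ⟨87585198, 10, 0, 109⟩) (.leaf ⟨53968372, 15, 1, 523⟩)) (.node (.leaf ⟨108571255, 13, 1, 303⟩) (.leaf ⟨254184419, 17, 0, 817⟩)))) (.node (.node (.node (.leaf ⟨111014505, 9, 0, 64⟩) (.leaf ⟨176353663, 15, 0, 463⟩)) (.node (.leaf ⟨33136396, 13, 0, 252⟩) (.leaf ⟨132761867, 16, 1, 732⟩))) (.node (.node (.leaf ⟨12582281,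 11, 1, 156⟩) (.leaf ⟨265383823, 15, 0, 584⟩)) (.node (.leaf ⟨166817883, 14, 1, 354⟩) (.leaf ⟨100504565, 18, 1, 924⟩))))) (.node (.node (.node (.node (.leaf ⟨189752600, 8, 1, 42⟩) (.leaf ⟨55452623, 14, 0, 435⟩)) (.node (.leaf ⟨129977865, 12, 0, 226⟩) (.leaf ⟨229342680, 16, 0, 694⟩))) (.node (.node (.leaf ⟨35894542, 11, 0, 131⟩) (.leaf ⟨267260661, 15, 0, 553⟩)) (.node (.leaf ⟨267900766, 13, 0, 329⟩) (.leaf ⟨104823870, 18, 0, 874⟩)))) (.node (.node (.node (.leaf ⟨204784890, 10, 1, 86⟩) (.leaf ⟨166093823, 15, 1, 491⟩)) (.node (.leaf ⟨116657917, 13, 1, 276⟩) (.leaf ⟨43234273, 17, 0, 773⟩))) (.node (.node (.leaf ⟨239519133, 12, 0, 180⟩) (.leaf ⟨224256676, 16, 0, 623⟩)) (.node (.leaf ⟨105534807, 14, 1, 383⟩) (.leaf ⟨174043903, 20, 1, 1011⟩)))))))))) (.node (.node (.node (.node (.node (.node (.node (.node (.node (.leaf ⟨231807713, 1, 0, 0⟩) (.leaf ⟨190619409,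 14, 1, 385⟩)) (.node (.leaf ⟨221186682, 12, 1, 182⟩) (.leaf ⟨52650851, 16, 1, 625⟩))) (.node (.node (.leaf ⟨99720441, 10, 0, 88⟩) (.leaf ⟨98905452, 15, 0, 494⟩)) (.node (.leaf ⟨161827723, 13, 1, 278⟩) (.leaf ⟨231198082, 17, 1, 776⟩)))) (.node (.node (.node (.leaf ⟨233826126, 8, 0, 45⟩) (.leaf ⟨164008242, 14, 0, 437⟩)) (.node (.leaf ⟨266206854, 12, 1, 228⟩) (.leaf ⟨258144997, 16, 0, 699⟩))) (.node (.node (.leaf ⟨254603126, 11, 0, 133⟩) (.leaf ⟨213805197, 15, 1, 555⟩)) (.node (.leaf ⟨190209461, 13, 0, 332⟩) (.leaf ⟨46117193, 18, 1, 876⟩))))) (.node (.node (.node (.node (.leaf ⟨142971785, 6, 0, 23⟩) (.leaf ⟨235764709, 14, 1, 412⟩)) (.node (.leaf ⟨119253470, 12, 0, 205⟩) (.leaf ⟨238715318, 16, 0, 657⟩))) (.node (.node (.leaf ⟨97713658, 10, 1, 110⟩) (.leaf ⟨191708057, 15, 1, 525⟩)) (.node (.leaf ⟨239714241, 13, 1, 305⟩) (.leaf ⟨139448140, 17, 1, 825⟩))))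 (.node (.node (.node (.leaf ⟨89551871, 9, 0, 66⟩) (.leaf ⟨125911631, 15, 1, 465⟩)) (.node (.leaf ⟨58386615, 13, 1, 253⟩) (.leaf ⟨120728798, 16, 0, 735⟩))) (.node (.node (.leaf ⟨54906111, 11, 0, 159⟩) (.leaf ⟨83510038, 15, 0, 590⟩)) (.node (.leaf ⟨73827212, 14, 1, 357⟩) (.leaf ⟨30284517, 18, 0, 935⟩)))))) (.node (.node (.node (.node (.node (.leaf ⟨16025001, 5, 0, 11⟩) (.leaf ⟨245065183, 14, 1, 398⟩)) (.node (.leaf ⟨237302351, 12, 1, 192⟩) (.leaf ⟨234838791, 16, 1, 643⟩))) (.node (.node (.leaf ⟨178319481, 10, 1, 98⟩) (.leaf ⟨148054558, 15, 1, 510⟩)) (.node (.leaf ⟨183707933, 13, 1, 291⟩) (.leaf ⟨161207286, 17, 1, 801⟩)))) (.node (.node (.node (.leaf ⟨49138732, 9, 1, 55⟩) (.leaf ⟨243523154, 14, 1, 451⟩)) (.node (.leaf ⟨256473430, 13, 0, 242⟩) (.leaf ⟨119009260, 16, 0, 720⟩))) (.node (.node (.leaf ⟨247583782, 11, 1, 145⟩) (.leaf ⟨158125958, 15, 1, 568⟩))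 (.node (.leaf ⟨25888068, 14, 0, 345⟩) (.leaf ⟨114024374, 18, 0, 901⟩))))) (.node (.node (.node (.node (.leaf ⟨17416455, 7, 1, 33⟩) (.leaf ⟨50186993, 14, 1, 425⟩)) (.node (.leaf ⟨59912015, 12, 0, 217⟩) (.leaf ⟨157148133, 16, 1, 677⟩))) (.node (.node (.leaf ⟨189480901, 11, 1, 121⟩) (.leaf ⟨81768719, 15, 1, 540⟩)) (.node (.leaf ⟨84541436, 13, 0, 319⟩) (.leaf ⟨244790011, 17, 1, 847⟩)))) (.node (.node (.node (.leaf ⟨131265228, 9, 0, 77⟩) (.leaf ⟨268304565, 15, 1, 479⟩)) (.node (.leaf ⟨207956477, 13, 1, 266⟩) (.leaf ⟨20407722, 17, 1, 758⟩))) (.node (.node (.leaf ⟨119463711, 12, 0, 171⟩) (.leaf ⟨77479659, 16, 0, 609⟩)) (.node (.leaf ⟨141106481, 14, 0, 372⟩) (.leaf ⟨78380087, 19, 1, 965⟩))))))) (.node (.node (.node (.node (.node (.node (.leaf ⟨64404311, 3, 0, 5⟩) (.leaf ⟨267900059, 14, 1, 391⟩)) (.node (.leaf ⟨36829260, 12, 0, 187⟩) (.leaf ⟨128923867, 16,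 1, 635⟩))) (.node (.node (.leaf ⟨261798760, 10, 1, 93⟩) (.leaf ⟨34172990, 15, 1, 501⟩)) (.node (.leaf ⟨235912855, 13, 0, 285⟩) (.leaf ⟨113002577, 17, 1, 785⟩)))) (.node (.node (.node (.leaf ⟨124580301, 8, 1, 49⟩) (.leaf ⟨170608180, 14, 0, 443⟩)) (.node (.leaf ⟨161989492, 12, 1, 233⟩) (.leaf ⟨63379292, 16, 0, 708⟩))) (.node (.node (.leaf ⟨143144127, 11, 1, 139⟩) (.leaf ⟨138167967, 15, 0, 561⟩)) (.node (.leaf ⟨13728273, 14, 1, 337⟩) (.leaf ⟨114683007, 18, 1, 886⟩))))) (.node (.node (.node (.node (.leaf ⟨230086219, 7, 1, 28⟩) (.leaf ⟨218940820, 14, 1, 420⟩)) (.node (.leaf ⟨78962259, 12, 0, 211⟩) (.leaf ⟨119877591, 16, 0, 668⟩))) (.node (.node (.leaf ⟨139475151, 11, 0, 116⟩) (.leaf ⟨28487857, 15, 0, 532⟩)) (.node (.leaf ⟨220122106, 13, 1, 312⟩) (.leaf ⟨80170710, 17, 1, 839⟩)))) (.node (.node (.node (.leaf ⟨262141934, 9, 1, 72⟩) (.leaf ⟨140773879, 15,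 0, 472⟩)) (.node (.leaf ⟨87514730, 13, 1, 260⟩) (.leaf ⟨232331814, 17, 1, 749⟩))) (.node (.node (.leaf ⟨210270055, 11, 1, 165⟩) (.leaf ⟨181177853, 15, 1, 597⟩)) (.node (.leaf ⟨17934199, 14, 0, 364⟩) (.leaf ⟨133773333, 18, 0, 954⟩)))))) (.node (.node (.node (.node (.node (.leaf ⟨117065727, 6, 1, 17⟩) (.leaf ⟨229040935, 14, 1, 406⟩)) (.node (.leaf ⟨127847913, 12, 0, 198⟩) (.leaf ⟨215710710, 16, 1, 650⟩))) (.node (.node (.leaf ⟨246246711, 10, 1, 104⟩) (.leaf ⟨89214308, 15, 1, 519⟩)) (.node (.leaf ⟨14904011, 13, 1, 299⟩) (.leaf ⟨120962289, 17, 0, 813⟩)))) (.node (.node (.node (.leaf ⟨120409494, 9, 0, 61⟩) (.leaf ⟨70129747, 15, 1, 458⟩)) (.node (.leaf ⟨219049098, 13, 1, 247⟩) (.leaf ⟨235462300, 16, 0, 728⟩))) (.node (.node (.leaf ⟨250205865, 11, 1, 152⟩) (.leaf ⟨176355173, 15, 1, 578⟩)) (.node (.leaf ⟨214479048, 14, 1, 350⟩) (.leaf ⟨34643138, 18, 0,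 911⟩))))) (.node (.node (.node (.node (.leaf ⟨125745773, 8, 0, 39⟩) (.leaf ⟨129610940, 14, 1, 431⟩)) (.node (.leaf ⟨194370470, 12, 0, 223⟩) (.leaf ⟨35861336, 16, 1, 687⟩))) (.node (.node (.leaf ⟨165534883, 11, 1, 127⟩) (.leaf ⟨15774109, 15, 1, 548⟩)) (.node (.leaf ⟨60818294, 13, 0, 325⟩) (.leaf ⟨226218222, 17, 0, 862⟩)))) (.node (.node (.node (.leaf ⟨164645709, 10, 1, 82⟩) (.leaf ⟨69121965, 15, 0, 487⟩)) (.node (.leaf ⟨84466069, 13, 1, 273⟩) (.leaf ⟨234044085, 17, 0, 767⟩))) (.node (.node (.leaf ⟨264559693, 12, 0, 177⟩) (.leaf ⟨54062974, 16, 1, 617⟩)) (.node (.leaf ⟨229856995, 14, 0, 379⟩) (.leaf ⟨12221941, 19, 1, 1000⟩)))))))) (.node (.node (.node (.node (.node (.node (.node (.leaf ⟨263171199, 2, 1, 2⟩) (.leaf ⟨172887989, 14, 0, 389⟩)) (.node (.leaf ⟨160253219, 12, 1, 184⟩) (.leaf ⟨267222797, 16, 1, 631⟩))) (.node (.node (.leaf ⟨55663580, 10, 1,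 91⟩) (.leaf ⟨29634103, 15, 1, 496⟩)) (.node (.leaf ⟨96443037, 13, 1, 280⟩) (.leaf ⟨96308789, 17, 1, 782⟩)))) (.node (.node (.node (.leaf ⟨188803783, 8, 1, 47⟩) (.leaf ⟨183450780, 14, 0, 440⟩)) (.node (.leaf ⟨56354303, 12, 1, 231⟩) (.leaf ⟨238249480, 16, 1, 701⟩))) (.node (.node (.leaf ⟨98541639, 11, 0, 137⟩) (.leaf ⟨91584942, 15, 1, 558⟩)) (.node (.leaf ⟨100119033, 13, 1, 334⟩) (.leaf ⟨7532389, 18, 0, 881⟩))))) (.node (.node (.node (.node (.leaf ⟨208651893, 7, 0, 25⟩) (.leaf ⟨176416765, 14, 1, 418⟩)) (.node (.leaf ⟨206370954, 12, 0, 208⟩) (.leaf ⟨193621370, 16, 1, 662⟩))) (.node (.node (.leaf ⟨66464368, 10, 0, 114⟩) (.leaf ⟨265871863, 15, 0, 529⟩)) (.node (.leaf ⟨169146612, 13, 0, 308⟩) (.leaf ⟨95789715, 17, 1, 830⟩)))) (.node (.node (.node (.leaf ⟨202814369, 9, 0, 69⟩) (.leaf ⟨96299769, 15, 1, 469⟩)) (.node (.leaf ⟨251078172, 13, 0, 257⟩) (.leaf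 ⟨88129465, 16, 1, 741⟩))) (.node (.node (.leaf ⟨19537427, 11, 1, 162⟩) (.leaf ⟨51815999, 15, 0, 593⟩)) (.node (.leaf ⟨56682029, 14, 0, 360⟩) (.leaf ⟨231243515, 18, 1, 938⟩)))))) (.node (.node (.node (.node (.node (.leaf ⟨45990625, 5, 1, 14⟩) (.leaf ⟨166686292, 14, 0, 401⟩)) (.node (.leaf ⟨267058771, 12, 1, 195⟩) (.leaf ⟨231512037, 16, 1, 645⟩))) (.node (.node (.leaf ⟨104175603, 10, 0, 102⟩) (.leaf ⟨182349671, 15, 1, 515⟩)) (.node (.leaf ⟨183727713, 13, 1, 295⟩) (.leaf ⟨249097618, 17, 1, 806⟩)))) (.node (.node (.node (.leaf ⟨183213001, 9, 1, 58⟩) (.leaf ⟨147488551, 14, 1, 453⟩)) (.node (.leaf ⟨151574162, 13, 1, 244⟩) (.leaf ⟨225553248, 16, 0, 724⟩))) (.node (.node (.leaf ⟨231047153, 11, 1, 148⟩) (.leaf ⟨98418327, 15, 1, 574⟩)) (.node (.leaf ⟨180583656, 14, 0, 347⟩) (.leaf ⟨253885415, 18, 0, 906⟩))))) (.node (.node (.node (.node (.leaf ⟨129858696,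 7, 1, 36⟩) (.leaf ⟨250152523, 14, 1, 427⟩)) (.node (.leaf ⟨195750303, 12, 0, 220⟩) (.leaf ⟨21759729, 16, 1, 681⟩))) (.node (.node (.leaf ⟨141739215, 11, 0, 124⟩) (.leaf ⟨70797270, 15, 1, 544⟩)) (.node (.leaf ⟨40689333, 13, 1, 322⟩) (.leaf ⟨231154043, 17, 0, 855⟩)))) (.node (.node (.node (.leaf ⟨186526869, 10, 0, 80⟩) (.leaf ⟨213853999, 15, 1, 483⟩)) (.node (.leaf ⟨72296856, 13, 1, 270⟩) (.leaf ⟨204208791, 17, 1, 762⟩))) (.node (.node (.leaf ⟨249297123, 12, 1, 173⟩) (.leaf ⟨144006540, 16, 1, 612⟩)) (.node (.leaf ⟨57509551, 14, 0, 375⟩) (.leaf ⟨117410671, 19, 0, 982⟩))))))) (.node (.node (.node (.node (.node (.node (.leaf ⟨42815165, 4, 1, 7⟩) (.leaf ⟨166065868, 14, 1, 395⟩)) (.node (.leaf ⟨99477465, 12, 1, 190⟩) (.leaf ⟨95892246, 16, 0, 638⟩))) (.node (.node (.leaf ⟨64118004, 10, 0, 96⟩) (.leaf ⟨186621642, 15, 1, 504⟩)) (.node (.leaf ⟨26926831, 13,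 1, 288⟩) (.leaf ⟨27507197, 17, 0, 793⟩)))) (.node (.node (.node (.leaf ⟨157776803, 8, 1, 52⟩) (.leaf ⟨55281625, 14, 1, 446⟩)) (.node (.leaf ⟨224649033, 12, 1, 236⟩) (.leaf ⟨129394799, 16, 1, 714⟩))) (.node (.node (.leaf ⟨168394015, 11, 1, 142⟩) (.leaf ⟨45837647, 15, 0, 565⟩)) (.node (.leaf ⟨201033459, 14, 1, 340⟩) (.leaf ⟨99826046, 18, 1, 894⟩))))) (.node (.node (.node (.node (.leaf ⟨120189775, 7, 1, 30⟩) (.leaf ⟨186332132, 14, 1, 423⟩)) (.node (.leaf ⟨266327285, 12, 1, 213⟩) (.leaf ⟨125300218, 16, 1, 671⟩))) (.node (.node (.leaf ⟨253127269, 11, 1, 119⟩) (.leaf ⟨190908841, 15, 0, 537⟩)) (.node (.leaf ⟨200230454, 13, 1, 316⟩) (.leaf ⟨133323835, 17, 1, 843⟩)))) (.node (.node (.node (.leaf ⟨30374785, 9, 1, 74⟩) (.leaf ⟨210284657, 15, 0, 475⟩)) (.node (.leaf ⟨156682279, 13, 0, 264⟩) (.leaf ⟨125443567, 17, 1, 753⟩))) (.node (.node (.leaf ⟨36814632, 11,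 1, 168⟩) (.leaf ⟨250190256, 16, 1, 602⟩)) (.node (.leaf ⟨146256849, 14, 1, 367⟩) (.leaf ⟨101381755, 19, 0, 959⟩)))))) (.node (.node (.node (.node (.node (.leaf ⟨10891751, 6, 1, 19⟩) (.leaf ⟨193979142, 14, 0, 409⟩)) (.node (.leaf ⟨198622773, 12, 1, 201⟩) (.leaf ⟨118199479, 16, 1, 654⟩))) (.node (.node (.leaf ⟨180483835, 10, 1, 108⟩) (.leaf ⟨200901916, 15, 0, 523⟩)) (.node (.leaf ⟨116777501, 13, 0, 303⟩) (.leaf ⟨258337462, 17, 0, 816⟩)))) (.node (.node (.node (.leaf ⟨50533885, 9, 1, 63⟩) (.leaf ⟨101123931, 15, 0, 462⟩)) (.node (.leaf ⟨216238651, 13, 1, 251⟩) (.leaf ⟨181381972, 16, 1, 731⟩))) (.node (.node (.leaf ⟨64077694, 11, 1, 155⟩) (.leaf ⟨44914136, 15, 1, 583⟩)) (.node (.leaf ⟨79672665, 14, 0, 354⟩) (.leaf ⟨139329383, 18, 0, 920⟩))))) (.node (.node (.node (.node (.leaf ⟨24094417, 8, 1, 41⟩) (.leaf ⟨40817377, 14, 0, 434⟩)) (.node (.leaf ⟨233332152,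 12, 1, 225⟩) (.leaf ⟨252433804, 16, 1, 693⟩))) (.node (.node (.leaf ⟨227863149, 11, 1, 130⟩) (.leaf ⟨149890075, 15, 1, 552⟩)) (.node (.leaf ⟨253454078, 13, 1, 328⟩) (.leaf ⟨201259066, 18, 1, 873⟩)))) (.node (.node (.node (.leaf ⟨126902831, 10, 0, 85⟩) (.leaf ⟨163731453, 15, 1, 490⟩)) (.node (.leaf ⟨159900077, 13, 0, 276⟩) (.leaf ⟨76950750, 17, 1, 772⟩))) (.node (.node (.leaf ⟨240098162, 12, 1, 179⟩) (.leaf ⟨42836694, 16, 1, 622⟩)) (.node (.leaf ⟨198090237, 14, 0, 382⟩) (.leaf ⟨181334013, 20, 1, 1008⟩))))))))) (.node (.node (.node (.node (.node (.node (.node (.node (.leaf ⟨250790655, 2, 1, 1⟩) (.leaf ⟨131571193, 14, 0, 387⟩)) (.node (.leaf ⟨113097405, 12, 1, 183⟩) (.leaf ⟨191273386, 16, 1, 628⟩))) (.node (.node (.leaf ⟨207025356, 10, 1, 89⟩) (.leaf ⟨201184595, 15, 0, 495⟩)) (.node (.leaf ⟨94344447, 13, 1, 279⟩) (.leaf ⟨3447789, 17, 0, 780⟩)))) (.node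 (.node (.node (.leaf ⟨30416037, 8, 0, 46⟩) (.leaf ⟨235608505, 14, 1, 438⟩)) (.node (.leaf ⟨62847639, 12, 1, 229⟩) (.leaf ⟨66864942, 16, 1, 700⟩))) (.node (.node (.leaf ⟨117145806, 11, 0, 135⟩) (.leaf ⟨137228632, 15, 1, 556⟩)) (.node (.leaf ⟨249031426, 13, 0, 333⟩) (.leaf ⟨91659799, 18, 0, 879⟩))))) (.node (.node (.node (.node (.leaf ⟨235929347, 6, 0, 24⟩) (.leaf ⟨179166219, 14, 0, 417⟩)) (.node (.leaf ⟨142367493, 12, 0, 207⟩) (.leaf ⟨225625807, 16, 1, 660⟩))) (.node (.node (.leaf ⟨259735974, 10, 0, 112⟩) (.leaf ⟨227446335, 15, 0, 527⟩)) (.node (.leaf ⟨98499469, 13, 1, 306⟩) (.leaf ⟨6273796, 17, 1, 828⟩)))) (.node (.node (.node (.leaf ⟨149306553, 9, 0, 68⟩) (.leaf ⟨20938324, 15, 1, 467⟩)) (.node (.leaf ⟨139737891, 13, 0, 255⟩) (.leaf ⟨58315610, 16, 1, 736⟩))) (.node (.node (.leaf ⟨143725013, 11, 0, 161⟩) (.leaf ⟨258006903, 15, 1, 591⟩)) (.node (.leaf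 ⟨226721322, 14, 1, 358⟩) (.leaf ⟨259944249, 18, 1, 936⟩)))))) (.node (.node (.node (.node (.node (.leaf ⟨14669284, 5, 1, 12⟩) (.leaf ⟨64895953, 14, 0, 400⟩)) (.node (.leaf ⟨125418461, 12, 0, 194⟩) (.leaf ⟨158441915, 16, 1, 644⟩))) (.node (.node (.leaf ⟨87403346, 10, 0, 100⟩) (.leaf ⟨93750446, 15, 1, 512⟩)) (.node (.leaf ⟨62498843, 13, 0, 294⟩) (.leaf ⟨264084468, 17, 1, 804⟩)))) (.node (.node (.node (.leaf ⟨149378751, 9, 1, 57⟩) (.leaf ⟨60352207, 14, 1, 452⟩)) (.node (.leaf ⟨140174818, 13, 0, 243⟩) (.leaf ⟨64585690, 16, 1, 721⟩))) (.node (.node (.leaf ⟨90651824, 11, 1, 146⟩) (.leaf ⟨159436123, 15, 1, 571⟩)) (.node (.leaf ⟨167214427, 14, 0, 346⟩) (.leaf ⟨193282483, 18, 1, 903⟩))))) (.node (.node (.node (.node (.leaf ⟨236253958, 7, 1, 35⟩) (.leaf ⟨19457323, 14, 1, 426⟩)) (.node (.leaf ⟨177925379, 12, 0, 219⟩) (.leaf ⟨120990808, 16, 0, 680⟩))) (.node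 (.node (.leaf ⟨259125740, 11, 0, 123⟩) (.leaf ⟨89152652, 15, 0, 543⟩)) (.node (.leaf ⟨152921103, 13, 1, 320⟩) (.leaf ⟨50198651, 17, 1, 850⟩)))) (.node (.node (.node (.leaf ⟨204372525, 9, 1, 78⟩) (.leaf ⟨85712758, 15, 1, 482⟩)) (.node (.leaf ⟨118648173, 13, 1, 267⟩) (.leaf ⟨149522068, 17, 1, 759⟩))) (.node (.node (.leaf ⟨265151137, 12, 1, 172⟩) (.leaf ⟨33397311, 16, 1, 610⟩)) (.node (.leaf ⟨35564346, 14, 0, 373⟩) (.leaf ⟨19655935, 19, 0, 973⟩))))))) (.node (.node (.node (.node (.node (.node (.leaf ⟨9172065, 4, 1, 6⟩) (.leaf ⟨154542262, 14, 1, 392⟩)) (.node (.leaf ⟨83167076, 12, 1, 188⟩) (.leaf ⟨215444605, 16, 1, 636⟩))) (.node (.node (.leaf ⟨181362348, 10, 0, 95⟩) (.leaf ⟨206421080, 15, 1, 502⟩)) (.node (.leaf ⟨21336151, 13, 0, 287⟩) (.leaf ⟨62510631, 17, 0, 789⟩)))) (.node (.node (.node (.leaf ⟨265543791, 8, 0, 51⟩) (.leaf ⟨163359206, 14, 1, 444⟩))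 (.node (.leaf ⟨147581582, 12, 0, 235⟩) (.leaf ⟨196717806, 16, 1, 709⟩))) (.node (.node (.leaf ⟨90230197, 11, 1, 141⟩) (.leaf ⟨28438005, 15, 1, 563⟩)) (.node (.leaf ⟨231775464, 14, 1, 339⟩) (.leaf ⟨115943087, 18, 1, 889⟩))))) (.node (.node (.node (.node (.leaf ⟨69442943, 7, 1, 29⟩) (.leaf ⟨32670668, 14, 0, 422⟩)) (.node (.leaf ⟨120766174, 12, 1, 212⟩) (.leaf ⟨165665886, 16, 1, 669⟩))) (.node (.node (.leaf ⟨58361878, 11, 1, 117⟩) (.leaf ⟨200680187, 15, 0, 535⟩)) (.node (.leaf ⟨101826379, 13, 1, 315⟩) (.leaf ⟨246043567, 17, 0, 842⟩)))) (.node (.node (.node (.leaf ⟨231023430, 9, 1, 73⟩) (.leaf ⟨219990596, 15, 0, 473⟩)) (.node (.leaf ⟨13717093, 13, 0, 263⟩) (.leaf ⟨21970204, 17, 1, 751⟩))) (.node (.node (.leaf ⟨12737317, 11, 1, 167⟩) (.leaf ⟨229892234, 16, 1, 600⟩)) (.node (.leaf ⟨111335280, 14, 0, 366⟩) (.leaf ⟨3378583, 19, 1, 956⟩)))))) (.node (.node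 (.node (.node (.node (.leaf ⟨57286447, 6, 1, 18⟩) (.leaf ⟨20131005, 14, 1, 407⟩)) (.node (.leaf ⟨127621018, 12, 0, 200⟩) (.leaf ⟨56891394, 16, 1, 652⟩))) (.node (.node (.leaf ⟨25040625, 10, 1, 105⟩) (.leaf ⟨79151501, 15, 1, 521⟩)) (.node (.leaf ⟨16638101, 13, 0, 301⟩) (.leaf ⟨247204330, 17, 0, 814⟩)))) (.node (.node (.node (.leaf ⟨238861277, 9, 0, 62⟩) (.leaf ⟨78637179, 15, 1, 459⟩)) (.node (.leaf ⟨258280834, 13, 1, 249⟩) (.leaf ⟨185653201, 16, 1, 730⟩))) (.node (.node (.leaf ⟨4928357, 11, 1, 153⟩) (.leaf ⟨180645000, 15, 1, 581⟩)) (.node (.leaf ⟨101699222, 14, 1, 352⟩) (.leaf ⟨130015803, 18, 1, 914⟩))))) (.node (.node (.node (.node (.leaf ⟨83872535, 8, 1, 40⟩) (.leaf ⟨201045851, 14, 1, 432⟩)) (.node (.leaf ⟨136018639, 12, 0, 224⟩) (.leaf ⟨266638918, 16, 1, 691⟩))) (.node (.node (.leaf ⟨8284453, 11, 1, 129⟩) (.leaf ⟨68055848, 15, 1, 549⟩)) (.node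 (.leaf ⟨225267034, 13, 1, 326⟩) (.leaf ⟨184413119, 17, 1, 869⟩)))) (.node (.node (.node (.leaf ⟨263427108, 10, 1, 83⟩) (.leaf ⟨108521995, 15, 1, 488⟩)) (.node (.leaf ⟨105888229, 13, 1, 274⟩) (.leaf ⟨177944382, 17, 1, 770⟩))) (.node (.node (.leaf ⟨252047072, 12, 0, 178⟩) (.leaf ⟨238798255, 16, 0, 620⟩)) (.node (.leaf ⟨35889302, 14, 1, 380⟩) (.leaf ⟨238196697, 20, 1, 1004⟩)))))))) (.node (.node (.node (.node (.node (.node (.node (.leaf ⟨139262640, 3, 1, 3⟩) (.leaf ⟨151444269, 14, 0, 390⟩)) (.node (.leaf ⟨42538347, 12, 1, 185⟩) (.leaf ⟨263090145, 16, 0, 634⟩))) (.node (.node (.leaf ⟨89109637, 10, 1, 92⟩) (.leaf ⟨259615665, 15, 1, 499⟩)) (.node (.leaf ⟨80873358, 13, 1, 283⟩) (.leaf ⟨226196925, 17, 0, 784⟩)))) (.node (.node (.node (.leaf ⟨135508446, 8, 1, 48⟩) (.leaf ⟨252309343, 14, 0, 442⟩)) (.node (.leaf ⟨83374938, 12, 1, 232⟩) (.leaf ⟨159989599, 16,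 1, 705⟩))) (.node (.node (.leaf ⟨112942995, 11, 0, 138⟩) (.leaf ⟨81243619, 15, 1, 559⟩)) (.node (.leaf ⟨252062915, 14, 1, 335⟩) (.leaf ⟨20812530, 18, 1, 884⟩))))) (.node (.node (.node (.node (.leaf ⟨144670029, 7, 1, 26⟩) (.leaf ⟨121618379, 14, 1, 419⟩)) (.node (.leaf ⟨91998633, 12, 0, 209⟩) (.leaf ⟨97857715, 16, 1, 664⟩))) (.node (.node (.leaf ⟨167002466, 10, 0, 115⟩) (.leaf ⟨258867837, 15, 0, 530⟩)) (.node (.leaf ⟨56003453, 13, 0, 310⟩) (.leaf ⟨252071719, 17, 1, 831⟩)))) (.node (.node (.node (.leaf ⟨136821036, 9, 1, 70⟩) (.leaf ⟨156803350, 15, 1, 470⟩)) (.node (.leaf ⟨218120029, 13, 0, 259⟩) (.leaf ⟨51793349, 17, 0, 748⟩))) (.node (.node (.leaf ⟨135581423, 11, 0, 164⟩) (.leaf ⟨194376934, 15, 0, 595⟩)) (.node (.leaf ⟨226932206, 14, 1, 361⟩) (.leaf ⟨106573709, 18, 1, 942⟩)))))) (.node (.node (.node (.node (.node (.leaf ⟨150697161, 5, 1, 15⟩) (.leaf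 ⟨79340499, 14, 1, 402⟩)) (.node (.leaf ⟨119438123, 12, 1, 196⟩) (.leaf ⟨234829492, 16, 0, 648⟩))) (.node (.node (.leaf ⟨209452012, 10, 0, 103⟩) (.leaf ⟨118322081, 15, 1, 517⟩)) (.node (.leaf ⟨216890554, 13, 1, 296⟩) (.leaf ⟨217828972, 17, 1, 807⟩)))) (.node (.node (.node (.leaf ⟨130019734, 9, 1, 59⟩) (.leaf ⟨109034936, 15, 0, 457⟩)) (.node (.leaf ⟨122775739, 13, 0, 246⟩) (.leaf ⟨90429144, 16, 1, 725⟩))) (.node (.node (.leaf ⟨193616246, 11, 1, 151⟩) (.leaf ⟨81351727, 15, 1, 576⟩)) (.node (.leaf ⟨193592761, 14, 1, 348⟩) (.leaf ⟨71170341, 18, 1, 909⟩))))) (.node (.node (.node (.node (.leaf ⟨108542263, 8, 0, 38⟩) (.leaf ⟨195854773, 14, 0, 429⟩)) (.node (.leaf ⟨82574901, 12, 0, 221⟩) (.leaf ⟨234864126, 16, 1, 684⟩))) (.node (.node (.leaf ⟨260497018, 11, 1, 125⟩) (.leaf ⟨266413045, 15, 0, 546⟩)) (.node (.leaf ⟨29258405, 13, 0, 324⟩) (.leaf ⟨241592517,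 17, 1, 859⟩)))) (.node (.node (.node (.leaf ⟨146705388, 10, 0, 81⟩) (.leaf ⟨124634456, 15, 1, 484⟩)) (.node (.leaf ⟨114030533, 13, 1, 272⟩) (.leaf ⟨140345550, 17, 0, 764⟩))) (.node (.node (.leaf ⟨119632074, 12, 0, 175⟩) (.leaf ⟨258063498, 16, 1, 614⟩)) (.node (.leaf ⟨160643679, 14, 1, 376⟩) (.leaf ⟨256289526, 19, 1, 991⟩))))))) (.node (.node (.node (.node (.node (.node (.leaf ⟨177989722, 4, 1, 9⟩) (.leaf ⟨224180735, 14, 1, 397⟩)) (.node (.leaf ⟨2404189, 12, 1, 191⟩) (.leaf ⟨62265075, 16, 0, 640⟩))) (.node (.node (.leaf ⟨179756519, 10, 1, 97⟩) (.leaf ⟨180209316, 15, 1, 509⟩)) (.node (.leaf ⟨107224872, 13, 0, 290⟩) (.leaf ⟨145749996, 17, 1, 797⟩)))) (.node (.node (.node (.leaf ⟨23466662, 9, 0, 54⟩) (.leaf ⟨131530746, 14, 0, 448⟩)) (.node (.leaf ⟨184933267, 13, 1, 238⟩) (.leaf ⟨105762543, 16, 1, 716⟩))) (.node (.node (.leaf ⟨75213677, 11, 1, 143⟩)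 (.leaf ⟨81506071, 15, 1, 566⟩)) (.node (.leaf ⟨106273714, 14, 1, 343⟩) (.leaf ⟨193678099, 18, 1, 897⟩))))) (.node (.node (.node (.node (.leaf ⟨256604624, 7, 0, 32⟩) (.leaf ⟨91882943, 14, 1, 424⟩)) (.node (.leaf ⟨189562419, 12, 1, 215⟩) (.leaf ⟨180793329, 16, 0, 676⟩))) (.node (.node (.leaf ⟨53034990, 11, 1, 120⟩) (.leaf ⟨137360790, 15, 1, 538⟩)) (.node (.leaf ⟨139687537, 13, 1, 317⟩) (.leaf ⟨131980335, 17, 1, 846⟩)))) (.node (.node (.node (.leaf ⟨228830617, 9, 0, 76⟩) (.leaf ⟨266966340, 15, 1, 477⟩)) (.node (.leaf ⟨241593623, 13, 1, 265⟩) (.leaf ⟨56970686, 17, 1, 756⟩))) (.node (.node (.leaf ⟨196980862, 12, 0, 170⟩) (.leaf ⟨62113864, 16, 1, 604⟩)) (.node (.leaf ⟨114669886, 14, 1, 370⟩) (.leaf ⟨27315693, 19, 0, 961⟩)))))) (.node (.node (.node (.node (.node (.leaf ⟨155553381, 6, 0, 21⟩) (.leaf ⟨55827757, 14, 1, 410⟩)) (.node (.leaf ⟨217659763, 12,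 1, 203⟩) (.leaf ⟨222667699, 16, 1, 655⟩))) (.node (.node (.leaf ⟨70198226, 10, 1, 109⟩) (.leaf ⟨265412594, 15, 1, 524⟩)) (.node (.leaf ⟨104868759, 13, 0, 304⟩) (.leaf ⟨189759366, 17, 1, 820⟩)))) (.node (.node (.node (.leaf ⟨80200643, 9, 1, 64⟩) (.leaf ⟨50636386, 15, 1, 463⟩)) (.node (.leaf ⟨32953334, 13, 1, 252⟩) (.leaf ⟨137305653, 16, 0, 733⟩))) (.node (.node (.leaf ⟨233539242, 11, 1, 157⟩) (.leaf ⟨146797523, 15, 1, 588⟩)) (.node (.leaf ⟨115937714, 14, 1, 355⟩) (.leaf ⟨168127279, 18, 0, 929⟩))))) (.node (.node (.node (.node (.leaf ⟨164498613, 8, 0, 43⟩) (.leaf ⟨71012935, 14, 1, 435⟩)) (.node (.leaf ⟨150407123, 12, 1, 226⟩) (.leaf ⟨103528376, 16, 1, 695⟩))) (.node (.node (.leaf ⟨222440795, 11, 1, 131⟩) (.leaf ⟨130312209, 15, 1, 553⟩)) (.node (.leaf ⟨63631447, 13, 0, 330⟩) (.leaf ⟨100310492, 18, 1, 874⟩)))) (.node (.node (.node (.leaf ⟨246722291,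 10, 0, 87⟩) (.leaf ⟨257840082, 15, 0, 493⟩)) (.node (.leaf ⟨46061595, 13, 0, 277⟩) (.leaf ⟨159837283, 17, 0, 774⟩))) (.node (.node (.leaf ⟨182471875, 12, 1, 181⟩) (.leaf ⟨255343773, 16, 1, 624⟩)) (.node (.leaf ⟨95528597, 14, 1, 384⟩) (.leaf ⟨263479113, 20, 0, 1016⟩))))))))))

def titsOrbit1 : Chain.Tree Pt :=
  .node (.node (.node (.node (.node (.node (.node (.node (.node (.node (.leaf ⟨124444068, 0, 0, 0⟩) (.leaf ⟨101641640, 15, 1, 433⟩)) (.leaf ⟨51612623, 12, 1, 196⟩)) (.node (.leaf ⟨55500607, 10, 0, 92⟩) (.leaf ⟨229633274, 14, 0, 301⟩))) (.node (.node (.node (.leaf ⟨184117079, 8, 0, 43⟩) (.leaf ⟨64990801, 16, 1, 520⟩)) (.leaf ⟨229541400, 13, 1, 248⟩)) (.node (.leaf ⟨161111019, 11, 1, 142⟩) (.leaf ⟨133868947, 15, 1, 364⟩)))) (.node (.node (.node (.node (.leaf ⟨30834662, 6, 1, 21⟩) (.leaf ⟨87266042, 16, 0, 479⟩)) (.leaf ⟨104854230, 13, 0, 222⟩))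 (.node (.leaf ⟨145694101, 10, 1, 116⟩) (.leaf ⟨231391049, 14, 1, 329⟩))) (.node (.node (.node (.leaf ⟨158661823, 9, 0, 67⟩) (.leaf ⟨131503220, 17, 0, 560⟩)) (.leaf ⟨169422810, 13, 1, 278⟩)) (.node (.leaf ⟨264780703, 12, 0, 169⟩) (.leaf ⟨136035284, 15, 0, 396⟩))))) (.node (.node (.node (.node (.node (.leaf ⟨81717261, 4, 0, 10⟩) (.leaf ⟨243201782, 16, 1, 454⟩)) (.leaf ⟨192280867, 12, 1, 207⟩)) (.node (.leaf ⟨104443244, 10, 1, 103⟩) (.leaf ⟨62647571, 14, 1, 316⟩))) (.node (.node (.node (.leaf ⟨264617982, 8, 0, 55⟩) (.leaf ⟨95440857, 17, 1, 540⟩)) (.leaf ⟨31900713, 13, 1, 263⟩)) (.node (.leaf ⟨63138681, 11, 1, 155⟩) (.leaf ⟨258275419, 15, 1, 381⟩)))) (.node (.node (.node (.node (.leaf ⟨212778477, 7, 0, 32⟩) (.leaf ⟨184402932, 16, 1, 502⟩)) (.leaf ⟨226226319, 13, 1, 234⟩)) (.node (.leaf ⟨265031574, 11, 1, 129⟩) (.leaf ⟨47429614, 14, 1, 347⟩))) (.node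 (.node (.node (.leaf ⟨233402094, 9, 1, 79⟩) (.leaf ⟨82443312, 18, 0, 589⟩)) (.leaf ⟨233273755, 14, 0, 289⟩)) (.node (.leaf ⟨167201267, 12, 1, 182⟩) (.leaf ⟨210262536, 15, 1, 419⟩)))))) (.node (.node (.node (.node (.node (.node (.leaf ⟨28965794, 3, 1, 4⟩) (.leaf ⟨175694726, 15, 0, 444⟩)) (.leaf ⟨153642869, 12, 1, 201⟩)) (.node (.leaf ⟨194381495, 10, 0, 97⟩) (.leaf ⟨133607661, 14, 0, 308⟩))) (.node (.node (.node (.leaf ⟨257232435, 8, 1, 49⟩) (.leaf ⟨266528934, 17, 0, 529⟩)) (.leaf ⟨15156202, 13, 0, 256⟩)) (.node (.leaf ⟨18956083, 11, 1, 148⟩) (.leaf ⟨128563982, 15, 1, 370⟩)))) (.node (.node (.node (.node (.leaf ⟨259602657, 7, 1, 26⟩) (.leaf ⟨99086929, 16, 0, 489⟩)) (.leaf ⟨114224569, 13, 0, 228⟩)) (.node (.leaf ⟨242740391, 11, 1, 121⟩) (.leaf ⟨243520373, 14, 0, 338⟩))) (.node (.node (.node (.leaf ⟨264692410, 9, 0, 74⟩) (.leaf ⟨124549626, 17, 1, 574⟩))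 (.leaf ⟨191908755, 14, 1, 283⟩)) (.node (.leaf ⟨48495508, 12, 0, 176⟩) (.leaf ⟨217266559, 15, 0, 413⟩))))) (.node (.node (.node (.node (.node (.leaf ⟨15245113, 5, 1, 15⟩) (.leaf ⟨190642357, 16, 1, 465⟩)) (.leaf ⟨127633887, 12, 0, 215⟩)) (.node (.leaf ⟨6814942, 10, 0, 110⟩) (.leaf ⟨24018878, 14, 0, 322⟩))) (.node (.node (.node (.leaf ⟨236224094, 9, 0, 62⟩) (.leaf ⟨59522010, 17, 1, 546⟩)) (.leaf ⟨267468147, 13, 1, 270⟩)) (.node (.leaf ⟨210619952, 11, 0, 163⟩) (.leaf ⟨85970155, 15, 1, 389⟩)))) (.node (.node (.node (.node (.leaf ⟨46879634, 7, 0, 38⟩) (.leaf ⟨155108605, 16, 1, 512⟩)) (.leaf ⟨197155254, 13, 1, 242⟩)) (.node (.leaf ⟨254207034, 11, 1, 136⟩) (.leaf ⟨213969372, 14, 1, 352⟩))) (.node (.node (.node (.leaf ⟨184474284, 10, 0, 85⟩) (.leaf ⟨234552574, 18, 1, 605⟩)) (.leaf ⟨43668211, 14, 1, 294⟩)) (.node (.leaf ⟨234249672, 12, 1, 189⟩) (.leaf ⟨239952575,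 15, 0, 425⟩))))))) (.node (.node (.node (.node (.node (.node (.node (.leaf ⟨137851699, 2, 0, 2⟩) (.leaf ⟨82824503, 15, 1, 438⟩)) (.leaf ⟨128013607, 12, 1, 198⟩)) (.node (.leaf ⟨36215470, 10, 1, 94⟩) (.leaf ⟨60611537, 14, 1, 304⟩))) (.node (.node (.node (.leaf ⟨133466245, 8, 0, 47⟩) (.leaf ⟨63649707, 17, 1, 524⟩)) (.leaf ⟨168239268, 13, 1, 253⟩)) (.node (.leaf ⟨233335573, 11, 0, 145⟩) (.leaf ⟨233294457, 15, 0, 367⟩)))) (.node (.node (.node (.node (.leaf ⟨200927719, 6, 1, 24⟩) (.leaf ⟨204689398, 16, 1, 483⟩)) (.leaf ⟨226777887, 13, 0, 225⟩)) (.node (.leaf ⟨267480798, 11, 0, 119⟩) (.leaf ⟨106218143, 14, 1, 334⟩))) (.node (.node (.node (.leaf ⟨223199222, 9, 1, 70⟩) (.leaf ⟨234023975, 17, 1, 568⟩)) (.leaf ⟨209475798, 13, 1, 281⟩)) (.node (.leaf ⟨221381311, 12, 1, 172⟩) (.leaf ⟨261338293, 15, 1, 403⟩))))) (.node (.node (.node (.node (.node (.leaf ⟨129447858,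 5, 0, 13⟩) (.leaf ⟨47098132, 16, 0, 460⟩)) (.leaf ⟨82229486, 12, 0, 212⟩)) (.node (.leaf ⟨227787186, 10, 0, 107⟩) (.leaf ⟨268038564, 14, 1, 319⟩))) (.node (.node (.node (.leaf ⟨15701071, 9, 0, 58⟩) (.leaf ⟨196986561, 17, 0, 543⟩)) (.leaf ⟨240816615, 13, 1, 266⟩)) (.node (.leaf ⟨186068422, 11, 1, 159⟩) (.leaf ⟨181760623, 15, 1, 386⟩)))) (.node (.node (.node (.node (.leaf ⟨264945621, 7, 1, 34⟩) (.leaf ⟨98458907, 16, 1, 508⟩)) (.leaf ⟨199166371, 13, 1, 238⟩)) (.node (.leaf ⟨219180223, 11, 1, 133⟩) (.leaf ⟨237600754, 14, 1, 349⟩))) (.node (.node (.node (.leaf ⟨257495000, 9, 0, 82⟩) (.leaf ⟨241127454, 18, 1, 594⟩)) (.leaf ⟨12564894, 14, 1, 292⟩)) (.node (.leaf ⟨58375143, 12, 1, 185⟩) (.leaf ⟨49038957, 15, 1, 422⟩)))))) (.node (.node (.node (.node (.node (.node (.leaf ⟨30657545, 4, 0, 7⟩) (.leaf ⟨34459625, 16, 1, 449⟩)) (.leaf ⟨165138847, 12, 1, 203⟩))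 (.node (.leaf ⟨110217462, 10, 1, 100⟩) (.leaf ⟨66338103, 14, 1, 312⟩))) (.node (.node (.node (.leaf ⟨226412597, 8, 0, 52⟩) (.leaf ⟨65682667, 17, 1, 534⟩)) (.leaf ⟨159637048, 13, 1, 259⟩)) (.node (.leaf ⟨110160530, 11, 1, 152⟩) (.leaf ⟨133133522, 15, 1, 375⟩)))) (.node (.node (.node (.node (.leaf ⟨96185324, 7, 0, 30⟩) (.leaf ⟨74235171, 16, 1, 497⟩)) (.leaf ⟨249211567, 13, 1, 231⟩)) (.node (.leaf ⟨171380198, 11, 1, 124⟩) (.leaf ⟨246764255, 14, 1, 341⟩))) (.node (.node (.node (.leaf ⟨255161316, 9, 1, 76⟩) (.leaf ⟨265967609, 18, 1, 580⟩)) (.leaf ⟨200268486, 14, 0, 286⟩)) (.node (.leaf ⟨167403453, 12, 1, 179⟩) (.leaf ⟨146774376, 15, 1, 415⟩))))) (.node (.node (.node (.node (.node (.leaf ⟨135207407, 6, 1, 18⟩) (.leaf ⟨263255501, 16, 0, 472⟩)) (.leaf ⟨5952853, 13, 1, 218⟩)) (.node (.leaf ⟨138189295, 10, 1, 112⟩) (.leaf ⟨89882435, 14, 1, 326⟩))) (.node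 (.node (.node (.leaf ⟨11462288, 9, 1, 64⟩) (.leaf ⟨262339547, 17, 1, 555⟩)) (.leaf ⟨263355229, 13, 1, 275⟩)) (.node (.leaf ⟨29254303, 12, 0, 166⟩) (.leaf ⟨113170680, 15, 1, 393⟩)))) (.node (.node (.node (.node (.leaf ⟨240889466, 8, 1, 40⟩) (.leaf ⟨130711160, 16, 1, 515⟩)) (.leaf ⟨179117833, 13, 0, 245⟩)) (.node (.leaf ⟨97422579, 11, 1, 139⟩) (.leaf ⟨126229417, 14, 1, 358⟩))) (.node (.node (.node (.leaf ⟨30825532, 10, 0, 89⟩) (.leaf ⟨30537434, 19, 1, 621⟩)) (.leaf ⟨127924927, 14, 0, 297⟩)) (.node (.leaf ⟨240980902, 12, 0, 193⟩) (.leaf ⟨165437848, 15, 0, 430⟩)))))))) (.node (.node (.node (.node (.node (.node (.node (.node (.leaf ⟨219590389, 1, 1, 0⟩) (.leaf ⟨267218295, 15, 1, 436⟩)) (.leaf ⟨113767804, 12, 1, 197⟩)) (.node (.leaf ⟨111835085, 10, 1, 93⟩) (.leaf ⟨221139709, 14, 0, 303⟩))) (.node (.node (.node (.leaf ⟨29960950, 8, 0, 45⟩) (.leaf ⟨173207473,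 17, 1, 522⟩)) (.leaf ⟨157702301, 13, 1, 250⟩)) (.node (.leaf ⟨197612867, 11, 0, 144⟩) (.leaf ⟨260144927, 15, 1, 365⟩)))) (.node (.node (.node (.node (.leaf ⟨245312351, 6, 1, 23⟩) (.leaf ⟨195489616, 16, 1, 480⟩)) (.leaf ⟨165572571, 13, 0, 223⟩)) (.node (.leaf ⟨209673878, 10, 0, 118⟩) (.leaf ⟨115281176, 14, 0, 332⟩))) (.node (.node (.node (.leaf ⟨60811068, 9, 0, 69⟩) (.leaf ⟨138064020, 17, 0, 566⟩)) (.leaf ⟨221092376, 13, 1, 280⟩)) (.node (.leaf ⟨73820661, 12, 0, 171⟩) (.leaf ⟨257577575, 15, 1, 401⟩))))) (.node (.node (.node (.node (.node (.leaf ⟨62045433, 5, 1, 11⟩) (.leaf ⟨98451374, 16, 0, 456⟩)) (.leaf ⟨144981975, 12, 0, 210⟩)) (.node (.leaf ⟨94897961, 10, 0, 105⟩) (.leaf ⟨164560054, 14, 1, 317⟩))) (.node (.node (.node (.leaf ⟨161444830, 8, 1, 56⟩) (.leaf ⟨175310161, 17, 1, 541⟩)) (.leaf ⟨126780151, 13, 1, 265⟩)) (.node (.leaf ⟨209380529, 11, 1,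 158⟩) (.leaf ⟨46935881, 15, 0, 383⟩)))) (.node (.node (.node (.node (.leaf ⟨39814762, 7, 1, 33⟩) (.leaf ⟨146379764, 16, 1, 504⟩)) (.leaf ⟨126700277, 13, 1, 237⟩)) (.node (.leaf ⟨110017373, 11, 1, 130⟩) (.leaf ⟨250779546, 14, 1, 348⟩))) (.node (.node (.node (.leaf ⟨72459592, 9, 0, 81⟩) (.leaf ⟨202883132, 18, 0, 592⟩)) (.leaf ⟨109836251, 14, 1, 290⟩)) (.node (.leaf ⟨145875833, 12, 0, 184⟩) (.leaf ⟨161102543, 15, 0, 421⟩)))))) (.node (.node (.node (.node (.node (.node (.leaf ⟨143636708, 3, 1, 5⟩) (.leaf ⟨155183806, 16, 1, 445⟩)) (.leaf ⟨229030054, 12, 1, 202⟩)) (.node (.leaf ⟨79158330, 10, 1, 98⟩) (.leaf ⟨108769254, 14, 1, 309⟩))) (.node (.node (.node (.leaf ⟨66824830, 8, 1, 50⟩) (.leaf ⟨14381626, 17, 1, 531⟩)) (.leaf ⟨256022504, 13, 1, 257⟩)) (.node (.leaf ⟨150184617, 11, 1, 150⟩) (.leaf ⟨267597901, 15, 1, 373⟩)))) (.node (.node (.node (.node (.leaf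 ⟨114761253, 7, 0, 28⟩) (.leaf ⟨10909877, 16, 1, 493⟩)) (.leaf ⟨242701371, 13, 0, 230⟩)) (.node (.leaf ⟨250799804, 11, 0, 123⟩) (.leaf ⟨77378783, 14, 1, 339⟩))) (.node (.node (.node (.leaf ⟨137690362, 9, 0, 75⟩) (.leaf ⟨133438283, 18, 0, 579⟩)) (.leaf ⟨147386254, 14, 1, 284⟩)) (.node (.leaf ⟨215533975, 12, 0, 178⟩) (.leaf ⟨209334630, 15, 0, 414⟩))))) (.node (.node (.node (.node (.node (.leaf ⟨230601588, 6, 1, 17⟩) (.leaf ⟨59374238, 16, 0, 469⟩)) (.leaf ⟨260435817, 12, 1, 216⟩)) (.node (.leaf ⟨15133127, 10, 1, 111⟩) (.leaf ⟨126272451, 14, 1, 325⟩))) (.node (.node (.node (.leaf ⟨108690954, 9, 0, 63⟩) (.leaf ⟨195763417, 17, 1, 552⟩)) (.leaf ⟨15489726, 13, 1, 273⟩)) (.node (.leaf ⟨212295390, 12, 0, 165⟩) (.leaf ⟨164474027, 15, 1, 391⟩)))) (.node (.node (.node (.node (.leaf ⟨210903269, 8, 1, 39⟩) (.leaf ⟨82736600, 16, 1, 513⟩)) (.leaf ⟨211833791, 13,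 1, 243⟩)) (.node (.leaf ⟨242337851, 11, 0, 138⟩) (.leaf ⟨45520860, 14, 1, 354⟩))) (.node (.node (.node (.leaf ⟨200467992, 10, 0, 87⟩) (.leaf ⟨5465876, 18, 0, 614⟩)) (.leaf ⟨100498751, 14, 1, 295⟩)) (.node (.leaf ⟨129539099, 12, 1, 190⟩) (.leaf ⟨220772317, 15, 0, 428⟩))))))) (.node (.node (.node (.node (.node (.node (.node (.leaf ⟨96598781, 3, 0, 3⟩) (.leaf ⟨744401, 15, 1, 442⟩)) (.leaf ⟨173795857, 12, 0, 200⟩)) (.node (.leaf ⟨112152865, 10, 1, 95⟩) (.leaf ⟨197754142, 14, 0, 306⟩))) (.node (.node (.node (.leaf ⟨96401713, 8, 1, 48⟩) (.leaf ⟨34100533, 17, 1, 526⟩)) (.leaf ⟨186458121, 13, 1, 254⟩)) (.node (.leaf ⟨263908213, 11, 1, 146⟩) (.leaf ⟨251212214, 15, 0, 369⟩)))) (.node (.node (.node (.node (.leaf ⟨77389783, 6, 1, 25⟩) (.leaf ⟨232557920, 16, 1, 484⟩)) (.leaf ⟨204417956, 13, 1, 226⟩)) (.node (.leaf ⟨95825339, 11, 1, 120⟩) (.leaf ⟨255771619, 14,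 0, 336⟩))) (.node (.node (.node (.leaf ⟨177120244, 9, 0, 72⟩) (.leaf ⟨196927991, 17, 1, 571⟩)) (.leaf ⟨104991020, 13, 1, 282⟩)) (.node (.leaf ⟨183230038, 12, 1, 174⟩) (.leaf ⟨167623251, 15, 1, 410⟩))))) (.node (.node (.node (.node (.node (.leaf ⟨197036735, 5, 1, 14⟩) (.leaf ⟨163267751, 16, 1, 462⟩)) (.leaf ⟨222101343, 12, 1, 213⟩)) (.node (.leaf ⟨217777005, 10, 0, 108⟩) (.leaf ⟨152474010, 14, 1, 320⟩))) (.node (.node (.node (.leaf ⟨38707583, 9, 0, 60⟩) (.leaf ⟨82943224, 17, 1, 544⟩)) (.leaf ⟨65779103, 13, 0, 268⟩)) (.node (.leaf ⟨241674367, 11, 0, 161⟩) (.leaf ⟨171195651, 15, 1, 388⟩)))) (.node (.node (.node (.node (.leaf ⟨30793711, 7, 0, 36⟩) (.leaf ⟨207477872, 16, 1, 510⟩)) (.leaf ⟨115891536, 13, 0, 240⟩)) (.node (.leaf ⟨30029800, 11, 0, 135⟩) (.leaf ⟨66984425, 14, 1, 351⟩))) (.node (.node (.node (.leaf ⟨248195446, 9, 1, 83⟩) (.leaf ⟨62896078,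 18, 0, 597⟩)) (.leaf ⟨265397218, 14, 1, 293⟩)) (.node (.leaf ⟨204025858, 12, 0, 187⟩) (.leaf ⟨96951139, 15, 1, 423⟩)))))) (.node (.node (.node (.node (.node (.node (.leaf ⟨64695103, 4, 1, 8⟩) (.leaf ⟨80078526, 16, 0, 453⟩)) (.leaf ⟨171767734, 12, 1, 205⟩)) (.node (.leaf ⟨30279088, 10, 1, 101⟩) (.leaf ⟨208077693, 14, 0, 314⟩))) (.node (.node (.node (.leaf ⟨43235832, 8, 0, 53⟩) (.leaf ⟨215539276, 17, 0, 537⟩)) (.leaf ⟨222097874, 13, 1, 261⟩)) (.node (.leaf ⟨56433343, 11, 1, 153⟩) (.leaf ⟨125022835, 15, 0, 378⟩)))) (.node (.node (.node (.node (.leaf ⟨132829754, 7, 0, 31⟩) (.leaf ⟨13313390, 16, 1, 500⟩)) (.leaf ⟨48257949, 13, 0, 233⟩)) (.node (.leaf ⟨200837958, 11, 0, 127⟩) (.leaf ⟨251032283, 14, 1, 343⟩))) (.node (.node (.node (.leaf ⟨190770815, 9, 1, 78⟩) (.leaf ⟨115980731, 18, 0, 585⟩)) (.leaf ⟨181238395, 14, 1, 287⟩)) (.node (.leaf ⟨225875175, 12,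 1, 180⟩) (.leaf ⟨49441829, 15, 1, 417⟩))))) (.node (.node (.node (.node (.node (.leaf ⟨244833871, 6, 1, 19⟩) (.leaf ⟨231201002, 16, 1, 474⟩)) (.leaf ⟨112983182, 13, 1, 220⟩)) (.node (.leaf ⟨29342968, 10, 1, 113⟩) (.leaf ⟨127021034, 14, 1, 328⟩))) (.node (.node (.node (.leaf ⟨80025534, 9, 1, 65⟩) (.leaf ⟨265655100, 17, 1, 558⟩)) (.leaf ⟨31436843, 13, 0, 277⟩)) (.node (.leaf ⟨33355889, 12, 1, 167⟩) (.leaf ⟨61587921, 15, 0, 395⟩)))) (.node (.node (.node (.node (.leaf ⟨217098200, 8, 1, 41⟩) (.leaf ⟨130664446, 16, 0, 518⟩)) (.leaf ⟨208534849, 13, 1, 246⟩)) (.node (.leaf ⟨206259870, 11, 1, 141⟩) (.leaf ⟨17686364, 15, 1, 362⟩))) (.node (.node (.node (.leaf ⟨230145964, 10, 0, 91⟩) (.leaf ⟨193689372, 19, 1, 627⟩)) (.leaf ⟨129645822, 14, 1, 298⟩)) (.node (.leaf ⟨60730269, 12, 1, 194⟩) (.leaf ⟨30404775, 15, 0, 432⟩))))))))) (.node (.node (.node (.node (.node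 (.node (.node (.node (.node (.leaf ⟨221946249, 1, 0, 0⟩) (.leaf ⟨217821272, 15, 1, 435⟩)) (.leaf ⟨166549862, 12, 0, 197⟩)) (.node (.leaf ⟨222212552, 10, 1, 92⟩) (.leaf ⟨38778140, 14, 1, 302⟩))) (.node (.node (.node (.leaf ⟨155134649, 8, 1, 44⟩) (.leaf ⟨58301301, 17, 1, 521⟩)) (.leaf ⟨214400051, 13, 0, 250⟩)) (.node (.leaf ⟨95751466, 11, 1, 143⟩) (.leaf ⟨257517305, 15, 0, 365⟩)))) (.node (.node (.node (.node (.leaf ⟨117112575, 6, 0, 22⟩) (.leaf ⟨262397219, 16, 1, 479⟩)) (.leaf ⟨126816383, 13, 1, 222⟩)) (.node (.leaf ⟨25587551, 10, 1, 117⟩) (.leaf ⟨50163041, 14, 1, 331⟩))) (.node (.node (.node (.leaf ⟨85824758, 9, 1, 67⟩) (.leaf ⟨257850949, 17, 1, 564⟩)) (.leaf ⟨255768794, 13, 0, 279⟩)) (.node (.leaf ⟨245049275, 12, 1, 170⟩) (.leaf ⟨187588559, 15, 0, 399⟩))))) (.node (.node (.node (.node (.node (.leaf ⟨225905918, 5, 0, 11⟩) (.leaf ⟨34568556, 16, 1,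 455⟩)) (.leaf ⟨187706814, 12, 1, 208⟩)) (.node (.leaf ⟨154276849, 10, 1, 104⟩) (.leaf ⟨261619123, 14, 0, 317⟩))) (.node (.node (.node (.leaf ⟨186459232, 8, 1, 55⟩) (.leaf ⟨149838347, 17, 0, 541⟩)) (.leaf ⟨217540912, 13, 0, 264⟩)) (.node (.leaf ⟨112851203, 11, 1, 157⟩) (.leaf ⟨97253542, 15, 1, 382⟩)))) (.node (.node (.node (.node (.leaf ⟨175448815, 7, 1, 32⟩) (.leaf ⟨79560553, 16, 0, 503⟩)) (.leaf ⟨54453430, 13, 0, 235⟩)) (.node (.leaf ⟨189261319, 11, 0, 130⟩) (.leaf ⟨101799738, 14, 0, 348⟩))) (.node (.node (.node (.leaf ⟨65785510, 9, 1, 80⟩) (.leaf ⟨165871581, 18, 1, 590⟩)) (.leaf ⟨100642481, 14, 1, 289⟩)) (.node (.leaf ⟨170875763, 12, 1, 183⟩) (.leaf ⟨29331449, 15, 0, 420⟩)))))) (.node (.node (.node (.node (.node (.node (.leaf ⟨166291896, 3, 0, 5⟩) (.leaf ⟨212407803, 16, 0, 445⟩)) (.leaf ⟨65367974, 12, 0, 202⟩)) (.node (.leaf ⟨196735478, 10, 1,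 97⟩) (.leaf ⟨139607979, 14, 0, 309⟩))) (.node (.node (.node (.leaf ⟨121826791, 8, 0, 50⟩) (.leaf ⟨265072632, 17, 1, 529⟩)) (.leaf ⟨220537293, 13, 1, 256⟩)) (.node (.leaf ⟨93712358, 11, 0, 149⟩) (.leaf ⟨10970639, 15, 1, 372⟩)))) (.node (.node (.node (.node (.leaf ⟨110800349, 7, 1, 27⟩) (.leaf ⟨87431210, 16, 1, 492⟩)) (.leaf ⟨142491039, 13, 1, 229⟩)) (.node (.leaf ⟨84815774, 11, 1, 122⟩) (.leaf ⟨95759931, 14, 1, 338⟩))) (.node (.node (.node (.leaf ⟨221765294, 9, 1, 74⟩) (.leaf ⟨148644093, 18, 0, 578⟩)) (.leaf ⟨186330707, 14, 0, 284⟩)) (.node (.leaf ⟨144399260, 12, 1, 177⟩) (.leaf ⟨255208503, 15, 1, 413⟩))))) (.node (.node (.node (.node (.node (.leaf ⟨258094239, 5, 1, 16⟩) (.leaf ⟨181079525, 16, 1, 467⟩)) (.leaf ⟨22742423, 12, 1, 215⟩)) (.node (.leaf ⟨140279524, 10, 1, 110⟩) (.leaf ⟨241361189, 14, 0, 324⟩))) (.node (.node (.node (.leaf ⟨62204182, 9,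 1, 62⟩) (.leaf ⟨127597739, 17, 1, 549⟩)) (.leaf ⟨216026876, 13, 0, 273⟩)) (.node (.leaf ⟨95151581, 12, 1, 164⟩) (.leaf ⟨260502736, 15, 0, 391⟩)))) (.node (.node (.node (.node (.leaf ⟨212466139, 7, 1, 38⟩) (.leaf ⟨40033652, 16, 0, 513⟩)) (.leaf ⟨166799357, 13, 0, 243⟩)) (.node (.leaf ⟨32473916, 11, 0, 137⟩) (.leaf ⟨216735737, 14, 0, 354⟩))) (.node (.node (.node (.leaf ⟨209039283, 10, 1, 86⟩) (.leaf ⟨200899935, 18, 1, 609⟩)) (.leaf ⟨165474132, 14, 0, 295⟩)) (.node (.leaf ⟨243497819, 12, 0, 190⟩) (.leaf ⟨255801299, 15, 1, 426⟩))))))) (.node (.node (.node (.node (.node (.node (.node (.leaf ⟨218930426, 2, 1, 2⟩) (.leaf ⟨211255279, 15, 1, 441⟩)) (.leaf ⟨152549064, 12, 1, 199⟩)) (.node (.leaf ⟨258630579, 10, 0, 95⟩) (.leaf ⟨227047924, 14, 1, 305⟩))) (.node (.node (.node (.leaf ⟨255224497, 8, 1, 47⟩) (.leaf ⟨145047449, 17, 0, 525⟩)) (.leaf ⟨128543007, 13,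 0, 254⟩)) (.node (.leaf ⟨50280427, 11, 1, 145⟩) (.leaf ⟨5860563, 15, 1, 368⟩)))) (.node (.node (.node (.node (.leaf ⟨201244402, 6, 0, 25⟩) (.leaf ⟨63037361, 16, 0, 484⟩)) (.leaf ⟨4666794, 13, 1, 225⟩)) (.node (.leaf ⟨123449816, 11, 1, 119⟩) (.leaf ⟨229557152, 14, 1, 335⟩))) (.node (.node (.node (.leaf ⟨132490292, 9, 1, 71⟩) (.leaf ⟨133037436, 17, 1, 569⟩)) (.leaf ⟨192211873, 13, 0, 282⟩)) (.node (.leaf ⟨170838684, 12, 0, 173⟩) (.leaf ⟨156710413, 15, 0, 404⟩))))) (.node (.node (.node (.node (.node (.leaf ⟨245325695, 5, 0, 14⟩) (.leaf ⟨242994764, 16, 1, 460⟩)) (.leaf ⟨257043597, 12, 1, 212⟩)) (.node (.leaf ⟨147155500, 10, 1, 107⟩) (.leaf ⟨43874040, 14, 0, 320⟩))) (.node (.node (.node (.leaf ⟨235634150, 9, 1, 59⟩) (.leaf ⟨123591395, 17, 1, 543⟩)) (.leaf ⟨202123231, 13, 1, 267⟩)) (.node (.leaf ⟨65988243, 11, 0, 160⟩) (.leaf ⟨110603006, 15, 1, 387⟩))))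 (.node (.node (.node (.node (.leaf ⟨91176697, 7, 1, 35⟩) (.leaf ⟨53368772, 16, 1, 509⟩)) (.leaf ⟨199198881, 13, 1, 239⟩)) (.node (.leaf ⟨238979254, 11, 1, 134⟩) (.leaf ⟨133590393, 14, 1, 350⟩))) (.node (.node (.node (.leaf ⟨267056202, 9, 1, 82⟩) (.leaf ⟨173780498, 18, 1, 596⟩)) (.leaf ⟨129772228, 14, 0, 293⟩)) (.node (.leaf ⟨114338723, 12, 1, 186⟩) (.leaf ⟨253067041, 15, 0, 423⟩)))))) (.node (.node (.node (.node (.node (.node (.leaf ⟨122374484, 4, 1, 7⟩) (.leaf ⟨133819577, 16, 1, 451⟩)) (.leaf ⟨229142203, 12, 0, 204⟩)) (.node (.leaf ⟨178150866, 10, 0, 101⟩) (.leaf ⟨165772652, 14, 1, 313⟩))) (.node (.node (.node (.leaf ⟨188362319, 8, 1, 52⟩) (.leaf ⟨166390897, 17, 1, 535⟩)) (.leaf ⟨264078222, 13, 0, 260⟩)) (.node (.leaf ⟨84433068, 11, 0, 153⟩) (.leaf ⟨111525235, 15, 1, 376⟩)))) (.node (.node (.node (.node (.leaf ⟨26010514, 7, 1, 30⟩) (.leaf ⟨149939671,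 16, 0, 499⟩)) (.leaf ⟨226457183, 13, 1, 232⟩)) (.node (.leaf ⟨107674999, 11, 1, 126⟩) (.leaf ⟨138990790, 14, 1, 342⟩))) (.node (.node (.node (.leaf ⟨132990082, 9, 0, 77⟩) (.leaf ⟨241546135, 18, 0, 582⟩)) (.leaf ⟨245055642, 14, 1, 286⟩)) (.node (.leaf ⟨240852479, 12, 0, 180⟩) (.leaf ⟨264461795, 15, 0, 417⟩))))) (.node (.node (.node (.node (.node (.leaf ⟨209285178, 6, 0, 19⟩) (.leaf ⟨96395201, 16, 1, 473⟩)) (.leaf ⟨156482075, 13, 0, 219⟩)) (.node (.leaf ⟨22014798, 10, 0, 113⟩) (.leaf ⟨114032381, 14, 1, 327⟩))) (.node (.node (.node (.leaf ⟨217575067, 9, 0, 65⟩) (.leaf ⟨24237742, 17, 0, 556⟩)) (.leaf ⟨133077431, 13, 1, 276⟩)) (.node (.leaf ⟨231582003, 12, 1, 166⟩) (.leaf ⟨180802529, 15, 0, 394⟩)))) (.node (.node (.node (.node (.leaf ⟨146752121, 8, 0, 41⟩) (.leaf ⟨180923756, 16, 1, 517⟩)) (.leaf ⟨219755263, 13, 1, 245⟩)) (.node (.leaf ⟨32208339, 11,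 0, 140⟩) (.leaf ⟨16482047, 15, 1, 359⟩))) (.node (.node (.node (.leaf ⟨128695939, 10, 1, 90⟩) (.leaf ⟨193575674, 19, 1, 622⟩)) (.leaf ⟨247330246, 14, 1, 297⟩)) (.node (.leaf ⟨216416179, 12, 1, 193⟩) (.leaf ⟨264234696, 15, 1, 431⟩)))))))) (.node (.node (.node (.node (.node (.node (.node (.node (.leaf ⟨247339733, 2, 1, 1⟩) (.leaf ⟨112839676, 15, 1, 437⟩)) (.leaf ⟨206343733, 12, 0, 198⟩)) (.node (.leaf ⟨101288441, 10, 0, 94⟩) (.leaf ⟨197048164, 14, 0, 304⟩))) (.node (.node (.node (.leaf ⟨52935551, 8, 1, 46⟩) (.leaf ⟨195382178, 17, 1, 523⟩)) (.leaf ⟨75491539, 13, 0, 253⟩)) (.node (.leaf ⟨214748156, 11, 1, 144⟩) (.leaf ⟨221601528, 15, 0, 366⟩)))) (.node (.node (.node (.node (.leaf ⟨12468152, 6, 0, 24⟩) (.leaf ⟨167024078, 16, 0, 482⟩)) (.leaf ⟨6286097, 13, 1, 224⟩)) (.node (.leaf ⟨224166326, 10, 1, 118⟩) (.leaf ⟨230956993, 14, 1, 333⟩))) (.node (.node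 (.node (.leaf ⟨25770931, 9, 0, 70⟩) (.leaf ⟨102432378, 17, 0, 568⟩)) (.leaf ⟨57535441, 13, 0, 281⟩)) (.node (.leaf ⟨252084776, 12, 0, 172⟩) (.leaf ⟨253806449, 15, 0, 402⟩))))) (.node (.node (.node (.node (.node (.leaf ⟨113454622, 5, 1, 12⟩) (.leaf ⟨79657763, 16, 0, 457⟩)) (.leaf ⟨96428766, 12, 1, 211⟩)) (.node (.leaf ⟨33139581, 10, 1, 106⟩) (.leaf ⟨227765609, 14, 0, 318⟩))) (.node (.node (.node (.leaf ⟨120455034, 8, 0, 57⟩) (.leaf ⟨64627335, 17, 0, 542⟩)) (.leaf ⟨243204680, 13, 0, 266⟩)) (.node (.leaf ⟨183234631, 11, 0, 159⟩) (.leaf ⟨98612839, 15, 1, 384⟩)))) (.node (.node (.node (.node (.leaf ⟨65327801, 7, 0, 34⟩) (.leaf ⟨177953091, 16, 1, 506⟩)) (.leaf ⟨251339757, 13, 0, 238⟩)) (.node (.leaf ⟨50019302, 11, 0, 132⟩) (.leaf ⟨222250961, 14, 0, 349⟩))) (.node (.node (.node (.leaf ⟨75144190, 9, 1, 81⟩) (.leaf ⟨12562589, 18, 1, 593⟩)) (.leaf ⟨232440180,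 14, 0, 291⟩)) (.node (.leaf ⟨133162621, 12, 1, 184⟩) (.leaf ⟨13600053, 15, 1, 421⟩)))))) (.node (.node (.node (.node (.node (.node (.leaf ⟨261584634, 4, 1, 6⟩) (.leaf ⟨57368571, 16, 1, 447⟩)) (.leaf ⟨100285779, 12, 0, 203⟩)) (.node (.leaf ⟨14639092, 10, 0, 100⟩) (.leaf ⟨159412150, 14, 1, 311⟩))) (.node (.node (.node (.leaf ⟨38796539, 8, 1, 51⟩) (.leaf ⟨227524040, 17, 0, 534⟩)) (.leaf ⟨110491263, 13, 0, 258⟩)) (.node (.leaf ⟨156378710, 11, 1, 151⟩) (.leaf ⟨138007913, 15, 0, 374⟩)))) (.node (.node (.node (.node (.leaf ⟨28046772, 7, 1, 29⟩) (.leaf ⟨133280967, 16, 0, 496⟩)) (.leaf ⟨213122436, 13, 0, 231⟩)) (.node (.leaf ⟨238033727, 11, 1, 123⟩) (.leaf ⟨125028343, 14, 0, 341⟩))) (.node (.node (.node (.leaf ⟨85518783, 9, 1, 75⟩) (.leaf ⟨210220675, 18, 0, 580⟩)) (.leaf ⟨22637315, 14, 1, 285⟩)) (.node (.leaf ⟨166435154, 12, 1, 178⟩) (.leaf ⟨190574455, 15,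 1, 414⟩))))) (.node (.node (.node (.node (.node (.leaf ⟨30735577, 6, 0, 18⟩) (.leaf ⟨147925937, 16, 1, 469⟩)) (.leaf ⟨255770318, 13, 1, 217⟩)) (.node (.leaf ⟨181612453, 10, 0, 112⟩) (.leaf ⟨82621729, 14, 0, 326⟩))) (.node (.node (.node (.leaf ⟨243100839, 9, 1, 63⟩) (.leaf ⟨250599669, 17, 1, 553⟩)) (.leaf ⟨243454973, 13, 0, 275⟩)) (.node (.leaf ⟨115765471, 12, 1, 165⟩) (.leaf ⟨197914233, 15, 1, 392⟩)))) (.node (.node (.node (.node (.leaf ⟨178238949, 8, 0, 40⟩) (.leaf ⟨141663806, 16, 0, 515⟩)) (.leaf ⟨220178477, 13, 0, 244⟩)) (.node (.leaf ⟨115915884, 11, 1, 138⟩) (.leaf ⟨222029795, 14, 0, 358⟩))) (.node (.node (.node (.leaf ⟨171702205, 10, 1, 87⟩) (.leaf ⟨47069914, 19, 1, 618⟩)) (.leaf ⟨120954425, 14, 1, 296⟩)) (.node (.leaf ⟨41887005, 12, 1, 191⟩) (.leaf ⟨102555350, 15, 1, 429⟩))))))) (.node (.node (.node (.node (.node (.node (.node (.leaf ⟨214183362,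 3, 1, 3⟩) (.leaf ⟨65903980, 15, 1, 443⟩)) (.leaf ⟨25982762, 12, 1, 200⟩)) (.node (.leaf ⟨83605542, 10, 1, 96⟩) (.leaf ⟨186285757, 14, 1, 307⟩))) (.node (.node (.node (.leaf ⟨57260013, 8, 0, 49⟩) (.leaf ⟨198110429, 17, 1, 527⟩)) (.leaf ⟨217230440, 13, 1, 255⟩)) (.node (.leaf ⟨122109660, 11, 0, 147⟩) (.leaf ⟨216243775, 15, 0, 370⟩)))) (.node (.node (.node (.node (.leaf ⟨59545271, 7, 0, 26⟩) (.leaf ⟨61799827, 16, 0, 486⟩)) (.leaf ⟨42892727, 13, 1, 227⟩)) (.node (.leaf ⟨123720951, 11, 0, 121⟩) (.leaf ⟨119432175, 14, 1, 337⟩))) (.node (.node (.node (.leaf ⟨183362465, 9, 1, 73⟩) (.leaf ⟨233743788, 17, 1, 573⟩)) (.leaf ⟨41767649, 14, 0, 283⟩)) (.node (.leaf ⟨236443756, 12, 1, 175⟩) (.leaf ⟨222497384, 15, 0, 412⟩))))) (.node (.node (.node (.node (.node (.leaf ⟨46826844, 5, 0, 15⟩) (.leaf ⟨114802671, 16, 0, 465⟩)) (.leaf ⟨159317752, 12, 1, 214⟩)) (.node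 (.leaf ⟨173791192, 10, 1, 109⟩) (.leaf ⟨171246501, 14, 1, 321⟩))) (.node (.node (.node (.leaf ⟨233924537, 9, 1, 61⟩) (.leaf ⟨57980910, 17, 0, 545⟩)) (.leaf ⟨209528604, 13, 0, 270⟩)) (.node (.leaf ⟨156490781, 11, 1, 162⟩) (.leaf ⟨257109460, 15, 0, 389⟩)))) (.node (.node (.node (.node (.leaf ⟨149925053, 7, 1, 37⟩) (.leaf ⟨65829751, 16, 0, 511⟩)) (.leaf ⟨266151933, 13, 0, 241⟩)) (.node (.leaf ⟨105592571, 11, 1, 135⟩) (.leaf ⟨207473274, 14, 0, 352⟩))) (.node (.node (.node (.leaf ⟨47951830, 10, 1, 84⟩) (.leaf ⟨58909063, 18, 0, 601⟩)) (.leaf ⟨236649999, 14, 0, 294⟩)) (.node (.leaf ⟨230042299, 12, 1, 187⟩) (.leaf ⟨148341156, 15, 1, 424⟩)))))) (.node (.node (.node (.node (.node (.node (.leaf ⟨244232887, 4, 1, 9⟩) (.leaf ⟨242951775, 16, 1, 453⟩)) (.leaf ⟨23852281, 12, 0, 206⟩)) (.node (.leaf ⟨253935596, 10, 0, 103⟩) (.leaf ⟨132799719, 14, 1, 315⟩))) (.node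 (.node (.node (.leaf ⟨88465836, 8, 1, 54⟩) (.leaf ⟨31018809, 17, 0, 539⟩)) (.leaf ⟨233179623, 13, 0, 263⟩)) (.node (.leaf ⟨211812079, 11, 0, 154⟩) (.leaf ⟨254798454, 15, 1, 378⟩)))) (.node (.node (.node (.node (.leaf ⟨217419757, 7, 1, 31⟩) (.leaf ⟨193095742, 16, 1, 501⟩)) (.leaf ⟨112130014, 13, 1, 233⟩)) (.node (.leaf ⟨134167974, 11, 0, 129⟩) (.leaf ⟨232023259, 14, 0, 346⟩))) (.node (.node (.node (.leaf ⟨154990212, 9, 0, 79⟩) (.leaf ⟨122451321, 18, 0, 586⟩)) (.leaf ⟨27524498, 14, 1, 288⟩)) (.node (.leaf ⟨126512822, 12, 0, 181⟩) (.leaf ⟨172182154, 15, 0, 419⟩))))) (.node (.node (.node (.node (.node (.leaf ⟨94370815, 6, 1, 20⟩) (.leaf ⟨192745068, 16, 1, 476⟩)) (.leaf ⟨127654905, 13, 0, 221⟩)) (.node (.leaf ⟨136281033, 10, 1, 114⟩) (.leaf ⟨252769382, 14, 0, 329⟩))) (.node (.node (.node (.leaf ⟨235051959, 9, 1, 66⟩) (.leaf ⟨238514353, 17, 0, 559⟩))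 (.leaf ⟨126302195, 13, 0, 278⟩)) (.node (.leaf ⟨205148090, 12, 1, 168⟩) (.leaf ⟨245693886, 15, 1, 395⟩)))) (.node (.node (.node (.node (.leaf ⟨180256034, 8, 1, 42⟩) (.leaf ⟨61536621, 16, 0, 519⟩)) (.leaf ⟨49843691, 13, 0, 248⟩)) (.node (.leaf ⟨197742484, 11, 0, 142⟩) (.leaf ⟨243165801, 15, 0, 363⟩))) (.node (.node (.node (.leaf ⟨233527535, 10, 1, 91⟩) (.leaf ⟨76782419, 20, 1, 636⟩)) (.leaf ⟨199885543, 14, 1, 300⟩)) (.node (.leaf ⟨158978931, 12, 0, 195⟩) (.leaf ⟨250333364, 15, 1, 432⟩)))))))))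

def titsOrbit2 : Chain.Tree Pt :=
  .node (.node (.node (.node (.node (.node (.node (.leaf ⟨225495223, 0, 0, 0⟩) (.leaf ⟨221904732, 9, 1, 50⟩)) (.leaf ⟨106511598, 6, 1, 22⟩)) (.node (.leaf ⟨76635582, 4, 1, 9⟩) (.leaf ⟨199564511, 8, 0, 36⟩))) (.node (.node (.node (.leaf ⟨132064738, 3, 1, 4⟩) (.leaf ⟨166550708, 9, 1, 57⟩)) (.leaf ⟨181710689, 7, 1, 29⟩)) (.node (.leaf ⟨5888567, 5, 0, 16⟩) (.leaf ⟨224126605, 8, 0, 45⟩)))) (.node (.node (.node (.node (.leaf ⟨98965421, 2, 0, 2⟩) (.leaf ⟨171760167, 9, 1, 52⟩)) (.leaf ⟨220036087, 7, 1, 26⟩)) (.node (.leaf ⟨187747179, 5, 1, 12⟩) (.leaf ⟨223099633, 8, 1, 41⟩))) (.node (.node (.node (.leaf ⟨115504620, 4, 0, 7⟩) (.leaf ⟨206484815, 11, 0, 73⟩)) (.leaf ⟨241994666, 7, 1, 32⟩)) (.node (.leaf ⟨207556940, 6, 0, 20⟩) (.leaf ⟨255423415, 8, 1, 47⟩))))) (.node (.node (.node (.node (.node (.leaf ⟨249105387, 1, 1, 0⟩)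 (.leaf ⟨30374230, 9, 1, 51⟩)) (.leaf ⟨99734202, 6, 1, 24⟩)) (.node (.leaf ⟨163862653, 5, 0, 11⟩) (.leaf ⟨22347544, 8, 0, 38⟩))) (.node (.node (.node (.leaf ⟨156319101, 3, 1, 5⟩) (.leaf ⟨191579667, 10, 0, 64⟩)) (.leaf ⟨69097414, 7, 1, 31⟩)) (.node (.leaf ⟨32632633, 6, 1, 18⟩) (.leaf ⟨264847046, 8, 1, 46⟩)))) (.node (.node (.node (.node (.leaf ⟨118937143, 3, 0, 3⟩) (.leaf ⟨66003866, 9, 1, 53⟩)) (.leaf ⟨266271697, 7, 1, 28⟩)) (.node (.leaf ⟨142187516, 5, 1, 14⟩) (.leaf ⟨28004169, 8, 1, 43⟩))) (.node (.node (.node (.leaf ⟨41951076, 4, 0, 8⟩) (.leaf ⟨138040079, 12, 1, 77⟩)) (.leaf ⟨95497940, 7, 0, 34⟩)) (.node (.leaf ⟨108471178, 6, 1, 21⟩) (.leaf ⟨159565063, 9, 0, 49⟩)))))) (.node (.node (.node (.node (.node (.node (.leaf ⟨249009433, 1, 0, 0⟩) (.leaf ⟨261608785, 9, 0, 51⟩)) (.leaf ⟨173032559, 6, 0, 23⟩)) (.node (.leaf ⟨221471891, 4, 0, 10⟩) (.leaf ⟨67453447,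 8, 1, 37⟩))) (.node (.node (.node (.leaf ⟨257356655, 3, 0, 5⟩) (.leaf ⟨99325903, 10, 1, 63⟩)) (.leaf ⟨259579757, 7, 0, 30⟩)) (.node (.leaf ⟨58848246, 5, 1, 16⟩) (.leaf ⟨39114430, 8, 1, 45⟩)))) (.node (.node (.node (.node (.leaf ⟨237726825, 2, 1, 2⟩) (.leaf ⟨215723507, 9, 0, 53⟩)) (.leaf ⟨8350980, 7, 0, 27⟩)) (.node (.leaf ⟨79368278, 5, 0, 13⟩) (.leaf ⟨234975067, 8, 1, 42⟩))) (.node (.node (.node (.leaf ⟨236171551, 4, 1, 7⟩) (.leaf ⟨195417047, 11, 1, 74⟩)) (.leaf ⟨236362026, 7, 1, 33⟩)) (.node (.leaf ⟨150554281, 6, 1, 20⟩) (.leaf ⟨26721551, 9, 1, 48⟩))))) (.node (.node (.node (.node (.node (.leaf ⟨261003231, 2, 1, 1⟩) (.leaf ⟨250308447, 9, 0, 52⟩)) (.leaf ⟨129567336, 6, 1, 25⟩)) (.node (.leaf ⟨258062318, 5, 1, 11⟩) (.leaf ⟨259913560, 8, 1, 38⟩))) (.node (.node (.node (.leaf ⟨32950258, 4, 1, 6⟩) (.leaf ⟨129362392, 10, 1, 71⟩)) (.leaf ⟨231538383, 7,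 0, 32⟩)) (.node (.leaf ⟨223491171, 6, 1, 19⟩) (.leaf ⟨189724379, 8, 0, 47⟩)))) (.node (.node (.node (.node (.leaf ⟨156570189, 3, 1, 3⟩) (.leaf ⟨158593743, 9, 1, 55⟩)) (.leaf ⟨132448111, 7, 0, 29⟩)) (.node (.leaf ⟨163046831, 5, 1, 15⟩) (.leaf ⟨263965387, 8, 0, 44⟩))) (.node (.node (.node (.leaf ⟨257770920, 4, 1, 8⟩) (.leaf ⟨268392271, 13, 0, 78⟩)) (.leaf ⟨91106421, 7, 1, 34⟩)) (.node (.leaf ⟨79921044, 6, 0, 22⟩) (.leaf ⟨211999839, 9, 1, 49⟩))))))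

def titsTags : List (ℕ × ℕ) :=
  [(2, 334), (3, 518), (2, 682), (2, 271), (2, 300), (2, 572), (2, 1003), (2, 899), (3, 293), (2, 486), (2, 219), (3, 634), (2, 30), (3, 453), (4, 24), (3, 284), (2, 931), (3, 291), (3, 152), (2, 816), (2, 965), (2, 950), (2, 187), (4, 37), (2, 11), (2, 178), (2, 598), (2, 29), (3, 554), (3, 457), (3, 92), (2, 646), (2, 488), (2, 1017), (2, 980), (1, 0), (3, 35), (3, 627), (3, 372), (2, 222), (2, 235), (2, 556), (3, 558), (3, 499), (2, 363), (2, 457), (2, 1012), (2, 680), (3, 586), (3, 139), (2, 19), (2, 409), (3, 154), (3, 328), (3, 24), (3, 346), (2, 586), (3, 84), (2, 697), (2, 554), (2, 17), (2, 302), (3, 445), (2, 411), (2, 49), (3, 446), (2, 316), (2, 594), (2, 489), (3, 200), (2, 563), (2, 229), (2, 1011), (2, 539), (2, 500), (2, 881), (2, 664), (2, 988), (2, 967), (2, 611), (2, 395), (2, 821), (2, 875), (3,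 157), (4, 50), (3, 363), (3, 281), (2, 79), (2, 228), (2, 504), (2, 614), (3, 271), (3, 408), (2, 61), (3, 605), (2, 155), (2, 602), (2, 974), (3, 161), (3, 99), (2, 465), (3, 263), (3, 45), (4, 61), (2, 628), (2, 397), (2, 1007), (2, 909), (3, 367), (4, 54), (3, 43), (2, 715), (2, 681), (2, 298), (2, 674), (3, 8), (3, 220), (2, 439), (3, 497), (3, 158), (2, 645), (3, 66), (2, 410), (3, 182), (3, 142), (2, 993), (4, 66), (2, 109), (3, 510), (2, 67), (3, 636), (2, 858), (3, 12), (3, 27), (3, 54), (3, 124), (3, 32), (2, 580), (3, 591), (3, 350), (3, 336), (1, 9), (3, 189), (3, 185), (4, 26), (2, 555), (2, 794), (4, 11), (2, 351), (2, 206), (2, 350), (3, 147), (3, 222), (2, 755), (2, 340), (2, 998), (2, 848), (2, 618), (2, 780), (2, 26), (3, 582), (2, 649), (2, 392), (3, 524), (3, 529), (2, 985), (2, 499), (2, 825), (2, 507), (2, 190), (3, 132), (2,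 466), (2, 237), (2, 265), (2, 88), (2, 656), (3, 86), (1, 6), (3, 385), (3, 75), (2, 250), (2, 610), (4, 57), (2, 564), (3, 50), (3, 569), (2, 324), (2, 1000), (2, 822), (2, 437), (2, 428), (2, 573), (2, 106), (2, 770), (3, 359), (3, 251), (4, 14), (2, 263), (2, 13), (2, 765), (3, 295), (2, 796), (2, 894), (3, 78), (2, 64), (2, 442), (3, 376), (3, 405), (2, 162), (2, 733), (2, 726), (3, 442), (2, 717), (2, 21), (2, 383), (2, 961), (3, 23), (3, 56), (2, 78), (3, 466), (3, 635), (3, 532), (2, 986), (3, 432), (3, 119), (2, 92), (3, 302), (3, 232), (2, 356), (3, 500), (2, 81), (3, 494), (3, 319), (2, 192), (3, 179), (2, 710), (3, 417), (2, 561), (2, 947), (3, 197), (2, 93), (2, 880), (2, 607), (2, 552), (3, 256), (2, 871), (2, 741), (2, 938), (2, 769), (0, 0), (3, 67), (2, 175), (3, 565), (2, 266), (2, 166), (2, 1020), (2, 670), (2, 76), (2, 761), (3,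 305), (2, 225), (2, 589), (2, 574), (3, 128), (2, 133), (2, 58), (2, 543), (2, 558), (2, 423), (2, 325), (3, 206), (2, 934), (2, 485), (2, 860), (2, 795), (2, 879), (3, 71), (2, 27), (3, 523), (2, 501), (3, 355), (2, 164), (2, 652), (2, 700), (3, 599), (2, 874), (3, 577), (2, 867), (2, 208), (2, 171), (3, 244), (2, 353), (4, 25), (3, 631), (2, 128), (3, 538), (3, 600), (3, 39), (2, 305), (2, 595), (2, 506), (3, 388), (2, 484), (3, 254), (3, 98), (2, 441), (3, 575), (3, 478), (2, 474), (2, 818), (3, 551), (2, 24), (3, 18), (2, 751), (3, 89), (2, 782), (2, 783), (2, 642), (2, 403), (2, 907), (3, 400), (2, 584), (2, 323), (3, 630), (3, 549), (2, 992), (3, 208), (2, 526), (2, 841), (2, 447), (3, 580), (2, 70), (2, 490), (2, 221), (2, 141), (2, 264), (2, 9), (2, 851), (2, 964), (2, 122), (3, 595), (3, 14), (2, 812), (2, 531), (3, 576), (3, 51), (3, 265),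 (2, 648), (3, 588), (3, 342), (3, 113), (2, 4), (3, 567), (3, 519), (3, 213), (4, 70), (2, 204), (3, 396), (2, 165), (2, 634), (2, 810), (3, 74), (2, 835), (3, 438), (2, 778), (4, 49), (2, 699), (2, 412), (4, 42), (2, 633), (2, 43), (2, 601), (2, 159), (2, 693), (2, 575), (2, 983), (2, 462), (2, 160), (2, 373), (3, 114), (2, 748), (2, 436), (2, 1016), (2, 756), (3, 226), (2, 481), (2, 912), (3, 556), (3, 115), (2, 207), (2, 372), (3, 323), (4, 16), (3, 639), (2, 893), (3, 426), (3, 38), (2, 753), (2, 906), (2, 1009), (2, 603), (2, 854), (2, 297), (2, 260), (2, 722), (2, 667), (3, 138), (2, 535), (4, 21), (3, 561), (3, 531), (2, 477), (4, 31), (2, 276), (3, 94), (3, 526), (2, 937), (2, 95), (2, 391), (2, 524), (2, 711), (2, 727), (2, 719), (3, 16), (2, 689), (3, 276), (3, 624), (2, 311), (2, 338), (3, 411), (3, 570), (3, 516), (3, 598), (2, 267),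 (2, 378), (2, 327), (2, 737), (2, 790), (3, 135), (2, 59), (3, 205), (2, 377), (2, 433), (3, 169), (2, 218), (3, 107), (2, 627), (3, 97), (3, 472), (2, 168), (3, 544), (2, 147), (3, 553), (2, 361), (2, 158), (2, 112), (2, 869), (3, 79), (2, 184), (2, 1002), (2, 135), (2, 691), (2, 665), (2, 97), (3, 412), (2, 203), (2, 876), (2, 855), (2, 622), (2, 211), (2, 420), (4, 47), (3, 53), (2, 448), (2, 416), (2, 709), (2, 963), (2, 559), (2, 295), (2, 232), (2, 182), (3, 201), (2, 659), (2, 220), (2, 387), (3, 31), (3, 146), (2, 678), (3, 217), (3, 592), (4, 46), (2, 511), (2, 224), (3, 193), (3, 425), (2, 933), (3, 166), (2, 781), (3, 44), (2, 613), (2, 901), (2, 176), (3, 541), (3, 70), (2, 560), (3, 275), (2, 389), (2, 282), (3, 6), (3, 502), (3, 465), (3, 188), (2, 161), (2, 807), (2, 578), (2, 156), (2, 725), (3, 530), (3, 564), (2, 419), (2, 744),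 (2, 197), (3, 467), (2, 154), (2, 641), (4, 4), (3, 552), (4, 73), (2, 269), (2, 129), (4, 34), (2, 746), (2, 973), (2, 453), (3, 267), (2, 959), (3, 378), (2, 990), (2, 864), (3, 369), (2, 548), (2, 605), (3, 131), (2, 616), (2, 1005), (3, 512), (2, 475), (2, 104), (3, 433), (2, 427), (3, 611), (3, 507), (2, 290), (2, 54), (2, 831), (2, 149), (3, 144), (2, 270), (2, 958), (3, 288), (2, 415), (3, 358), (2, 698), (2, 510), (3, 183), (2, 847), (2, 432), (2, 379), (3, 420), (2, 463), (4, 32), (2, 999), (2, 566), (2, 399), (2, 262), (3, 173), (2, 676), (2, 672), (2, 40), (2, 136), (4, 30), (2, 635), (2, 55), (2, 414), (3, 90), (2, 268), (3, 394), (2, 599), (3, 370), (3, 178), (3, 204), (3, 140), (3, 331), (3, 469), (1, 1), (3, 41), (2, 94), (2, 824), (2, 491), (3, 461), (3, 130), (1, 3), (3, 303), (3, 134), (3, 515), (3, 209), (2, 199), (3, 286), (2,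 905), (2, 0), (2, 259), (3, 476), (3, 19), (2, 114), (3, 258), (2, 977), (2, 375), (3, 413), (3, 296), (2, 532), (3, 245), (2, 495), (2, 969), (3, 42), (2, 288), (3, 535), (2, 740), (2, 418), (3, 418), (2, 696), (2, 248), (4, 12), (3, 219), (2, 530), (3, 310), (3, 187), (2, 479), (2, 971), (3, 622), (2, 382), (2, 413), (2, 46), (2, 25), (3, 33), (2, 195), (2, 868), (2, 1013), (2, 226), (2, 686), (2, 996), (2, 660), (2, 797), (2, 44), (2, 663), (2, 371), (4, 6), (2, 849), (2, 289), (2, 892), (3, 423), (2, 279), (2, 241), (2, 247), (2, 809), (2, 348), (2, 624), (2, 45), (2, 89), (3, 83), (2, 124), (2, 865), (2, 299), (3, 379), (2, 921), (2, 819), (2, 551), (3, 73), (2, 522), (3, 199), (3, 13), (3, 623), (2, 343), (2, 322), (2, 784), (3, 165), (2, 732), (3, 597), (3, 167), (3, 0), (3, 616), (2, 73), (2, 631), (3, 462), (3, 427), (2, 328), (2, 813),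 (2, 538), (2, 275), (2, 877), (2, 57), (2, 609), (2, 754), (3, 444), (3, 410), (3, 351), (2, 424), (3, 239), (3, 306), (3, 338), (3, 289), (2, 125), (3, 414), (2, 10), (3, 601), (2, 283), (3, 280), (3, 287), (2, 281), (3, 380), (3, 260), (3, 325), (3, 456), (3, 125), (2, 777), (2, 604), (2, 130), (2, 444), (4, 75), (2, 844), (2, 845), (3, 20), (3, 250), (4, 35), (2, 569), (3, 382), (2, 308), (3, 373), (2, 53), (2, 170), (2, 856), (2, 932), (2, 318), (2, 987), (2, 87), (2, 703), (3, 574), (3, 572), (2, 98), (2, 113), (3, 608), (2, 591), (2, 515), (2, 174), (2, 180), (2, 943), (4, 8), (2, 690), (4, 39), (3, 101), (2, 862), (3, 399), (3, 46), (3, 109), (3, 613), (3, 349), (3, 460), (3, 243), (3, 555), (2, 941), (3, 618), (3, 68), (3, 437), (3, 392), (2, 1001), (3, 525), (3, 448), (2, 924), (2, 742), (3, 175), (2, 108), (2, 922), (3, 28), (2, 724),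 (2, 71), (2, 231), (2, 828), (2, 315), (3, 480), (3, 159), (2, 1004), (2, 103), (2, 707), (2, 863), (2, 687), (3, 106), (3, 4), (2, 982), (3, 459), (4, 78), (3, 610), (2, 713), (3, 156), (2, 718), (3, 429), (2, 7), (2, 989), (2, 929), (2, 169), (3, 393), (2, 431), (2, 355), (2, 339), (3, 153), (2, 887), (2, 404), (2, 617), (2, 234), (2, 497), (3, 571), (2, 181), (4, 22), (2, 84), (2, 291), (3, 297), (2, 396), (2, 33), (2, 201), (3, 10), (2, 227), (2, 757), (3, 233), (2, 39), (3, 274), (3, 581), (2, 758), (3, 160), (2, 911), (3, 242), (2, 493), (3, 562), (2, 102), (2, 458), (2, 119), (3, 61), (3, 492), (2, 735), (3, 149), (3, 362), (2, 658), (2, 597), (2, 331), (2, 460), (2, 236), (3, 539), (2, 657), (3, 503), (2, 762), (3, 617), (2, 99), (2, 83), (2, 883), (2, 544), (3, 593), (2, 701), (2, 620), (3, 55), (3, 557), (3, 202), (2, 319), (4, 29), (2,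 23), (2, 502), (2, 519), (2, 341), (2, 398), (3, 406), (3, 261), (2, 435), (2, 764), (3, 264), (2, 886), (2, 802), (3, 145), (2, 16), (2, 523), (3, 111), (2, 200), (3, 568), (3, 65), (3, 522), (2, 31), (2, 550), (4, 10), (3, 203), (3, 285), (3, 215), (4, 7), (2, 365), (3, 485), (2, 615), (2, 360), (2, 817), (3, 322), (2, 77), (2, 814), (2, 721), (2, 787), (4, 71), (3, 96), (3, 255), (2, 752), (3, 279), (3, 395), (2, 723), (4, 62), (3, 332), (2, 895), (2, 381), (2, 839), (2, 261), (2, 503), (3, 498), (3, 192), (2, 913), (3, 82), (2, 385), (2, 738), (2, 329), (2, 242), (4, 23), (2, 834), (3, 534), (2, 86), (2, 587), (2, 637), (2, 426), (4, 18), (2, 577), (2, 362), (3, 474), (2, 63), (3, 402), (2, 121), (3, 268), (3, 508), (3, 377), (2, 185), (3, 290), (2, 811), (3, 397), (3, 625), (2, 525), (2, 638), (3, 9), (2, 408), (3, 589), (3, 235), (3, 257),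 (4, 72), (2, 438), (2, 533), (2, 186), (2, 310), (3, 313), (2, 478), (2, 167), (3, 547), (3, 240), (2, 467), (2, 140), (3, 236), (3, 486), (2, 991), (3, 324), (2, 205), (2, 376), (2, 421), (3, 352), (2, 585), (3, 229), (3, 241), (2, 1006), (3, 470), (3, 407), (3, 172), (2, 286), (2, 608), (3, 123), (4, 68), (3, 270), (3, 495), (2, 517), (4, 33), (3, 578), (3, 629), (3, 151), (3, 262), (2, 1022), (2, 60), (3, 594), (3, 49), (2, 562), (3, 520), (2, 1014), (2, 606), (2, 729), (2, 549), (2, 712), (2, 902), (3, 102), (2, 34), (2, 307), (2, 891), (3, 563), (2, 15), (3, 141), (3, 59), (2, 145), (2, 662), (3, 316), (2, 547), (2, 150), (2, 56), (2, 143), (2, 655), (3, 63), (2, 157), (2, 469), (2, 731), (2, 284), (2, 815), (3, 477), (3, 573), (3, 537), (2, 745), (3, 366), (2, 1021), (2, 139), (2, 861), (3, 155), (4, 40), (3, 468), (2, 661), (2, 272), (2,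 842), (2, 255), (2, 944), (2, 188), (2, 85), (2, 280), (3, 230), (3, 211), (2, 212), (2, 948), (3, 103), (2, 581), (2, 401), (2, 405), (2, 512), (3, 64), (3, 560), (2, 955), (3, 120), (2, 152), (2, 335), (2, 32), (2, 859), (2, 968), (2, 498), (3, 212), (3, 391), (3, 361), (2, 557), (3, 326), (3, 81), (2, 117), (2, 653), (3, 481), (3, 273), (4, 20), (2, 776), (3, 77), (2, 69), (2, 134), (2, 496), (2, 798), (3, 177), (2, 177), (2, 303), (2, 872), (2, 406), (4, 59), (2, 62), (2, 927), (2, 449), (3, 491), (2, 513), (3, 536), (3, 110), (2, 685), (2, 840), (2, 771), (2, 402), (2, 454), (4, 74), (2, 20), (2, 673), (2, 370), (2, 820), (3, 360), (3, 357), (3, 272), (2, 274), (2, 118), (3, 543), (2, 850), (2, 346), (3, 559), (2, 896), (2, 979), (3, 637), (2, 471), (2, 215), (2, 805), (2, 975), (3, 638), (2, 541), (2, 313), (2, 743), (3, 136), (2, 514), (2,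 644), (3, 579), (4, 77), (3, 546), (2, 309), (3, 602), (2, 1010), (2, 567), (2, 884), (2, 18), (2, 843), (3, 137), (3, 614), (2, 900), (2, 239), (2, 194), (3, 596), (3, 22), (3, 387), (3, 312), (2, 142), (2, 110), (1, 5), (3, 194), (3, 191), (3, 390), (3, 475), (2, 520), (2, 374), (2, 509), (3, 583), (2, 28), (2, 954), (2, 285), (2, 230), (2, 582), (2, 708), (3, 308), (3, 309), (2, 82), (4, 48), (2, 422), (3, 383), (2, 312), (2, 429), (3, 364), (2, 786), (2, 394), (2, 984), (3, 122), (2, 683), (2, 80), (3, 174), (3, 633), (2, 669), (3, 36), (2, 878), (1, 2), (2, 461), (2, 571), (2, 643), (3, 37), (2, 962), (2, 957), (2, 252), (3, 341), (2, 101), (3, 626), (2, 838), (3, 246), (2, 885), (2, 888), (2, 115), (3, 294), (3, 548), (2, 126), (2, 976), (2, 946), (3, 223), (2, 640), (3, 190), (3, 259), (2, 293), (2, 651), (4, 76), (2, 736), (2, 238), (2,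 131), (2, 952), (3, 439), (3, 566), (4, 28), (2, 688), (2, 369), (3, 398), (2, 568), (2, 292), (3, 318), (2, 37), (3, 121), (2, 72), (3, 29), (3, 490), (2, 352), (3, 210), (2, 151), (3, 356), (3, 343), (3, 162), (3, 619), (3, 496), (2, 233), (2, 621), (3, 216), (3, 58), (3, 517), (2, 508), (2, 978), (3, 207), (3, 314), (2, 390), (4, 63), (2, 468), (2, 650), (2, 994), (3, 218), (3, 521), (2, 516), (3, 57), (2, 972), (3, 48), (3, 299), (1, 7), (2, 705), (2, 629), (3, 440), (3, 7), (3, 321), (2, 473), (2, 772), (2, 918), (3, 195), (2, 779), (3, 234), (3, 590), (2, 793), (4, 69), (3, 345), (2, 349), (3, 455), (2, 2), (3, 253), (3, 441), (2, 407), (3, 62), (3, 327), (3, 488), (3, 47), (3, 337), (3, 93), (2, 287), (3, 150), (3, 513), (2, 919), (2, 450), (2, 359), (3, 5), (2, 553), (2, 345), (3, 180), (2, 380), (2, 866), (3, 2), (2, 12), (3, 317), (2,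 808), (2, 668), (2, 619), (4, 36), (2, 425), (3, 315), (3, 329), (3, 506), (3, 354), (3, 386), (2, 257), (3, 228), (4, 17), (3, 451), (2, 576), (3, 105), (4, 64), (2, 36), (3, 1), (3, 443), (3, 334), (3, 278), (3, 129), (3, 435), (2, 191), (3, 487), (2, 799), (4, 52), (3, 100), (4, 27), (2, 464), (4, 56), (3, 163), (2, 527), (2, 832), (2, 766), (2, 333), (2, 760), (2, 443), (4, 0), (2, 853), (2, 803), (2, 1018), (2, 612), (2, 570), (3, 238), (2, 716), (3, 17), (2, 202), (2, 903), (2, 953), (3, 304), (3, 76), (3, 301), (2, 483), (3, 292), (2, 487), (3, 389), (2, 244), (2, 492), (2, 675), (3, 587), (3, 403), (3, 148), (2, 189), (2, 111), (2, 768), (3, 266), (2, 358), (2, 537), (3, 269), (2, 714), (2, 830), (3, 320), (3, 421), (3, 384), (2, 296), (2, 505), (2, 747), (3, 247), (2, 41), (3, 126), (2, 196), (2, 476), (2, 320), (3, 26), (2, 588), (2, 546),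 (3, 419), (2, 107), (2, 213), (2, 949), (2, 897), (3, 542), (2, 482), (2, 997), (3, 416), (2, 789), (4, 43), (3, 221), (2, 456), (2, 459), (2, 1), (2, 720), (2, 52), (3, 431), (2, 908), (2, 806), (2, 326), (2, 873), (3, 371), (2, 366), (2, 846), (3, 550), (2, 146), (3, 335), (2, 804), (3, 368), (3, 452), (2, 317), (3, 196), (3, 112), (2, 960), (2, 654), (3, 127), (2, 223), (2, 480), (3, 615), (1, 8), (2, 65), (3, 87), (2, 836), (3, 612), (2, 889), (3, 248), (2, 144), (2, 630), (3, 632), (2, 882), (2, 728), (2, 38), (2, 791), (2, 344), (2, 785), (2, 936), (2, 823), (4, 53), (3, 95), (2, 857), (2, 579), (3, 85), (2, 545), (2, 393), (2, 35), (4, 13), (3, 88), (2, 51), (4, 45), (3, 231), (3, 375), (2, 273), (3, 436), (4, 5), (3, 171), (2, 1019), (2, 837), (3, 607), (2, 801), (2, 763), (2, 528), (2, 91), (3, 181), (2, 254), (2, 417), (3, 504), (2, 253),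 (3, 340), (2, 788), (3, 237), (3, 60), (3, 252), (3, 628), (3, 409), (2, 1008), (3, 621), (2, 951), (2, 367), (3, 214), (4, 44), (2, 916), (3, 186), (2, 706), (3, 298), (3, 168), (3, 527), (3, 533), (3, 91), (3, 447), (3, 528), (3, 339), (2, 930), (3, 347), (3, 249), (3, 424), (2, 593), (3, 15), (2, 452), (2, 945), (3, 30), (3, 225), (3, 365), (2, 529), (3, 34), (3, 21), (3, 479), (2, 536), (2, 368), (2, 939), (2, 956), (2, 153), (2, 216), (2, 127), (3, 428), (2, 472), (2, 923), (3, 381), (3, 3), (2, 209), (2, 542), (2, 278), (3, 118), (2, 730), (4, 1), (2, 451), (2, 917), (4, 2), (3, 300), (2, 400), (2, 304), (2, 245), (2, 565), (2, 749), (2, 217), (4, 67), (3, 511), (2, 116), (2, 632), (2, 800), (3, 603), (2, 120), (2, 330), (3, 434), (2, 3), (3, 170), (2, 920), (2, 430), (3, 430), (2, 357), (3, 454), (2, 258), (3, 307), (2, 251), (2, 455), (2,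 935), (3, 227), (2, 583), (2, 829), (3, 415), (3, 501), (2, 173), (2, 445), (2, 684), (2, 90), (1, 4), (3, 483), (2, 904), (2, 981), (3, 143), (2, 926), (3, 184), (2, 68), (2, 704), (2, 314), (2, 384), (2, 193), (2, 852), (3, 463), (2, 342), (3, 108), (3, 489), (2, 940), (3, 69), (2, 767), (4, 60), (2, 966), (2, 198), (2, 210), (3, 353), (3, 283), (3, 422), (2, 914), (3, 505), (2, 294), (3, 330), (2, 774), (2, 1015), (2, 337), (2, 470), (2, 148), (2, 47), (3, 277), (3, 471), (3, 72), (4, 9), (2, 354), (3, 116), (3, 449), (3, 482), (2, 898), (4, 15), (2, 639), (3, 609), (2, 739), (4, 19), (2, 759), (2, 694), (3, 25), (2, 833), (2, 74), (3, 464), (2, 347), (2, 100), (2, 925), (3, 133), (2, 679), (2, 179), (4, 41), (3, 40), (2, 647), (2, 22), (2, 163), (2, 692), (4, 51), (2, 995), (2, 434), (3, 450), (3, 282), (2, 183), (3, 473), (2, 750), (2, 440),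 (2, 910), (2, 364), (4, 3), (3, 484), (3, 11), (4, 65), (3, 401), (2, 66), (2, 137), (2, 928), (2, 540), (2, 494), (2, 214), (2, 105), (2, 870), (2, 332), (2, 172), (3, 604), (3, 545), (2, 592), (2, 826), (2, 256), (2, 6), (2, 14), (2, 666), (2, 386), (2, 970), (2, 890), (2, 792), (2, 775), (2, 5), (2, 96), (3, 540), (2, 138), (2, 518), (3, 348), (2, 123), (2, 1023), (2, 600), (2, 8), (2, 50), (2, 534), (3, 198), (2, 336), (4, 55), (3, 333), (2, 915), (3, 509), (3, 493), (2, 240), (2, 249), (3, 80), (3, 104), (3, 224), (4, 58), (2, 132), (3, 52), (3, 176), (3, 585), (2, 243), (2, 626), (2, 942), (2, 734), (3, 374), (2, 671), (2, 75), (3, 606), (2, 677), (2, 246), (3, 620), (3, 311), (2, 321), (4, 38), (2, 301), (2, 695), (3, 584), (2, 827), (2, 596), (2, 48), (2, 623), (2, 590), (3, 117), (2, 277), (3, 514), (2, 773), (2, 702), (3, 344), (3, 164),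 (3, 458), (2, 388), (2, 521), (2, 446), (2, 636), (3, 404), (2, 42), (2, 306), (2, 625), (4, 79)]

def titsDigits : List (List ℕ) := [[0, 262, 4, 0, 1, 0, 1], [0, 1508, 2, 4, 1, 1, 1, 0, 2]]

end Cfsg.Agent.Lib.RuPerm.OrbitData
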