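import Cfsg.Agent.Lib.RuPerm.BigChain
import Cfsg.Agent.Lib.RuPerm.TitsChain
import Cfsg.Agent.Lib.RuPerm.OrbitData

/-!
Kernel checks for the Rudvalis certificate: suborbits, the orders of the generators, and the Tits subgroup.
-/

set_option autoImplicit false

namespace Cfsg.Agent.Lib.RuPerm.OrbitCheck

open Cfsg.Agent.Lib.SporMatrix Code28 BigChain TitsChain OrbitData

/-- A suborbit listed with a tree. -/
def okOrbit (gens : List ℕ) (t : Chain.Tree Pt) : Bool :=
  t.all fun e => bif Nat.beq e.depth 0 then Nat.beq e.pt (t.get 0).pt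
    else Nat.blt (t.get e.par).depth e.depth && Nat.beq e.pt (apply (gens.getD e.sg one) (t.get e.par).pt)

/-- The point named by a tag: 0 the base, 1 the tree of the second level, j + 2 the j-th further suborbit. -/
def tagPt (b : ℕ) (M : Chain.Level ℕ) (os : List (Chain.Tree Pt)) : ℕ × ℕ → ℕ
  | (0, _) => b
  | (1, i) => apply (M.tree.get i).elem M.base
  | (k + 2, i) => ((os.getD k (.leaf ⟨b, 0, 0, 0⟩)).get i).pt

/-- Sorted points against their tags. -/
def okTags (L M : Chain.Level ℕ) (os : List (Chain.Tree Pt)) : List ℕ → List (ℕ × ℕ) → Bool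
  | [], [] => true
  | i :: is, t :: ts => Nat.blt t.1 (os.length + 2) &&
      Nat.beq (apply (L.tree.get i).elem L.base) (tagPt L.base M os t) && okTags L M os is ts
  | _, _ => false

def bigOs : List (Chain.Tree Pt) := [bigOrbit0]

def titsOs : List (Chain.Tree Pt) := [titsOrbit0, titsOrbit1, titsOrbit2]

theorem bigOrbit_ok : okOrbit bigLevel1.gens bigOrbit0 = true := by decide +kernel

theorem titsOrbit_ok : okOrbit titsLevel1.gens titsOrbit0 = true ∧ okOrbit titsLevel1.gens titsOrbit1 = true ∧
    okOrbit titsLevel1.gens titsOrbit2 = true := by decide +kernel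

theorem bigTags_ok : okTags bigLevel0 bigLevel1 bigOs bigLevel0.sorted bigTags = true := by decide +kernel

theorem titsTags_ok : okTags titsLevel0 titsLevel1 titsOs titsLevel0.sorted titsTags = true := by decide +kernel

theorem sizes : bigLevel0.tree.size = 4060 ∧ bigLevel1.tree.size = 1755 ∧ bigOrbit0.size = 2304 ∧
    titsLevel0.tree.size = 1755 ∧ titsLevel1.tree.size = 10 ∧ titsOrbit0.size = 1024 ∧
    titsOrbit1.size = 640 ∧ titsOrbit2.size = 80 := by decide +kernel

/-- Orders of the two generators and of their product. -/
def okGens (gs : List ℕ) (p : ℕ) : Bool :=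
  Nat.beq gs.length 2 && Nat.beq (wordB gs [0, 0]) one && Nat.beq (wordB gs [1, 1, 1]) one &&
    Nat.beq (wordB gs (List.replicate p [0, 1]).flatten) one

theorem bigGens_ok : okGens bigLevel0.gens 29 = true := by decide +kernel

theorem titsGens_ok : okGens titsLevel0.gens 13 = true := by decide +kernel

/-- The generators of the Tits subgroup lie in the big group and fix its base point. -/
def okInside : List ℕ → List (List ℕ) → Bool
  | [], [] => true
  | g :: gs, d :: ds => Nat.beq g (prodB bigChain d) && Nat.beq (apply g bigLevel0.base) bigLevel0.base &&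
      okInside gs ds
  | _, _ => false

theorem inside_ok : okInside titsLevel0.gens titsDigits = true := by decide +kernel

theorem bases_lt : bigLevel0.base < 2 ^ 28 ∧ titsLevel0.base < 2 ^ 28 := by decide +kernel

theorem bases_in_orbit : (bigChain.all fun L => bigLevel0.sorted.any fun i =>
      Nat.beq L.base (apply (bigLevel0.tree.get i).elem bigLevel0.base)) = true ∧
    (titsChain.all fun L => titsLevel0.sorted.any fun i =>
      Nat.beq L.base (apply (titsLevel0.tree.get i).elem titsLevel0.base)) = true := by decide +kernel

end Cfsg.Agent.Lib.RuPerm.OrbitCheck
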