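import Cfsg.Agent.Lib.RuPerm.Code28
import Cfsg.Agent.Lib.RuPerm.Criterion
import Cfsg.Agent.Lib.RuPerm.OrbitCheck

/-!
A checked chain of bit matrices as a transitive permutation group, and its simplicity.
-/

set_option autoImplicit false

namespace Cfsg.Agent.Lib.RuPerm.Action

open Cfsg.Agent.Lib.SporMatrix Code28 OrbitData OrbitCheck
open scoped MatrixGroups

attribute [local irreducible] Code28.mul Code28.apply Code28.dec Code28.vecKey Code28.one

/-- Column vectors, with the action of the matrices. -/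
def Point : Type := Fin 28 → ZMod 2

instance : Finite Point := inferInstanceAs (Finite (Fin 28 → ZMod 2))

instance : MulAction (GL (Fin 28) (ZMod 2)) Point where
  smul g v := Matrix.mulVec (g : Mat) v
  one_smul := fun (v : Fin 28 → ZMod 2) => by
    show Matrix.mulVec (((1 : GL (Fin 28) (ZMod 2)) : Mat)) v = v
    rw [Units.val_one, Matrix.one_mulVec]
  mul_smul := fun g h (v : Fin 28 → ZMod 2) => by
    show Matrix.mulVec (((g * h : GL (Fin 28) (ZMod 2)) : Mat)) v = Matrix.mulVec (g : Mat) (Matrix.mulVec (h : Mat) v)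
    rw [Units.val_mul, Matrix.mulVec_mulVec]

/-- A coded point. -/
def pt (b : ℕ) : Point := decV b

theorem smul_pt {g : GL (Fin 28) (ZMod 2)} {c : ℕ} (h : (g : Mat) = dec c) (b : ℕ) : g • pt b = pt (apply c b) := by
  show Matrix.mulVec (g : Mat) (decV b) = decV (apply c b)
  rw [h, decV_apply]

theorem apply_injective {c d b : ℕ} (h : pt (apply c b) = pt (apply d b)) : apply c b = apply d b :=
  decV_injective (apply_lt c b) (apply_lt d b) h

theorem exists_code (v : Point) : ∃ n, n < 2 ^ 28 ∧ pt n = v := by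
  have hf : Function.Injective (fun k : Fin (2 ^ 28) => (decV k.1 : Fin 28 → ZMod 2)) :=
    fun a b h => Fin.ext (decV_injective a.2 b.2 h)
  have hc : Nat.card (Fin 28 → ZMod 2) = Nat.card (Fin (2 ^ 28)) := by
    rw [Nat.card_fin, Nat.card_fun, Nat.card_zmod, Nat.card_fin]
  obtain ⟨k, hk⟩ := ((Nat.bijective_iff_injective_and_card _).2 ⟨hf, hc.symm⟩).2 v
  exact ⟨k.1, k.2, hk⟩

theorem vecKey_eq_iff {b : ℕ} {g g' : GL (Fin 28) (ZMod 2)} :
    vecKey b (g : Mat) = vecKey b (g' : Mat) ↔ g • pt b = g' • pt b := by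
  refine ⟨fun h => ?_, fun h => ?_⟩
  · obtain ⟨n, hn, hn'⟩ := exists_code (g • pt b)
    obtain ⟨m, hm, hm'⟩ := exists_code (g' • pt b)
    have e1 : ∃ v, v < 2 ^ 28 ∧ decV v = Matrix.mulVec (g : Mat) (decV b) := ⟨n, hn, hn'⟩
    have e2 : ∃ v, v < 2 ^ 28 ∧ decV v = Matrix.mulVec (g' : Mat) (decV b) := ⟨m, hm, hm'⟩
    rw [vecKey, keyOf, dif_pos e1, vecKey, keyOf, dif_pos e2] at h
    show Matrix.mulVec (g : Mat) (decV b) = Matrix.mulVec (g' : Mat) (decV b)
    rw [← e1.choose_spec.2, h, e2.choose_spec.2]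
  · have h' : Matrix.mulVec (g : Mat) (decV b) = Matrix.mulVec (g' : Mat) (decV b) := h
    simp only [vecKey, h']

section Levels

variable {L : Chain.Level ℕ} {rest : List (Chain.Level ℕ)}

theorem elem_zero (h : Chain.checkLevel coding L rest = true) : dec (L.tree.get 0).elem = 1 := by
  obtain ⟨-, -, ht, -, h0, -, -, -⟩ := Chain.checkLevel_spec coding h
  have := ht _ (Chain.Tree.get_mem L.tree 0)
  rw [Chain.checkTree, h0] at this
  simp only [Nat.beq_refl, cond_true] at this
  exact (coding.beq_val _ _ this).trans coding.val_one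

theorem keys_nodup (h : Chain.checkLevel coding L rest = true) :
    (L.tree.toList.map fun en => apply en.elem L.base).Nodup ∧
      (L.sorted.map fun i => apply (L.tree.get i).elem L.base).Perm
        (L.tree.toList.map fun en => apply en.elem L.base) := by
  obtain ⟨-, -, -, -, -, hlen, hinc, -⟩ := Chain.checkLevel_spec coding h
  have h1 : (L.sorted.map fun i => apply (L.tree.get i).elem L.base).Nodup :=
    (Chain.increasing_pairwise hinc).imp (fun h => Nat.ne_of_lt h)
  have h2 : (L.sorted.map fun i => apply (L.tree.get i).elem L.base).Subperm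
      (L.tree.toList.map fun en => apply en.elem L.base) := by
    refine h1.subperm ?_
    intro x hx
    obtain ⟨i, -, rfl⟩ := List.mem_map.1 hx
    exact List.mem_map.2 ⟨_, Chain.Tree.get_mem _ _, rfl⟩
  have h3 := h2.perm_of_length_le (by simp [hlen, Chain.Tree.length_toList])
  exact ⟨h3.nodup_iff.1 h1, h3⟩

theorem root_of_key (h : Chain.checkLevel coding L rest = true) {en : Chain.Entry ℕ} (hen : en ∈ L.tree.toList)
    (hk : vecKey L.base (dec en.elem) = vecKey L.base 1) : dec en.elem = 1 := by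
  rw [← elem_zero h, vecKey_eq, vecKey_eq] at hk
  have := List.inj_on_of_nodup_map (keys_nodup h).1 hen (Chain.Tree.get_mem L.tree 0) hk
  rw [this, elem_zero h]

theorem mem_rest_of_fix (h : Chain.check coding (L :: rest) = true) {m : Mat}
    (hm : m ∈ Chain.gen coding (L :: rest)) (hfix : vecKey L.base m = vecKey L.base 1) :
    m ∈ Chain.gen coding rest := by
  obtain ⟨en, hen, y, hy, rfl⟩ := (Chain.mem_gen_iff coding h).1 hm
  have hh := h
  rw [Chain.check, Bool.and_eq_true] at hh
  have hy' : coding.phi L.base y = coding.phi L.base 1 := Chain.phi_gen_tail coding h y hy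
  have he : vecKey L.base (dec en.elem) = vecKey L.base 1 :=
    (coding.phi_congr L.base (dec en.elem) y hy').symm.trans hfix
  rw [show coding.val en.elem = 1 from root_of_key hh.1 hen he, one_mul]
  exact hy

end Levels

theorem gen_getD (L : Chain.Level ℕ) (rest : List (Chain.Level ℕ)) (i : ℕ) :
    dec (L.gens.getD i one) ∈ Chain.gen coding (L :: rest) :=
  Chain.getD_mem_closure coding (gs := L.gens) i

theorem eq_one_of_fix : ∀ {Ls : List (Chain.Level ℕ)}, Chain.check coding Ls = true → ∀ {m : Mat},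
    m ∈ Chain.gen coding Ls → (∀ L ∈ Ls, vecKey L.base m = vecKey L.base 1) → m = 1
  | [], _, m, hm, _ => by
    have : Chain.gen coding ([] : List (Chain.Level ℕ)) = ⊥ := by simp [Chain.gen, Chain.nextGens]
    rw [this] at hm
    exact Submonoid.mem_bot.1 hm
  | L :: rest, h, m, hm, hfix => by
    have hh := h
    rw [Chain.check, Bool.and_eq_true] at hh
    exact eq_one_of_fix hh.2 (mem_rest_of_fix h hm (hfix L List.mem_cons_self))
      fun L' hL' => hfix L' (List.mem_cons_of_mem _ hL')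

/-- The data of a certified permutation group. -/
structure Cert where
  L : Chain.Level ℕ
  M : Chain.Level ℕ
  rest : List (Chain.Level ℕ)
  os : List (Chain.Tree Pt)
  tags : List (ℕ × ℕ)
  order : ℕ
  p : ℕ
  prime : p.Prime
  base_lt : L.base < 2 ^ 28
  chk : Chain.check coding (L :: M :: rest) = true
  order_eq : Chain.orderOfChain (L :: M :: rest) = order
  orb_ok : ∀ t ∈ os, okOrbit M.gens t = true
  tags_ok : okTags L M os L.sorted tags = true
  total : L.tree.size = 1 + (M.tree.size + (os.map Chain.Tree.size).sum)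
  gens_ok : okGens L.gens p = true
  bases : ((L :: M :: rest).all fun K => L.sorted.any fun i =>
    Nat.beq K.base (apply (L.tree.get i).elem L.base)) = true
  one_lt : 1 < order
  p_dvd : p ∣ L.tree.size
  p_sq : ¬ p ^ 2 ∣ order
  arith : ∀ I : Finset (Fin (os.length + 1)), I.Nonempty →
    (1 + ∑ i ∈ I, (M.tree.size :: os.map Chain.Tree.size).getD i.1 0) ∣ L.tree.size → I = Finset.univ

theorem wordB_dec (gs : List ℕ) (i : ℕ) (w : List ℕ) : dec (wordB gs (i :: w)) = dec (gs.getD i one) * dec (wordB gs w) :=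
  dec_mul _ _

namespace Cert

variable (C : Cert)

/-- The first generator as a code. -/
def tC : ℕ := C.L.gens.getD 0 one

/-- The second generator as a code. -/
def sC : ℕ := C.L.gens.getD 1 one

theorem gens_eq : C.L.gens = [C.tC, C.sC] := by
  have h := C.gens_ok
  simp only [okGens, Bool.and_eq_true] at h
  have hl := Nat.eq_of_beq_eq_true h.1.1.1
  match hgs : C.L.gens, hl with
  | [a, b], _ => simp [tC, sC, hgs]

theorem t_sq : dec C.tC * dec C.tC = 1 := by
  have h := C.gens_ok
  simp only [okGens, Bool.and_eq_true] at h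
  have := congrArg dec (Nat.eq_of_beq_eq_true h.1.1.2)
  rw [wordB_dec, wordB_dec, wordB, dec_one, mul_one] at this
  exact this

theorem s_cube : dec C.sC * (dec C.sC * dec C.sC) = 1 := by
  have h := C.gens_ok
  simp only [okGens, Bool.and_eq_true] at h
  have := congrArg dec (Nat.eq_of_beq_eq_true h.1.2)
  rw [wordB_dec, wordB_dec, wordB_dec, wordB, dec_one, mul_one] at this
  exact this

/-- The first generator. -/
def t : GL (Fin 28) (ZMod 2) := ⟨dec C.tC, dec C.tC, C.t_sq, C.t_sq⟩

/-- The second generator. -/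
def s : GL (Fin 28) (ZMod 2) :=
  ⟨dec C.sC, dec C.sC * dec C.sC, C.s_cube, by rw [mul_assoc]; exact C.s_cube⟩

/-- The group. -/
def grp : Subgroup (GL (Fin 28) (ZMod 2)) := Subgroup.closure {C.t, C.s}

/-- Inclusion into matrices. -/
def incl : GL (Fin 28) (ZMod 2) →* Mat := Units.coeHom _

theorem image_gens : incl '' {C.t, C.s} = {m | ∃ c ∈ Chain.nextGens (C.L :: C.M :: C.rest), m = coding.val c} := by
  ext m
  simp only [Chain.nextGens, gens_eq, Set.image_insert_eq, Set.image_singleton, Set.mem_insert_iff,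
    Set.mem_singleton_iff, Set.mem_ofPred_eq, List.mem_cons, List.not_mem_nil, or_false]
  constructor
  · rintro (rfl | rfl)
    exacts [⟨_, Or.inl rfl, rfl⟩, ⟨_, Or.inr rfl, rfl⟩]
  · rintro ⟨c, (rfl | rfl), rfl⟩
    exacts [Or.inl rfl, Or.inr rfl]

theorem card_grp : Nat.card C.grp = C.order := by
  rw [← C.order_eq]
  exact Chain.card_closure coding incl Units.val_injective _ _ C.image_gens C.chk

theorem mem_gen {m : Mat} : m ∈ Chain.gen coding (C.L :: C.M :: C.rest) ↔ ∃ g ∈ C.grp, (g : Mat) = m := by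
  have hmap : Chain.gen coding (C.L :: C.M :: C.rest) = C.grp.toSubmonoid.map incl := by
    rw [grp, Subgroup.closure_toSubmonoid_of_finite, MonoidHom.map_mclosure, C.image_gens]
    rfl
  rw [hmap]
  exact Iff.rfl

theorem chk_split : Chain.checkLevel coding C.L (C.M :: C.rest) = true ∧
    Chain.check coding (C.M :: C.rest) = true := by
  have h := C.chk
  rwa [Chain.check, Bool.and_eq_true] at h

/-- The orbit of the base point. -/
abbrev Orb : Type := MulAction.orbit C.grp (pt C.L.base)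

theorem entry_mem {en : Chain.Entry ℕ} (hen : en ∈ C.L.tree.toList) :
    ∃ g : C.grp, ((g : GL (Fin 28) (ZMod 2)) : Mat) = dec en.elem :=
  let ⟨g, hg, he⟩ := C.mem_gen.1 (Chain.tree_mem_gen coding C.chk_split.1 en hen); ⟨⟨g, hg⟩, he⟩

theorem root_smul (g : GL (Fin 28) (ZMod 2)) {en : Chain.Entry ℕ} (hg : vecKey C.L.base (g : Mat) =
    vecKey C.L.base (dec en.elem)) : g • pt C.L.base = pt (apply en.elem C.L.base) := by
  rw [vecKey_eq] at hg
  have e : ∃ v, v < 2 ^ 28 ∧ decV v = Matrix.mulVec (g : Mat) (decV C.L.base) :=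
    let ⟨n, hn, hn'⟩ := exists_code (g • pt C.L.base); ⟨n, hn, hn'⟩
  rw [vecKey, keyOf, dif_pos e] at hg
  show Matrix.mulVec (g : Mat) (decV C.L.base) = _
  rw [← e.choose_spec.2, hg]
  rfl

theorem mem_orbit_iff {u : Point} :
    u ∈ MulAction.orbit C.grp (pt C.L.base) ↔ ∃ en ∈ C.L.tree.toList, u = pt (apply en.elem C.L.base) := by
  constructor
  · rintro ⟨g, rfl⟩
    obtain ⟨en, hen, y, hy, he⟩ := (Chain.mem_gen_iff coding C.chk).1 (C.mem_gen.2 ⟨g, g.2, rfl⟩)
    refine ⟨en, hen, ?_⟩
    show (g : GL (Fin 28) (ZMod 2)) • pt C.L.base = _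
    refine C.root_smul _ ?_
    rw [he]
    exact coding.phi_congr C.L.base (dec en.elem) y (Chain.phi_gen_tail coding C.chk y hy)
  · rintro ⟨en, hen, rfl⟩
    obtain ⟨g, hg⟩ := C.entry_mem hen
    exact ⟨g, smul_pt hg _⟩

theorem card_orb : Nat.card C.Orb = C.L.tree.size := by
  rw [← Chain.Tree.length_toList]
  let f : Fin C.L.tree.toList.length → C.Orb := fun i =>
    ⟨pt (apply (C.L.tree.toList[i.1]).elem C.L.base), C.mem_orbit_iff.2 ⟨_, List.getElem_mem _, rfl⟩⟩
  have hf : Function.Bijective f := by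
    refine ⟨fun i j h => ?_, ?_⟩
    · have h' := apply_injective (congrArg Subtype.val h)
      have hnd := (keys_nodup C.chk_split.1).1
      apply Fin.ext
      exact (hnd.getElem_inj_iff (hi := by simp) (hj := by simp)).1 (by simpa using h')
    · rintro ⟨u, hu⟩
      obtain ⟨en, hen, rfl⟩ := C.mem_orbit_iff.1 hu
      obtain ⟨i, hi, rfl⟩ := List.getElem_of_mem hen
      exact ⟨⟨i, hi⟩, rfl⟩
  rw [← Nat.card_eq_of_bijective f hf, Nat.card_fin]

/-- The base point of the orbit. -/
def x0 : C.Orb := ⟨pt C.L.base, MulAction.mem_orbit_self _⟩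

theorem exists_stab {m : Mat} (hm : m ∈ Chain.gen coding (C.M :: C.rest)) :
    ∃ g : C.grp, g • C.x0 = C.x0 ∧ ((g : GL (Fin 28) (ZMod 2)) : Mat) = m := by
  obtain ⟨g, hg, he⟩ := C.mem_gen.1 (Chain.gen_tail_le coding C.chk_split.1 hm)
  refine ⟨⟨g, hg⟩, ?_, he⟩
  have h := Chain.phi_gen_tail coding C.chk m hm
  change vecKey C.L.base m = vecKey C.L.base 1 at h
  rw [← he, ← Units.val_one] at h
  have h' := vecKey_eq_iff.1 h
  rw [one_smul] at h'
  exact Subtype.ext h'

theorem faithful (g : C.grp) (h : ∀ a : C.Orb, g • a = a) : g = 1 := by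
  refine Subtype.ext (Units.ext ?_)
  show ((g : GL (Fin 28) (ZMod 2)) : Mat) = 1
  refine eq_one_of_fix C.chk (C.mem_gen.2 ⟨g, g.2, rfl⟩) fun K hK => ?_
  have hb := List.all_eq_true.1 C.bases K hK
  simp only [List.any_eq_true] at hb
  obtain ⟨i, -, hi⟩ := hb
  have hu : pt K.base ∈ MulAction.orbit C.grp (pt C.L.base) :=
    C.mem_orbit_iff.2 ⟨_, Chain.Tree.get_mem _ _, by rw [Nat.eq_of_beq_eq_true hi]⟩
  have h1 : (g : GL (Fin 28) (ZMod 2)) • pt K.base = (1 : GL (Fin 28) (ZMod 2)) • pt K.base :=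
    (congrArg Subtype.val (h ⟨_, hu⟩)).trans (one_smul _ _).symm
  exact vecKey_eq_iff.2 h1

/-- The codes of a suborbit. -/
def sub (i : ℕ) : List ℕ :=
  match i with
  | 0 => C.M.tree.toList.map fun en => apply en.elem C.M.base
  | k + 1 => ((C.os.getD k (.leaf ⟨C.L.base, 0, 0, 0⟩)).toList.map Pt.pt)

/-- A suborbit as a set of points of the orbit. -/
def subSet (i : ℕ) : Set C.Orb := {a | ∃ c ∈ C.sub i, (a : Point) = pt c}

theorem sub_root : ∀ i < C.os.length + 1, ∃ r, ∀ c ∈ C.sub i, ∃ m ∈ Chain.gen coding (C.M :: C.rest),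
    pt c = Matrix.mulVec m (decV r) := by
  intro i hi
  obtain ⟨hchkM, -⟩ : Chain.checkLevel coding C.M C.rest = true ∧ Chain.check coding C.rest = true := by
    have h := C.chk_split.2
    rwa [Chain.check, Bool.and_eq_true] at h
  match i with
  | 0 =>
    refine ⟨C.M.base, fun c hc => ?_⟩
    obtain ⟨en, hen, rfl⟩ := List.mem_map.1 hc
    exact ⟨_, Chain.tree_mem_gen coding hchkM en hen, decV_apply _ _⟩
  | k + 1 =>
    have hk : k < C.os.length := by omega
    have ht := C.orb_ok _ (List.getElem_mem hk)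
    rw [okOrbit, Chain.Tree.all_iff] at ht
    refine ⟨((C.os[k]).get 0).pt, fun c hc => ?_⟩
    simp only [sub, List.getD_eq_getElem _ _ hk] at hc
    obtain ⟨e, he, rfl⟩ := List.mem_map.1 hc
    clear hc
    generalize C.os[k] = T at ht he ⊢
    induction hd : e.depth using Nat.strong_induction_on generalizing e with
    | _ d ih =>
      have h := ht e he
      rcases hb : Nat.beq e.depth 0 with _ | _
      · rw [hb, cond_false, Bool.and_eq_true, Nat.blt_eq] at h
        obtain ⟨m, hm, hme⟩ := ih _ (by omega) _ (Chain.Tree.get_mem T e.par) rfl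
        have hm2 := Submonoid.mul_mem _ (gen_getD C.M C.rest e.sg) hm
        refine ⟨_, hm2, ?_⟩
        rw [Nat.eq_of_beq_eq_true h.2, ← Matrix.mulVec_mulVec]
        show decV (apply _ _) = _
        rw [decV_apply]
        exact congrArg (Matrix.mulVec (dec (C.M.gens.getD e.sg one))) hme
      · rw [hb, cond_true] at h
        exact ⟨1, one_mem _, by rw [Nat.eq_of_beq_eq_true h, Matrix.one_mulVec]; rfl⟩

theorem sub_conn (i : Fin (C.os.length + 1)) : ∀ a ∈ C.subSet i, ∀ b ∈ C.subSet i,
    ∃ h : C.grp, h • C.x0 = C.x0 ∧ h • a = b := by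
  rintro a ⟨ca, hca, ha⟩ b ⟨cb, hcb, hb⟩
  obtain ⟨r, hr⟩ := C.sub_root i.1 i.2
  obtain ⟨ma, hma, hea⟩ := hr ca hca
  obtain ⟨mb, hmb, heb⟩ := hr cb hcb
  obtain ⟨g, hg0, hge⟩ := C.exists_stab hma
  obtain ⟨g', hg0', hge'⟩ := C.exists_stab hmb
  refine ⟨g' * g⁻¹, ?_, ?_⟩
  · rw [mul_smul, inv_smul_eq_iff.2 hg0.symm, hg0']
  · apply Subtype.ext
    show ((g' : GL (Fin 28) (ZMod 2)) * (g : GL (Fin 28) (ZMod 2))⁻¹) • (a : Point) = (b : Point)
    have ea : (a : Point) = (g : GL (Fin 28) (ZMod 2)) • pt r := by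
      rw [ha, hea, ← hge]
      rfl
    have eb : (b : Point) = (g' : GL (Fin 28) (ZMod 2)) • pt r := by
      rw [hb, heb, ← hge']
      rfl
    rw [ea, eb, mul_smul, inv_smul_smul]

theorem okTags_spec {L M : Chain.Level ℕ} {os : List (Chain.Tree Pt)} :
    ∀ {is : List ℕ} {ts : List (ℕ × ℕ)}, okTags L M os is ts = true →
      ∀ i ∈ is, ∃ t : ℕ × ℕ, t.1 < os.length + 2 ∧ apply (L.tree.get i).elem L.base = tagPt L.base M os t
  | [], _, _, i, hi => by simp at hi
  | _ :: _, [], h, _, _ => by simp [okTags] at h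
  | i :: is, t :: ts, h, j, hj => by
    simp only [okTags, Bool.and_eq_true, Nat.blt_eq] at h
    rcases List.mem_cons.1 hj with rfl | hj
    · exact ⟨t, h.1.1, Nat.eq_of_beq_eq_true h.1.2⟩
    · exact okTags_spec h.2 j hj

theorem sub_cover (a : C.Orb) (ha : a ≠ C.x0) : ∃ i : Fin (C.os.length + 1), a ∈ C.subSet i := by
  obtain ⟨en, hen, he⟩ := C.mem_orbit_iff.1 a.2
  have hk : apply en.elem C.L.base ∈ C.L.sorted.map fun i => apply (C.L.tree.get i).elem C.L.base :=
    (keys_nodup C.chk_split.1).2.mem_iff.2 (List.mem_map.2 ⟨en, hen, rfl⟩)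
  obtain ⟨i, hi, hik⟩ := List.mem_map.1 hk
  obtain ⟨⟨k, j⟩, hk2, hkey⟩ := okTags_spec C.tags_ok i hi
  rw [hik] at hkey
  match k with
  | 0 => exact absurd (Subtype.ext (by rw [he, hkey]; rfl)) ha
  | 1 =>
    refine ⟨⟨0, by omega⟩, apply (C.M.tree.get j).elem C.M.base,
      List.mem_map.2 ⟨_, Chain.Tree.get_mem _ _, rfl⟩, ?_⟩
    rw [he, hkey]
    rfl
  | k + 2 =>
    refine ⟨⟨k + 1, by omega⟩, _, List.mem_map.2 ⟨_, Chain.Tree.get_mem _ j, rfl⟩, ?_⟩
    rw [he, hkey]
    rfl

theorem sub_card (i : Fin (C.os.length + 1)) :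
    (C.subSet i).ncard ≤ (C.M.tree.size :: C.os.map Chain.Tree.size).getD i.1 0 := by
  have hlen : (C.sub i).length = (C.M.tree.size :: C.os.map Chain.Tree.size).getD i.1 0 := by
    obtain ⟨i, hi⟩ := i
    match i with
    | 0 => simp [sub, Chain.Tree.length_toList]
    | k + 1 =>
      have hk : k < C.os.length := by omega
      simp [sub, List.getD_eq_getElem?_getD, List.getElem?_eq_getElem hk, Chain.Tree.length_toList]
  rw [← hlen]
  classical
  refine le_trans ?_ ((List.toFinset_card_le ((C.sub i).map pt)).trans (List.length_map _).le)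
  rw [← Set.ncard_coe_finset, ← Set.ncard_image_of_injective _ Subtype.val_injective]
  refine Set.ncard_le_ncard ?_ (Finset.finite_toSet _)
  rintro _ ⟨a, ⟨c, hc, hac⟩, rfl⟩
  simp only [List.coe_toFinset, Set.mem_ofPred_eq, List.mem_map]
  exact ⟨c, hc, hac.symm⟩

theorem ts_pow : (C.t * C.s) ^ C.p = 1 := by
  refine Units.ext ?_
  show (((C.t * C.s) ^ C.p : GL (Fin 28) (ZMod 2)) : Mat) = 1
  rw [Units.val_pow_eq_pow_val, Units.val_mul]
  show (dec C.tC * dec C.sC) ^ C.p = 1
  have key : ∀ n, dec (wordB C.L.gens (List.replicate n [0, 1]).flatten) = (dec C.tC * dec C.sC) ^ n := by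
    intro n
    induction n with
    | zero => simp [wordB, dec_one]
    | succ n ih =>
      rw [List.replicate_succ, List.flatten_cons, List.cons_append, List.cons_append, List.nil_append,
        wordB_dec, wordB_dec, ih, ← mul_assoc, pow_succ']
      rfl
  have h := C.gens_ok
  simp only [okGens, Bool.and_eq_true] at h
  rw [← key, Nat.eq_of_beq_eq_true h.2, dec_one]

theorem t_pow_two : C.t ^ 2 = 1 := by
  refine Units.ext ?_
  rw [pow_two, Units.val_mul, Units.val_one]
  exact C.t_sq

theorem s_pow_three : C.s ^ 3 = 1 := by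
  refine Units.ext ?_
  rw [pow_succ', pow_two, Units.val_mul, Units.val_mul, Units.val_one]
  exact C.s_cube

/-- The group is simple. -/
theorem isSimpleGroup : IsSimpleGroup C.grp := by
  haveI : Nontrivial C.grp := by
    rw [← Finite.one_lt_card_iff_nontrivial, C.card_grp]
    exact C.one_lt
  have hsum : ∑ i : Fin (C.os.length + 1), (C.M.tree.size :: C.os.map Chain.Tree.size).getD i.1 0 =
      C.M.tree.size + (C.os.map Chain.Tree.size).sum := by
    rw [Fin.sum_univ_succ]
    congr 1
    rw [← Fin.sum_univ_getElem (C.os.map Chain.Tree.size)]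
    refine Fintype.sum_equiv (finCongr (List.length_map _).symm) _ _ fun i => ?_
    simp
  refine Criterion.isSimpleGroup_of (Ω := C.Orb) C.faithful C.x0 _ (fun i => C.subSet i) C.sub_card C.sub_conn
    C.sub_cover (by rw [C.card_orb, C.total, hsum]) (by rw [C.card_orb]; exact C.arith) C.prime
    (by rw [C.card_orb]; exact C.p_dvd) (by rw [C.card_grp]; exact C.p_sq)
    (t := ⟨C.t, Subgroup.subset_closure (Set.mem_insert _ _)⟩)
    (s := ⟨C.s, Subgroup.subset_closure (Set.mem_insert_of_mem _ rfl)⟩) ?_ ?_ ?_ ?_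
  · refine Subgroup.map_injective C.grp.subtype_injective ?_
    rw [MonoidHom.map_closure, ← MonoidHom.range_eq_map, Subgroup.range_subtype, Set.image_insert_eq,
      Set.image_singleton]
    rfl
  · exact Subtype.ext C.t_pow_two
  · exact Subtype.ext C.s_pow_three
  · exact Subtype.ext C.ts_pow

end Cert

end Cfsg.Agent.Lib.RuPerm.Action
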