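import Cfsg.Agent.Lib.RuPerm.BigChain
import Cfsg.Agent.Lib.RuPerm.BigCheck0x0
import Cfsg.Agent.Lib.RuPerm.BigCheck0x1
import Cfsg.Agent.Lib.RuPerm.BigCheck0x2
import Cfsg.Agent.Lib.RuPerm.BigCheck0x3
import Cfsg.Agent.Lib.RuPerm.BigCheck1x0
import Cfsg.Agent.Lib.RuPerm.BigCheck1x1

/-!
Kernel checks for the Rudvalis group certificate: the chain.
-/

set_option autoImplicit false

namespace Cfsg.Agent.Lib.RuPerm.BigCheck

open Cfsg.Agent.Lib.SporMatrix Code28

open BigChain

theorem shape0 : shapeB bigLevel0 (bigChain.drop 1) = true := by
  decide +kernel

theorem level0 : Chain.checkLevel coding bigLevel0 (bigChain.drop 1) = true :=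
  checkLevel_of _ _ (forall_node (forall_node (forall_node (forall_of_all BigCheck0x0.part0) (forall_of_all BigCheck0x0.part1)) (forall_node (forall_of_all BigCheck0x1.part0) (forall_of_all BigCheck0x1.part1))) (forall_node (forall_node (forall_of_all BigCheck0x2.part0) (forall_of_all BigCheck0x2.part1)) (forall_node (forall_of_all BigCheck0x3.part0) (forall_of_all BigCheck0x3.part1)))) shape0

theorem shape1 : shapeB bigLevel1 (bigChain.drop 2) = true := by
  decide +kernel

theorem level1 : Chain.checkLevel coding bigLevel1 (bigChain.drop 2) = true :=
  checkLevel_of _ _ (forall_node (forall_node (forall_of_all BigCheck1x0.part0) (forall_of_all BigCheck1x0.part1)) (forall_node (forall_of_all BigCheck1x1.part0) (forall_of_all BigCheck1x1.part1))) shape1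

theorem shape2 : shapeB bigLevel2 (bigChain.drop 3) = true := by
  decide +kernel

theorem entries2 : bigTree2.all (entryB bigLevel2 (bigChain.drop 3)) = true := by
  decide +kernel

theorem level2 : Chain.checkLevel coding bigLevel2 (bigChain.drop 3) = true :=
  checkLevel_of _ _ (forall_of_all entries2) shape2

theorem shape3 : shapeB bigLevel3 (bigChain.drop 4) = true := by
  decide +kernel

theorem entries3 : bigTree3.all (entryB bigLevel3 (bigChain.drop 4)) = true := by
  decide +kernel

theorem level3 : Chain.checkLevel coding bigLevel3 (bigChain.drop 4) = true :=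
  checkLevel_of _ _ (forall_of_all entries3) shape3

theorem shape4 : shapeB bigLevel4 (bigChain.drop 5) = true := by
  decide +kernel

theorem entries4 : bigTree4.all (entryB bigLevel4 (bigChain.drop 5)) = true := by
  decide +kernel

theorem level4 : Chain.checkLevel coding bigLevel4 (bigChain.drop 5) = true :=
  checkLevel_of _ _ (forall_of_all entries4) shape4

theorem shape5 : shapeB bigLevel5 (bigChain.drop 6) = true := by
  decide +kernel

theorem entries5 : bigTree5.all (entryB bigLevel5 (bigChain.drop 6)) = true := by
  decide +kernel

theorem level5 : Chain.checkLevel coding bigLevel5 (bigChain.drop 6) = true :=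
  checkLevel_of _ _ (forall_of_all entries5) shape5

theorem shape6 : shapeB bigLevel6 (bigChain.drop 7) = true := by
  decide +kernel

theorem entries6 : bigTree6.all (entryB bigLevel6 (bigChain.drop 7)) = true := by
  decide +kernel

theorem level6 : Chain.checkLevel coding bigLevel6 (bigChain.drop 7) = true :=
  checkLevel_of _ _ (forall_of_all entries6) shape6

theorem shape7 : shapeB bigLevel7 (bigChain.drop 8) = true := by
  decide +kernel

theorem entries7 : bigTree7.all (entryB bigLevel7 (bigChain.drop 8)) = true := by
  decide +kernel

theorem level7 : Chain.checkLevel coding bigLevel7 (bigChain.drop 8) = true :=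
  checkLevel_of _ _ (forall_of_all entries7) shape7

theorem shape8 : shapeB bigLevel8 (bigChain.drop 9) = true := by
  decide +kernel

theorem entries8 : bigTree8.all (entryB bigLevel8 (bigChain.drop 9)) = true := by
  decide +kernel

theorem level8 : Chain.checkLevel coding bigLevel8 (bigChain.drop 9) = true :=
  checkLevel_of _ _ (forall_of_all entries8) shape8

theorem shape9 : shapeB bigLevel9 (bigChain.drop 10) = true := by
  decide +kernel

theorem entries9 : bigTree9.all (entryB bigLevel9 (bigChain.drop 10)) = true := by
  decide +kernel

theorem level9 : Chain.checkLevel coding bigLevel9 (bigChain.drop 10) = true :=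
  checkLevel_of _ _ (forall_of_all entries9) shape9

theorem chain_ok : Chain.check coding bigChain = true := by
  show (_ && _) = true
  simp only [Chain.check, Bool.and_eq_true]
  exact ⟨level0, level1, level2, level3, level4, level5, level6, level7, level8, level9, trivial⟩

theorem chain_order : Chain.orderOfChain bigChain = 145926144000 := by decide +kernel

end Cfsg.Agent.Lib.RuPerm.BigCheck
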