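import Cfsg.Agent.Lib.SporMatrix.Chain

/-!
A fast code for 28 × 28 matrices over the field with two elements: the packed list of columns, in lanes of 28 bits.
A product costs 28 big-number multiplications.
-/

set_option autoImplicit false
set_option exponentiation.threshold 800

namespace Cfsg.Agent.Lib.RuPerm.Code28

/-- The matrices. -/
abbrev Mat : Type := Matrix (Fin 28) (Fin 28) (ZMod 2)

def lane (N k : ℕ) : ℕ := Nat.mod (Nat.shiftRight N (28 * k)) 268435456

def ones : ℕ → ℕ
  | 0 => 0
  | n + 1 => 1 + 268435456 * ones n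

/-- The all-ones-per-lane mask. -/
def mask : ℕ := ones 28

def mulAux (N X : ℕ) : ℕ → ℕ
  | 0 => 0
  | i + 1 => Nat.xor (mulAux N X i) (Nat.mul (Nat.land (Nat.shiftRight X i) mask) (lane N i))

/-- Matrix product. -/
def mul (N X : ℕ) : ℕ := mulAux N X 28

def applyAux (N v : ℕ) : ℕ → ℕ
  | 0 => 0
  | i + 1 => Nat.xor (applyAux N v i) (Nat.mul (Nat.land (Nat.shiftRight v i) 1) (lane N i))

/-- Matrix times column vector. -/
def apply (N v : ℕ) : ℕ := applyAux N v 28

def oneLanes : ℕ → ℕ → ℕ
  | _, 0 => 0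
  | v, n + 1 => v + 268435456 * oneLanes (2 * v) n

/-- The identity. -/
def one : ℕ := oneLanes 1 28

theorem lane_eq (N k : ℕ) : lane N k = N / 2 ^ (28 * k) % 2 ^ 28 := by
  show N >>> (28 * k) % 268435456 = _
  rw [Nat.shiftRight_eq_div_pow]
  rfl

theorem lane_lt (N k : ℕ) : lane N k < 2 ^ 28 := by
  rw [lane_eq]; exact Nat.mod_lt _ (by positivity)

theorem lane_succ (N k : ℕ) : lane N (k + 1) = lane (N / 2 ^ 28) k := by
  rw [lane_eq, lane_eq, Nat.div_div_eq_div_mul, ← pow_add]
  congr 3
  ring

theorem testBit_lane (N k j : ℕ) : (lane N k).testBit j = (decide (j < 28) && N.testBit (28 * k + j)) := by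
  rw [lane_eq, Nat.testBit_mod_two_pow, ← Nat.shiftRight_eq_div_pow, Nat.testBit_shiftRight]

theorem lane_xor (a b k : ℕ) : lane (Nat.xor a b) k = Nat.xor (lane a k) (lane b k) := by
  apply Nat.eq_of_testBit_eq
  intro j
  show (lane (a ^^^ b) k).testBit j = (lane a k ^^^ lane b k).testBit j
  simp only [testBit_lane, Nat.testBit_xor]
  cases decide (j < 28) <;> simp

theorem land_one (x : ℕ) : Nat.land x 1 = x % 2 := Nat.and_one_is_mod x

theorem lane_mask_mul : ∀ (n X c k : ℕ), c < 2 ^ 28 → k < n →
    lane (Nat.land X (ones n) * c) k = Nat.land (X / 2 ^ (28 * k)) 1 * c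
  | 0, _, _, k, _, h => by omega
  | n + 1, X, c, k, hc, hk => by
    have hsplit : Nat.land X (ones (n + 1)) = X % 2 + 2 ^ 28 * Nat.land (X / 2 ^ 28) (ones n) := by
      show X &&& (1 + 268435456 * ones n) = _ + _ * (X / 2 ^ 28 &&& ones n)
      apply Nat.eq_of_testBit_eq
      intro j
      rw [Nat.testBit_and, show 1 + 268435456 * ones n = 2 ^ 28 * ones n + 1 by ring,
        Nat.testBit_two_pow_mul_add _ (by norm_num),
        show X % 2 + 2 ^ 28 * (X / 2 ^ 28 &&& ones n) = 2 ^ 28 * (X / 2 ^ 28 &&& ones n) + X % 2 by ring,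
        Nat.testBit_two_pow_mul_add _ (by omega)]
      split
      · rw [show X % 2 = X % 2 ^ 1 by norm_num, Nat.testBit_mod_two_pow]
        rcases Nat.eq_zero_or_pos j with rfl | hj
        · simp
        · have h2 : (1 : ℕ).testBit j = false := Nat.testBit_lt_two_pow (Nat.one_lt_two_pow (by omega))
          simp [h2, show ¬ j < 1 by omega]
      · rw [Nat.testBit_and, ← Nat.shiftRight_eq_div_pow, Nat.testBit_shiftRight,
          show 28 + (j - 28) = j by omega]
    rw [hsplit]
    have hlt : X % 2 * c < 2 ^ 28 := by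
      rcases Nat.mod_two_eq_zero_or_one X with h | h <;> rw [h]
      · rw [Nat.zero_mul]; positivity
      · rw [Nat.one_mul]; exact hc
    cases k with
    | zero =>
      rw [land_one, lane_eq, Nat.mul_zero, pow_zero, Nat.div_one, Nat.div_one, Nat.add_mul, Nat.mul_assoc,
        Nat.add_mul_mod_self_left, Nat.mod_eq_of_lt hlt]
    | succ k =>
      have key : ∀ a b d P : ℕ, 0 < P → a * d < P → (a + P * b) * d / P = b * d := by
        intro a b d P hP h
        rw [Nat.add_mul, Nat.mul_assoc, Nat.add_mul_div_left _ _ hP, Nat.div_eq_of_lt h, Nat.zero_add]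
      have hq : X / 2 ^ 28 / 2 ^ (28 * k) = X / 2 ^ (28 * (k + 1)) := by
        rw [Nat.div_div_eq_div_mul, ← pow_add, show 28 + 28 * k = 28 * (k + 1) by ring]
      rw [lane_succ, key _ _ _ _ (Nat.two_pow_pos 28) hlt]
      rw [lane_mask_mul n _ c k hc (Nat.lt_of_succ_lt_succ hk)]
      rw [hq]

theorem lane_mulAux (N X k : ℕ) (hk : k < 28) : ∀ n ≤ 28, lane (mulAux N X n) k = applyAux N (lane X k) n
  | 0, _ => by simp [mulAux, applyAux, lane_eq]
  | n + 1, hn => by
    rw [mulAux, applyAux, lane_xor, lane_mulAux N X k hk n (by omega)]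
    congr 1
    rw [show Nat.mul (Nat.land (Nat.shiftRight X n) mask) (lane N n)
        = Nat.land (Nat.shiftRight X n) (ones 28) * lane N n from rfl,
      lane_mask_mul 28 _ _ k (lane_lt N n) hk]
    show _ * _ = Nat.land (lane X k >>> n) 1 * lane N n
    congr 1
    apply Nat.eq_of_testBit_eq
    intro j
    show ((X >>> n / 2 ^ (28 * k)) &&& 1).testBit j = ((lane X k >>> n) &&& 1).testBit j
    rw [Nat.testBit_and, Nat.testBit_and, ← Nat.shiftRight_eq_div_pow, Nat.testBit_shiftRight,
      Nat.testBit_shiftRight, Nat.testBit_shiftRight, testBit_lane]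
    rcases Nat.eq_zero_or_pos j with rfl | hj
    · simp [show n < 28 by omega, Nat.add_comm]
    · simp [Nat.testBit_lt_two_pow (Nat.one_lt_two_pow (show j ≠ 0 by omega))]

theorem lane_mul (N X k : ℕ) (hk : k < 28) : lane (mul N X) k = apply N (lane X k) :=
  lane_mulAux N X k hk 28 le_rfl

theorem applyAux_lt (N v : ℕ) : ∀ n, applyAux N v n < 2 ^ 28
  | 0 => by simp [applyAux]
  | n + 1 => by
    refine Nat.xor_lt_two_pow (applyAux_lt N v n) ?_
    show Nat.land (v >>> n) 1 * lane N n < 2 ^ 28
    rw [land_one]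
    rcases Nat.mod_two_eq_zero_or_one (v >>> n) with h | h <;> rw [h]
    · rw [Nat.zero_mul]; positivity
    · rw [Nat.one_mul]; exact lane_lt N n

theorem apply_lt (N v : ℕ) : apply N v < 2 ^ 28 := applyAux_lt N v 28

/-! ### Decoding -/

/-- A bit as a scalar. -/
def bit (b : Bool) : ZMod 2 := if b then 1 else 0

theorem bit_xor : ∀ a b : Bool, bit (a ^^ b) = bit a + bit b := by decide

theorem bit_injective : Function.Injective bit := by decide

/-- The vector with a given code. -/
def decV (v : ℕ) : Fin 28 → ZMod 2 := fun z => bit (v.testBit z.1)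

/-- The matrix with a given code. -/
def dec (N : ℕ) : Mat := Matrix.of fun w z => decV (lane N z.1) w

theorem decV_injective {a b : ℕ} (ha : a < 2 ^ 28) (hb : b < 2 ^ 28) (h : decV a = decV b) : a = b := by
  apply Nat.eq_of_testBit_eq
  intro i
  by_cases hi : i < 28
  · exact bit_injective (congrFun h ⟨i, hi⟩)
  · rw [Nat.testBit_lt_two_pow (lt_of_lt_of_le ha (Nat.pow_le_pow_right (by norm_num) (by omega))),
      Nat.testBit_lt_two_pow (lt_of_lt_of_le hb (Nat.pow_le_pow_right (by norm_num) (by omega)))]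

theorem decV_applyAux (N v : ℕ) : ∀ n, decV (applyAux N v n) =
    ∑ i ∈ Finset.range n, bit (v.testBit i) • decV (lane N i)
  | 0 => by funext z; simp [applyAux, decV, bit]
  | n + 1 => by
    rw [Finset.sum_range_succ, ← decV_applyAux N v n]
    funext z
    show bit ((applyAux N v n ^^^ Nat.land (v >>> n) 1 * lane N n).testBit z.1) =
      decV (applyAux N v n) z + bit (v.testBit n) * decV (lane N n) z
    rw [Nat.testBit_xor, bit_xor, land_one, Nat.shiftRight_eq_div_pow, ← Nat.toNat_testBit]
    cases v.testBit n <;> simp [decV, bit]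

theorem decV_apply (N v : ℕ) : decV (apply N v) = Matrix.mulVec (dec N) (decV v) := by
  rw [apply, decV_applyAux]
  funext w
  rw [Finset.sum_apply, Finset.sum_range]
  simp only [Pi.smul_apply, smul_eq_mul, Matrix.mulVec, dotProduct, dec, Matrix.of_apply]
  exact Finset.sum_congr rfl fun z _ => mul_comm _ _

theorem dec_mul (N X : ℕ) : dec (mul N X) = dec N * dec X := by
  funext w z
  show decV (lane (mul N X) z.1) w = _
  rw [lane_mul _ _ _ z.2, decV_apply]
  rfl

theorem dec_one : dec one = 1 := by decide +kernel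

/-- The code of a vector. -/
noncomputable def keyOf (t : Fin 28 → ZMod 2) : ℕ :=
  if h : ∃ v, v < 2 ^ 28 ∧ decV v = t then h.choose else 2 ^ 28

/-- The code of the image of a coded vector under a matrix. -/
noncomputable def vecKey (b : ℕ) (m : Mat) : ℕ := keyOf (Matrix.mulVec m (decV b))

theorem vecKey_eq (b a : ℕ) : vecKey b (dec a) = apply a b := by
  have hex : ∃ v, v < 2 ^ 28 ∧ decV v = Matrix.mulVec (dec a) (decV b) :=
    ⟨_, apply_lt a b, decV_apply a b⟩
  rw [vecKey, keyOf, dif_pos hex]
  exact decV_injective hex.choose_spec.1 (apply_lt a b) (hex.choose_spec.2.trans (decV_apply a b).symm)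

/-- The coding of matrices by packed numbers, with vectors as keys. -/
noncomputable def coding : SporMatrix.Chain.Coding Mat ℕ where
  val := dec
  one := one
  mul := mul
  beq := Nat.beq
  ok _ := true
  key b a := apply a b
  phi := vecKey
  val_one := dec_one
  ok_one := rfl
  val_mul a b _ _ := dec_mul a b
  ok_mul _ _ _ _ := rfl
  beq_val _ _ h := congrArg dec (Nat.eq_of_beq_eq_true h)
  key_val b a _ := (vecKey_eq b a).symm
  phi_congr b x y h := by
    have hex : ∃ v, v < 2 ^ 28 ∧ decV v = Matrix.mulVec (1 : Mat) (decV b) :=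
      ⟨_, apply_lt one b, by rw [decV_apply, dec_one]⟩
    have hy : ∃ v, v < 2 ^ 28 ∧ decV v = Matrix.mulVec y (decV b) := by
      by_contra hno
      rw [vecKey, keyOf, dif_neg hno, vecKey, keyOf, dif_pos hex] at h
      exact absurd h (Nat.ne_of_gt hex.choose_spec.1)
    have h' : Matrix.mulVec y (decV b) = Matrix.mulVec (1 : Mat) (decV b) := by
      rw [vecKey, keyOf, dif_pos hy, vecKey, keyOf, dif_pos hex] at h
      rw [← hy.choose_spec.2, h, hex.choose_spec.2]
    have e : Matrix.mulVec (x * y) (decV b) = Matrix.mulVec x (decV b) := by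
      rw [← Matrix.mulVec_mulVec, h', Matrix.one_mulVec]
    simp only [vecKey, e]

/-- The value of a word in coded generators, for the kernel. -/
def wordB (gs : List ℕ) : List ℕ → ℕ
  | [] => one
  | i :: is => mul (gs.getD i one) (wordB gs is)

/-- The product along a chain, for the kernel. -/
def prodB : List (SporMatrix.Chain.Level ℕ) → List ℕ → ℕ
  | [], _ => one
  | _ :: _, [] => one
  | L :: rest, i :: is => mul (L.tree.get i).elem (prodB rest is)

def closeB (L : SporMatrix.Chain.Level ℕ) (rest : List (SporMatrix.Chain.Level ℕ)) (e : ℕ) :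
    List ℕ → List (ℕ × List ℕ) → Bool
  | [], [] => true
  | g :: gs, t :: ts =>
    Nat.beq (mul g e) (mul (L.tree.get t.1).elem (prodB rest t.2)) && closeB L rest e gs ts
  | _, _ => false

def downB (L : SporMatrix.Chain.Level ℕ) : List ℕ → List (List ℕ) → Bool
  | [], [] => true
  | g :: gs, w :: ws =>
    Nat.beq g (wordB L.gens w) && Nat.beq (apply g L.base) (apply one L.base) && downB L gs ws
  | _, _ => false

/-- The check of one entry of a level. -/
def entryB (L : SporMatrix.Chain.Level ℕ) (rest : List (SporMatrix.Chain.Level ℕ))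
    (en : SporMatrix.Chain.Entry ℕ) : Bool :=
  (bif Nat.beq en.depth 0 then Nat.beq en.elem one
    else Nat.blt (L.tree.get en.par).depth en.depth &&
      Nat.beq en.elem (mul (L.gens.getD en.sg one) (L.tree.get en.par).elem)) &&
  closeB L rest en.elem L.gens en.close

/-- The part of the check outside the entries. -/
def shapeB (L : SporMatrix.Chain.Level ℕ) (rest : List (SporMatrix.Chain.Level ℕ)) : Bool :=
  Nat.beq (L.tree.get 0).depth 0 && Nat.beq L.sorted.length L.tree.size &&
  SporMatrix.Chain.increasing (L.sorted.map fun i => apply (L.tree.get i).elem L.base) &&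
  downB L (SporMatrix.Chain.nextGens rest) L.down

theorem wordB_eq (gs : List ℕ) : ∀ w, wordB gs w = SporMatrix.Chain.word coding gs w
  | [] => rfl
  | _ :: is => by rw [wordB, wordB_eq gs is]; rfl

theorem prodB_eq : ∀ (Ls : List (SporMatrix.Chain.Level ℕ)) (w : List ℕ),
    prodB Ls w = SporMatrix.Chain.prodOf coding Ls w
  | [], _ => rfl
  | _ :: _, [] => rfl
  | _ :: rest, _ :: is => by rw [prodB, prodB_eq rest is]; rfl

theorem closeB_eq (L : SporMatrix.Chain.Level ℕ) (rest : List (SporMatrix.Chain.Level ℕ)) (e : ℕ) :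
    ∀ gs ts, closeB L rest e gs ts = SporMatrix.Chain.checkClose coding L rest e gs ts
  | [], [] => rfl
  | [], _ :: _ => rfl
  | _ :: _, [] => rfl
  | g :: gs, t :: ts => by
    rw [closeB, closeB_eq L rest e gs ts, prodB_eq]; rfl

theorem downB_eq (L : SporMatrix.Chain.Level ℕ) :
    ∀ gs ws, downB L gs ws = SporMatrix.Chain.checkDown coding L gs ws
  | [], [] => rfl
  | [], _ :: _ => rfl
  | _ :: _, [] => rfl
  | g :: gs, w :: ws => by
    rw [downB, downB_eq L gs ws, wordB_eq]; rfl

theorem checkLevel_of (L : SporMatrix.Chain.Level ℕ) (rest : List (SporMatrix.Chain.Level ℕ))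
    (he : ∀ en ∈ L.tree.toList, entryB L rest en = true) (hs : shapeB L rest = true) :
    SporMatrix.Chain.checkLevel coding L rest = true := by
  simp only [entryB, closeB_eq, Bool.and_eq_true] at he
  simp only [shapeB, downB_eq, Bool.and_eq_true] at hs
  obtain ⟨⟨⟨h1, h2⟩, h3⟩, h4⟩ := hs
  simp only [SporMatrix.Chain.checkLevel, Bool.and_eq_true, SporMatrix.Chain.Tree.all_iff]
  exact ⟨⟨⟨⟨⟨⟨⟨List.all_eq_true.2 fun _ _ => rfl, fun _ _ => rfl⟩, fun en h => (he en h).1⟩,
    fun en h => (he en h).2⟩, h1⟩, h2⟩, h3⟩, h4⟩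

theorem forall_node {α : Type*} {p : α → Prop} {l r : SporMatrix.Chain.Tree α} (hl : ∀ a ∈ l.toList, p a)
    (hr : ∀ a ∈ r.toList, p a) : ∀ a ∈ (SporMatrix.Chain.Tree.node l r).toList, p a := by
  intro a ha
  rcases List.mem_append.1 ha with h | h
  · exact hl a h
  · exact hr a h

theorem forall_of_all {α : Type*} {p : α → Bool} {t : SporMatrix.Chain.Tree α} (h : t.all p = true) :
    ∀ a ∈ t.toList, p a = true := (SporMatrix.Chain.Tree.all_iff t).1 h

end Cfsg.Agent.Lib.RuPerm.Code28
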