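import Cfsg.Agent.Lib.RuPerm.TitsChain

/-!
Kernel checks for the Rudvalis group certificate: part of the level 0.
-/

set_option autoImplicit false

namespace Cfsg.Agent.Lib.RuPerm.TitsCheck0x1

open Cfsg.Agent.Lib.SporMatrix Code28

theorem part0 : TitsTree0x10.part.all (entryB TitsChain.titsLevel0 (TitsChain.titsChain.drop 1)) = true := by
  decide +kernel

theorem part1 : TitsTree0x11.part.all (entryB TitsChain.titsLevel0 (TitsChain.titsChain.drop 1)) = true := by
  decide +kernel

end Cfsg.Agent.Lib.RuPerm.TitsCheck0x1
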