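import Cfsg.Agent.Lib.RuPerm.TitsChain
import Cfsg.Agent.Lib.RuPerm.TitsCheck0x0
import Cfsg.Agent.Lib.RuPerm.TitsCheck0x1

/-!
Kernel checks for the Rudvalis group certificate: the chain.
-/

set_option autoImplicit false

namespace Cfsg.Agent.Lib.RuPerm.TitsCheck

open Cfsg.Agent.Lib.SporMatrix Code28

open TitsChain

theorem shape0 : shapeB titsLevel0 (titsChain.drop 1) = true := by
  decide +kernel

theorem level0 : Chain.checkLevel coding titsLevel0 (titsChain.drop 1) = true :=
  checkLevel_of _ _ (forall_node (forall_node (forall_of_all TitsCheck0x0.part0) (forall_of_all TitsCheck0x0.part1)) (forall_node (forall_of_all TitsCheck0x1.part0) (forall_of_all TitsCheck0x1.part1))) shape0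

theorem shape1 : shapeB titsLevel1 (titsChain.drop 2) = true := by
  decide +kernel

theorem entries1 : titsTree1.all (entryB titsLevel1 (titsChain.drop 2)) = true := by
  decide +kernel

theorem level1 : Chain.checkLevel coding titsLevel1 (titsChain.drop 2) = true :=
  checkLevel_of _ _ (forall_of_all entries1) shape1

theorem shape2 : shapeB titsLevel2 (titsChain.drop 3) = true := by
  decide +kernel

theorem entries2 : titsTree2.all (entryB titsLevel2 (titsChain.drop 3)) = true := by
  decide +kernel

theorem level2 : Chain.checkLevel coding titsLevel2 (titsChain.drop 3) = true :=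
  checkLevel_of _ _ (forall_of_all entries2) shape2

theorem shape3 : shapeB titsLevel3 (titsChain.drop 4) = true := by
  decide +kernel

theorem entries3 : titsTree3.all (entryB titsLevel3 (titsChain.drop 4)) = true := by
  decide +kernel

theorem level3 : Chain.checkLevel coding titsLevel3 (titsChain.drop 4) = true :=
  checkLevel_of _ _ (forall_of_all entries3) shape3

theorem shape4 : shapeB titsLevel4 (titsChain.drop 5) = true := by
  decide +kernel

theorem entries4 : titsTree4.all (entryB titsLevel4 (titsChain.drop 5)) = true := by
  decide +kernel

theorem level4 : Chain.checkLevel coding titsLevel4 (titsChain.drop 5) = true :=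
  checkLevel_of _ _ (forall_of_all entries4) shape4

theorem shape5 : shapeB titsLevel5 (titsChain.drop 6) = true := by
  decide +kernel

theorem entries5 : titsTree5.all (entryB titsLevel5 (titsChain.drop 6)) = true := by
  decide +kernel

theorem level5 : Chain.checkLevel coding titsLevel5 (titsChain.drop 6) = true :=
  checkLevel_of _ _ (forall_of_all entries5) shape5

theorem shape6 : shapeB titsLevel6 (titsChain.drop 7) = true := by
  decide +kernel

theorem entries6 : titsTree6.all (entryB titsLevel6 (titsChain.drop 7)) = true := by
  decide +kernel

theorem level6 : Chain.checkLevel coding titsLevel6 (titsChain.drop 7) = true :=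
  checkLevel_of _ _ (forall_of_all entries6) shape6

theorem shape7 : shapeB titsLevel7 (titsChain.drop 8) = true := by
  decide +kernel

theorem entries7 : titsTree7.all (entryB titsLevel7 (titsChain.drop 8)) = true := by
  decide +kernel

theorem level7 : Chain.checkLevel coding titsLevel7 (titsChain.drop 8) = true :=
  checkLevel_of _ _ (forall_of_all entries7) shape7

theorem chain_ok : Chain.check coding titsChain = true := by
  show (_ && _) = true
  simp only [Chain.check, Bool.and_eq_true]
  exact ⟨level0, level1, level2, level3, level4, level5, level6, level7, trivial⟩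

theorem chain_order : Chain.orderOfChain titsChain = 17971200 := by decide +kernel

end Cfsg.Agent.Lib.RuPerm.TitsCheck
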