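import Cfsg.Agent.Lib.RuPerm.Action
import Cfsg.Agent.Lib.RuPerm.BigCheck
import Cfsg.Agent.Lib.RuPerm.TitsCheck
import Cfsg.Prelude.Def_Sporadic
import Cfsg.Prelude.Def_Exceptional

/-!
The Rudvalis group on 4060 points, with a simple subgroup of order 17971200 in a point stabiliser.
-/

set_option autoImplicit false

namespace Cfsg.Agent.Lib.RuPerm.Main

open Cfsg.Agent.Lib.SporMatrix Code28 Action OrbitData OrbitCheck BigChain TitsChain
open scoped MatrixGroups

attribute [local irreducible] Code28.mul Code28.apply Code28.dec Code28.vecKey Code28.one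

theorem bigArith : ∀ I : Finset (Fin 2), I.Nonempty →
    (1 + ∑ i ∈ I, [1755, 2304].getD i.1 0) ∣ 4060 → I = Finset.univ := by decide +kernel

theorem titsArith : ∀ I : Finset (Fin 4), I.Nonempty →
    (1 + ∑ i ∈ I, [10, 1024, 640, 80].getD i.1 0) ∣ 1755 → I = Finset.univ := by decide +kernel

/-- The Rudvalis certificate. -/
def big : Cert where
  L := bigLevel0
  M := bigLevel1
  rest := bigChain.drop 2
  os := bigOs
  tags := bigTags
  order := 145926144000
  p := 29
  prime := by norm_num
  base_lt := bases_lt.1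
  chk := BigCheck.chain_ok
  order_eq := BigCheck.chain_order
  orb_ok := by
    intro t ht
    rw [List.mem_singleton.1 ht]
    exact bigOrbit_ok
  tags_ok := bigTags_ok
  total := by
    simp only [bigOs, List.map_cons, List.map_nil, List.sum_cons, List.sum_nil, sizes.1, sizes.2.1, sizes.2.2.1]
    rfl
  gens_ok := bigGens_ok
  bases := bases_in_orbit.1
  one_lt := by norm_num
  p_dvd := by rw [sizes.1]; norm_num
  p_sq := by norm_num
  arith := by
    simp only [bigOs, List.map_cons, List.map_nil, sizes.1, sizes.2.1, sizes.2.2.1]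
    exact bigArith

/-- The Tits certificate. -/
def tits : Cert where
  L := titsLevel0
  M := titsLevel1
  rest := titsChain.drop 2
  os := titsOs
  tags := titsTags
  order := 17971200
  p := 13
  prime := by norm_num
  base_lt := bases_lt.2
  chk := TitsCheck.chain_ok
  order_eq := TitsCheck.chain_order
  orb_ok := by
    intro t ht
    simp only [titsOs, List.mem_cons, List.not_mem_nil, or_false] at ht
    rcases ht with rfl | rfl | rfl
    exacts [titsOrbit_ok.1, titsOrbit_ok.2.1, titsOrbit_ok.2.2]
  tags_ok := titsTags_ok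
  total := by
    obtain ⟨-, -, -, h1, h2, h3, h4, h5⟩ := sizes
    simp only [titsOs, List.map_cons, List.map_nil, List.sum_cons, List.sum_nil, h1, h2, h3, h4, h5]
    rfl
  gens_ok := titsGens_ok
  bases := bases_in_orbit.2
  one_lt := by norm_num
  p_dvd := by rw [sizes.2.2.2.1]; norm_num
  p_sq := by norm_num
  arith := by
    obtain ⟨-, -, -, h1, h2, h3, h4, h5⟩ := sizes
    simp only [titsOs, List.map_cons, List.map_nil, h1, h2, h3, h4, h5]
    exact titsArith

theorem okInside_spec : ∀ {gs : List ℕ} {ds : List (List ℕ)}, okInside gs ds = true →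
    ∀ g ∈ gs, dec g ∈ Chain.gen coding bigChain ∧ apply g bigLevel0.base = bigLevel0.base
  | [], _, _, g, hg => by simp at hg
  | _ :: _, [], h, _, _ => by simp [okInside] at h
  | g :: gs, d :: ds, h, x, hx => by
    simp only [okInside, Bool.and_eq_true] at h
    rcases List.mem_cons.1 hx with rfl | hx
    · refine ⟨?_, Nat.eq_of_beq_eq_true h.1.2⟩
      rw [Nat.eq_of_beq_eq_true h.1.1, prodB_eq]
      exact (Chain.prodOf_spec coding BigCheck.chain_ok d).2
    · exact okInside_spec h.2 x hx

theorem inside {g : GL (Fin 28) (ZMod 2)} {c : ℕ} (hgc : (g : Mat) = dec c) (hc : c ∈ titsLevel0.gens) :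
    g ∈ big.grp ∧ g • pt bigLevel0.base = pt bigLevel0.base := by
  obtain ⟨hgen, hfix⟩ := okInside_spec inside_ok c hc
  obtain ⟨g', hg', he⟩ := big.mem_gen.1 hgen
  refine ⟨(Units.ext (hgc.trans he.symm) : g = g') ▸ hg', ?_⟩
  rw [smul_pt hgc, hfix]

theorem tits_le : tits.grp ≤ big.grp ⊓ MulAction.stabilizer (GL (Fin 28) (ZMod 2)) (pt bigLevel0.base) := by
  have hgens : titsLevel0.gens = [tits.tC, tits.sC] := tits.gens_eq
  refine (Subgroup.closure_le _).2 ?_
  rintro g (rfl | rfl)
  · exact inside (g := tits.t) (c := tits.tC) rfl (by rw [hgens]; exact List.mem_cons_self)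
  · exact inside (g := tits.s) (c := tits.sC) rfl
      (by rw [hgens]; exact List.mem_cons_of_mem _ List.mem_cons_self)

theorem big_order : big.order = 145926144000 := rfl

theorem tits_order : tits.order = 17971200 := rfl

theorem big_card_orb : Nat.card big.Orb = 4060 := big.card_orb.trans sizes.1

theorem big_base : pt big.L.base = pt bigLevel0.base := rfl

attribute [local irreducible] big tits Cert.grp

/-- A faithful transitive action as a permutation group on numbers. -/
theorem exists_range {G Ω : Type*} [Group G] [MulAction G Ω] [MulAction.IsPretransitive G Ω] [Finite Ω]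
    (hfaith : ∀ g : G, (∀ a : Ω, g • a = a) → g = 1) (x : Ω) (n : ℕ) [NeZero n] (hn : Nat.card Ω = n) :
    ∃ H : Subgroup (Equiv.Perm (Fin n)), ∃ iso : G ≃* H, MulAction.IsPretransitive H (Fin n) ∧
      ∀ g : G, g • x = x → iso g • (0 : Fin n) = 0 := by
  obtain ⟨e₀⟩ : Nonempty (Ω ≃ Fin n) := ⟨Finite.equivFinOfCardEq hn⟩
  obtain ⟨e, he0⟩ : ∃ e : Ω ≃ Fin n, e x = 0 :=
    ⟨e₀.trans (Equiv.swap (e₀ x) 0), Equiv.swap_apply_left _ _⟩
  let φ : G →* Equiv.Perm (Fin n) := e.permCongrHom.toMonoidHom.comp (MulAction.toPermHom G Ω)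
  have hφ : ∀ (g : G) (a : Ω), φ g (e a) = e (g • a) := fun g a => by
    show e (g • e.symm (e a)) = e (g • a)
    rw [e.symm_apply_apply]
  have hinj : Function.Injective φ := by
    refine (injective_iff_map_eq_one φ).2 fun g hg => hfaith g fun a => ?_
    have := hφ g a
    rw [hg, Equiv.Perm.one_apply] at this
    exact (e.injective this).symm
  refine ⟨φ.range, MonoidHom.ofInjective hinj, ⟨fun a b => ?_⟩, fun g hg => ?_⟩
  · obtain ⟨g, hgxy⟩ := MulAction.exists_smul_eq G (e.symm a) (e.symm b)
    refine ⟨⟨φ g, g, rfl⟩, ?_⟩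
    show φ g a = b
    have := hφ g (e.symm a)
    rwa [hgxy, e.apply_symm_apply, e.apply_symm_apply] at this
  · show φ g 0 = 0
    rw [← he0, hφ, hg]

/-- The general assembly. -/
theorem exists_perm_of {G Ω : Type*} [Group G] [MulAction G Ω] [MulAction.IsPretransitive G Ω] [Finite Ω]
    [IsSimpleGroup G] (hfaith : ∀ g : G, (∀ a : Ω, g • a = a) → g = 1) (x : Ω) {n : ℕ} [NeZero n]
    (hn : Nat.card Ω = n) {S : Type*} [Group S] [IsSimpleGroup S] (f : S →* G) (hf : Function.Injective f)
    (hfix : ∀ a, f a • x = x) {m k l : ℕ} (hG : Nat.card G = m) (hk : n * k = m) (hS : Nat.card S = l) :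
    ∃ H : Subgroup (Equiv.Perm (Fin n)), (IsSimpleGroup H ∧ Nat.card H = m) ∧
      MulAction.IsPretransitive H (Fin n) ∧ Nat.card (MulAction.stabilizer H (0 : Fin n)) = k ∧
      ∃ T : Subgroup (MulAction.stabilizer H (0 : Fin n)), IsSimpleGroup T ∧ Nat.card T = l := by
  obtain ⟨H, iso, htr, hst⟩ := exists_range hfaith x n hn
  have hH : Nat.card H = m := by rw [← Nat.card_congr iso.toEquiv, hG]
  refine ⟨H, ⟨iso.symm.isSimpleGroup, hH⟩, htr, ?_, ?_⟩
  · have hi := MulAction.index_stabilizer_of_transitive H (0 : Fin n)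
    rw [Nat.card_fin] at hi
    have h := Subgroup.card_mul_index (MulAction.stabilizer H (0 : Fin n))
    rw [hi, hH, ← hk, Nat.mul_comm n k] at h
    exact Nat.eq_of_mul_eq_mul_right (Nat.pos_of_ne_zero (NeZero.ne n)) h
  · let ψ : S →* MulAction.stabilizer H (0 : Fin n) :=
      (iso.toMonoidHom.comp f).codRestrict _ fun a => hst _ (hfix a)
    have hψ : Function.Injective ψ := fun a b h => hf (iso.injective (congrArg Subtype.val h))
    refine ⟨ψ.range, (MonoidHom.ofInjective hψ).symm.isSimpleGroup, ?_⟩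
    rw [← Nat.card_congr (MonoidHom.ofInjective hψ).toEquiv, hS]

/-- The realisation on 4060 points. -/
theorem exists_perm : ∃ H : Subgroup (Equiv.Perm (Fin 4060)), Cfsg.IsRu H ∧
    MulAction.IsPretransitive H (Fin 4060) ∧
    Nat.card (MulAction.stabilizer H (0 : Fin 4060)) = 35942400 ∧
    ∃ T : Subgroup (MulAction.stabilizer H (0 : Fin 4060)), Cfsg.IsTits T := by
  have hcard : Nat.card big.Orb = 4060 := big_card_orb
  have : Finite big.Orb := Nat.finite_of_card_ne_zero (by rw [hcard]; norm_num)
  have : IsSimpleGroup big.grp := big.isSimpleGroup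
  have : IsSimpleGroup tits.grp := tits.isSimpleGroup
  let f : tits.grp →* big.grp := Subgroup.inclusion fun g hg => (tits_le hg).1
  have hf : Function.Injective f := Subgroup.inclusion_injective _
  have hfix : ∀ a, f a • big.x0 = big.x0 := fun a => by
    refine Subtype.ext ?_
    show (a : GL (Fin 28) (ZMod 2)) • pt big.L.base = pt big.L.base
    rw [big_base]
    exact (tits_le a.2).2
  exact exists_perm_of big.faithful big.x0 hcard f hf hfix (big.card_grp.trans big_order)
    (show 4060 * 35942400 = 145926144000 by norm_num) (tits.card_grp.trans tits_order)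

end Cfsg.Agent.Lib.RuPerm.Main
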